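import Cfsg.Agent.Lib.CFun.FocalThree.Pure

/-!
# The axis of the coordinates is invariant under the Sylow subgroup

If a conjugate of the axis under `T` leaves it, then the conjugates of the plane fall into blocks permuted by the
whole group, and the offenders in `T` fix every block.
-/

set_option autoImplicit false
set_option linter.unusedSectionVars false
set_option linter.style.haveILetI false

open CfsgLib.Char.NatSL (fixS mem_fixS fixS_mono)

namespace CfsgLib.FocalThree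

universe u v

variable {H : Type u} [Group H] [Finite H] {U : Type v} [AddCommGroup U] [Finite U] [DistribMulAction H U]
  {p : ℕ} [hp : Fact p.Prime] {T : Sylow p H} {M T₁ : Subgroup H}

namespace Model

variable (m : Model U (T : Subgroup H) M)

theorem R_eq_smul (x : m.F) : m.pt x 0 0 = m.ua x • m.pt 0 1 0 - m.pt 0 1 0 := by
  rw [ua_pt, pt_sub]; simp

/-- An element mapping upper unipotent elements to upper ones keeps the axis. -/
theorem mem_stab_R {k : H} (h : ∀ l, ∃ l', k * m.ua l * k⁻¹ = m.ua l') : k ∈ stab m.R := by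
  intro u hu
  obtain ⟨x, rfl⟩ := m.mem_R.1 hu
  obtain ⟨l', hl'⟩ := h x
  obtain ⟨a, b, c, hv⟩ := m.exists_pt (k • m.pt 0 1 0)
  rw [R_eq_smul, smul_sub, show k • m.ua x • m.pt 0 1 0 = (k * m.ua x * k⁻¹) • k • m.pt 0 1 0 by
    rw [mul_smul, mul_smul, inv_smul_smul], hl', hv, ua_pt, pt_sub]
  simp

/-- The fixed space of the upper unipotent elements is kept as well. -/
theorem mem_stab_CA {k : H} (h : ∀ l, ∃ l', k * m.ua l * k⁻¹ = m.ua l') : k ∈ stab m.CA := by
  classical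
  choose f hf using h
  have hf' : Function.Surjective f := Finite.injective_iff_surjective.1 fun a b hab => by
    refine m.ua_injective ?_
    have h1 : k * m.ua a * k⁻¹ = k * m.ua b * k⁻¹ := by rw [hf, hf, hab]
    simpa using h1
  intro u hu
  obtain ⟨x, y, c, rfl⟩ := m.exists_pt u
  obtain rfl := m.pt_mem_CA.1 hu
  obtain ⟨a, ha⟩ := hf' 1
  obtain ⟨x', y', c', hv⟩ := m.exists_pt (k • m.pt x 0 c)
  have h2 : m.ua 1 • k • m.pt x 0 c = k • m.pt x 0 c := by
    rw [← ha, ← hf, mul_smul, mul_smul, inv_smul_smul, ua_pt, mul_zero, add_zero]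
  rw [hv, ua_pt, pt_inj] at h2
  rw [hv, pt_mem_CA]
  simpa using h2.1

/-- On the axis an element keeping it is semilinear. -/
theorem semilinear {k : H} (hk : ∀ l, ∃ l', k * m.ua l * k⁻¹ = m.ua l') :
    ∃ β b : m.F →+ m.F, ∃ f : m.F → m.F, (∀ x, k • m.pt x 0 0 = m.pt (β x) 0 0) ∧
      (∀ y, (m.e (k • m.pt 0 y 0)).2.1 = b y) ∧ (∀ l, k * m.ua l * k⁻¹ = m.ua (f l)) ∧
      (∀ l y, β (l * y) = f l * b y) ∧ b 1 ≠ 0 ∧ (∀ x, x ≠ 0 → β x ≠ 0) ∧
      ∀ l y, β (l * y) * β 1 = β l * β y := by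
  classical
  choose f hf using hk
  let β : m.F →+ m.F := AddMonoidHom.mk' (fun x => (m.e (k • m.pt x 0 0)).1) fun a b => by
    rw [← Prod.fst_add, ← map_add, ← smul_add, pt_add]; simp
  let b : m.F →+ m.F := AddMonoidHom.mk' (fun y => (m.e (k • m.pt 0 y 0)).2.1) fun a b => by
    rw [← Prod.fst_add, ← Prod.snd_add, ← map_add, ← smul_add, pt_add]; simp
  have hβ : ∀ x, k • m.pt x 0 0 = m.pt (β x) 0 0 := fun x => by
    obtain ⟨x', hx'⟩ := m.mem_R.1 (m.mem_stab_R (fun l => ⟨f l, hf l⟩) (m.pt x 0 0) (by simp))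
    rw [← hx']
    congr 1
    show x' = (m.e _).1
    rw [← hx', e_pt]
  have hmul : ∀ l y, β (l * y) = f l * b y := fun l y => by
    obtain ⟨a, y', c, hv⟩ := m.exists_pt (k • m.pt 0 y 0)
    have hb : b y = y' := by
      show (m.e _).2.1 = y'
      rw [hv, e_pt]
    have h1 : k • m.pt (l * y) 0 0 = m.pt (f l * y') 0 0 := by
      rw [show m.pt (l * y) 0 0 = m.ua l • m.pt 0 y 0 - m.pt 0 y 0 by rw [ua_pt, pt_sub]; simp,
        smul_sub, show k • m.ua l • m.pt 0 y 0 = (k * m.ua l * k⁻¹) • k • m.pt 0 y 0 by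
          rw [mul_smul, mul_smul, inv_smul_smul], hf, hv, ua_pt, pt_sub]
      simp
    rw [hβ, pt_inj] at h1
    rw [h1.1, hb]
  have hβ0 : ∀ x, x ≠ 0 → β x ≠ 0 := fun x hx h0 => by
    have h1 := hβ x
    rw [h0, pt_zero, smul_eq_zero_iff_eq, ← m.pt_zero, pt_inj] at h1
    exact hx h1.1
  have hb1 : b 1 ≠ 0 := fun h => hβ0 1 one_ne_zero (by simpa [h] using hmul 1 1)
  refine ⟨β, b, f, hβ, fun y => rfl, hf, hmul, hb1, hβ0, fun l y => ?_⟩
  have h1 := hmul l 1
  have h2 := hmul 1 y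
  have h3 := hmul 1 1
  rw [mul_one] at h1 h3
  rw [one_mul] at h2
  rw [hmul, h1, h2, h3]
  ring

/-- Where two fixed vectors of a semilinear map force it to be trivial. -/
theorem semilinear_id {β : m.F →+ m.F} (h0 : ∀ x, x ≠ 0 → β x ≠ 0)
    (h : ∀ l y, β (l * y) * β 1 = β l * β y) {x₀ : m.F} (hx₀ : x₀ ≠ 0) (hfix : β x₀ = x₀) {μ : m.Fˣ}
    (hμ : ∀ x : m.Fˣ, x ∈ Subgroup.zpowers μ) (hfixμ : β ((μ : m.F) * x₀) = μ * x₀) (x : m.F) : β x = x := by
  have h1 : β 1 ≠ 0 := h0 1 one_ne_zero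
  let S : Subgroup m.Fˣ :=
    { carrier := {a | β (a : m.F) = a * β 1}
      one_mem' := by simp
      mul_mem' := fun {a b} ha hb => by
        show β ((a * b : m.Fˣ) : m.F) = _
        have := h (a : m.F) b
        rw [show β (a : m.F) = a * β 1 from ha, show β (b : m.F) = b * β 1 from hb] at this
        push_cast
        exact mul_right_cancel₀ h1 (by rw [this]; ring)
      inv_mem' := fun {a} ha => by
        show β ((a⁻¹ : m.Fˣ) : m.F) = _
        have := h (a : m.F) ((a⁻¹ : m.Fˣ) : m.F)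
        rw [Units.mul_inv, show β (a : m.F) = a * β 1 from ha] at this
        have h2 : β 1 = (a : m.F) * β ((a⁻¹ : m.Fˣ) : m.F) :=
          mul_right_cancel₀ h1 (by linear_combination this)
        conv_rhs => rw [h2, Units.inv_mul_cancel_left] }
  have hμS : μ ∈ S := by
    show β (μ : m.F) = μ * β 1
    have := h (μ : m.F) x₀
    rw [hfixμ, hfix] at this
    exact mul_right_cancel₀ hx₀ (by linear_combination -this)
  have hall : ∀ x : m.F, β x = x * β 1 := fun x => by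
    by_cases hx : x = 0
    · simp [hx]
    · exact (Subgroup.zpowers_le.2 hμS) (hμ (Units.mk0 x hx))
  have h2 : β 1 = 1 := by
    have := hall x₀
    rw [hfix] at this
    exact mul_left_cancel₀ hx₀ (by rw [← this, mul_one])
  rw [hall, h2, mul_one]

variable {Y : AddSubgroup U}

namespace YData

variable {m}

theorem conj_upper (hY : m.YData Y) {τ : H} (hτ : τ ∈ (T : Subgroup H)) (l : m.F) :
    τ * m.ua l * τ⁻¹ ∈ fixMod Y :=
  fixMod_conj (hY.inv hτ) (hY.ua_fixMod l)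

/-- An element of `T` keeps the axis or sends it into the third coordinate. -/
theorem keep_or_send (hY : m.YData Y) (ff : FF U p T M T₁) {τ : H} (hτ : τ ∈ (T : Subgroup H)) :
    τ ∈ stab m.R ∨ ((∀ x, ∃ c, τ • m.pt x 0 0 = m.pt 0 0 c) ∧
      ∀ l x y, m.ua l • τ⁻¹ • m.pt x y 0 = τ⁻¹ • m.pt x y 0) := by
  rcases hY.dich ff (hY.conj_upper hτ) with h | ⟨h1, h2⟩
  · exact Or.inl (m.mem_stab_R h)
  · refine Or.inr ⟨h2, fun l x y => ?_⟩
    have := h1 l x y
    rw [mul_smul, mul_smul] at this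
    exact eq_inv_smul_iff.2 this

/-- An element of `T` leaving the axis sends the plane into the third coordinate. -/
theorem send_plane (hY : m.YData Y) (ff : FF U p T M T₁) {τ : H} (hτ : τ ∈ (T : Subgroup H))
    (hτR : τ ∉ stab m.R) (x y : m.F) : ∃ c, τ • m.pt x y 0 = m.pt 0 0 c := by
  classical
  have hτ' : τ⁻¹ ∉ stab m.R := fun h => hτR (by simpa using (stab m.R).inv_mem h)
  obtain ⟨hsend, hfixτ⟩ := (hY.keep_or_send ff hτ).resolve_left hτR
  obtain ⟨hsend', hfixτ'⟩ := (hY.keep_or_send ff (inv_mem hτ)).resolve_left hτ'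
  rw [inv_inv] at hfixτ'
  -- the planes go into the fixed space
  have hplane : ∀ x y, ∃ a c, τ • m.pt x y 0 = m.pt a 0 c := fun x y => by
    obtain ⟨a, b, c, h⟩ := m.exists_pt (τ • m.pt x y 0)
    have h1 := hfixτ' 1 x y
    rw [h, ua_pt, pt_inj] at h1
    exact ⟨a, c, by rw [h, show b = 0 by simpa using h1.1]⟩
  have hplane' : ∀ x y, ∃ a c, τ⁻¹ • m.pt x y 0 = m.pt a 0 c := fun x y => by
    obtain ⟨a, b, c, h⟩ := m.exists_pt (τ⁻¹ • m.pt x y 0)
    have h1 := hfixτ 1 x y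
    rw [h, ua_pt, pt_inj] at h1
    exact ⟨a, c, by rw [h, show b = 0 by simpa using h1.1]⟩
  -- the two involutions
  set t := m.tor (-1) with ht
  obtain ⟨t', ht'⟩ : ∃ t', t' = τ⁻¹ * t * τ := ⟨_, rfl⟩
  have htpt : ∀ x y c, t • m.pt x y c = m.pt (-x) (-y) c := fun x y c => by rw [ht, tor_pt]; simp
  have htt : t * t = 1 := m.ext_pt ff.faith fun x y c => by rw [mul_smul, htpt, htpt, one_smul, neg_neg, neg_neg]
  have ht't' : t' * t' = 1 := by
    rw [ht', show τ⁻¹ * t * τ * (τ⁻¹ * t * τ) = τ⁻¹ * (t * t) * τ by group, htt]; group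
  have ht's : ∀ u a b c, τ • u = m.pt a b c → t' • u = u + τ⁻¹ • m.pt (-a - a) (-b - b) 0 := by
    intro u a b c h
    rw [ht', mul_smul, mul_smul, h, htpt, ← sub_eq_iff_eq_add']
    conv_lhs => rw [← inv_smul_smul τ u, h]
    rw [← smul_sub, pt_sub, sub_self]
  have ht'Y : t' ∈ stab Y := ht' ▸ (stab Y).mul_mem ((stab Y).mul_mem ((stab Y).inv_mem (hY.inv hτ)) (hY.tor_mem _))
    (hY.inv hτ)
  have ht'R : ∀ x, t' • m.pt x 0 0 = m.pt x 0 0 := fun x => by
    obtain ⟨c, hc⟩ := hsend x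
    rw [ht's _ _ _ _ hc, neg_zero, sub_zero, pt_zero, smul_zero, add_zero]
  obtain ⟨g, hg⟩ : ∃ g, g = t' * t * (t' * t) := ⟨_, rfl⟩
  -- on `Y`
  have hgfix : ∀ u ∈ Y, g • u = u := by
    intro u hu
    obtain ⟨x, y, c, rfl⟩ := m.exists_pt u
    obtain ⟨rfl, hc⟩ := hY.mem_iff.1 hu
    obtain ⟨a, b, c', h⟩ := m.exists_pt (τ • m.pt 0 0 c)
    have hb : b = 0 := (hY.mem_iff.1 (h ▸ hY.inv hτ _ hc)).1
    subst hb
    obtain ⟨d, hd⟩ := hsend' (-a - a)
    have h1 : t' • m.pt 0 0 c = m.pt 0 0 (c + d) := by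
      rw [ht's _ _ _ _ h, neg_zero, sub_zero, hd, pt_add, add_zero]
    have h2 : t' • m.pt x 0 c = m.pt x 0 (c + d) := by
      rw [show m.pt x 0 c = m.pt x 0 0 + m.pt 0 0 c by rw [pt_add]; simp, smul_add, ht'R, h1, pt_add]
      simp
    have h3 : t' • m.pt x 0 (c + d) = m.pt x 0 c := by
      rw [← h2, ← mul_smul, ht't', one_smul]
    have h4 : t' • m.pt (-x) 0 c = m.pt (-x) 0 (c + d) := by
      rw [show m.pt (-x) 0 c = m.pt (-x) 0 0 + m.pt 0 0 c by rw [pt_add]; simp, smul_add, ht'R, h1, pt_add]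
      simp
    rw [hg, mul_smul, mul_smul, mul_smul, htpt, neg_zero, h4, htpt, neg_neg, neg_zero, h3]
  -- modulo `Y`
  have hgY : ∀ u : U, g • u - u ∈ Y := by
    intro u
    obtain ⟨x, y, c, rfl⟩ := m.exists_pt u
    have hRY : ∀ x', m.pt x' 0 0 ∈ Y := fun x' => hY.ge (by simp)
    have hτR' : ∀ a, τ⁻¹ • m.pt a 0 0 ∈ Y := fun a => (stab Y).inv_mem (hY.inv hτ) _ (hRY a)
    -- modulo `Y`, `t'` moves the vector only along the image of the second axis
    have key : ∀ x y c, ∃ β, ∀ x' y', t' • m.pt x' y' c - m.pt x' y' c - τ⁻¹ • m.pt 0 β 0 ∈ Y ∧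
        (m.e (τ • m.pt x y c)).2.1 + (m.e (τ • m.pt x y c)).2.1 = -β := by
      intro x y c
      obtain ⟨a, b, c', h⟩ := m.exists_pt (τ • m.pt x y c)
      refine ⟨-b - b, fun x' y' => ⟨?_, by rw [h, e_pt]; abel⟩⟩
      obtain ⟨a₁, c₁, h₁⟩ := hplane (x' - x) (y' - y)
      have h2 : τ • m.pt x' y' c = m.pt (a + a₁) b (c' + c₁) := by
        rw [show m.pt x' y' c = m.pt x y c + m.pt (x' - x) (y' - y) 0 by rw [pt_add]; simp, smul_add, h, h₁,
          pt_add, add_zero]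
      rw [ht's _ _ _ _ h2, add_sub_cancel_left, ← smul_sub, pt_sub, sub_self, sub_self]
      exact hτR' _
    obtain ⟨β, hβ⟩ := key x y c
    obtain ⟨a, c₁, hτβ⟩ := hplane' 0 β
    -- first step
    have e1 := (hβ (-x) (-y)).1
    rw [hτβ] at e1
    -- second step
    set u₂ := t • t' • m.pt (-x) (-y) c with hu₂
    have e2 : u₂ - m.pt x y (c + c₁) ∈ Y := by
      have h3 : t • (t' • m.pt (-x) (-y) c - m.pt (-x) (-y) c - m.pt a 0 c₁) ∈ Y := hY.tor_mem _ _ e1
      rw [smul_sub, smul_sub, htpt, htpt, neg_neg, neg_neg, neg_zero] at h3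
      have h4 := Y.add_mem h3 (hRY (-a))
      convert h4 using 1
      rw [show m.pt x y (c + c₁) = m.pt x y c + m.pt (-a) 0 c₁ - m.pt (-a) 0 0 by rw [pt_add, pt_sub]; simp]
      abel
    -- last step
    have e3 : t' • u₂ - t' • m.pt x y (c + c₁) ∈ Y := by rw [← smul_sub]; exact ht'Y _ e2
    obtain ⟨β', hβ'⟩ := key x y (c + c₁)
    have hττ : τ • m.pt a 0 c₁ = m.pt 0 β 0 := by rw [← hτβ, smul_inv_smul]
    have hββ' : β' = -β := by
      have h5 := (hβ x y).2
      have h6 := (hβ' x y).2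
      have h7 : τ • m.pt x y (c + c₁) = τ • m.pt x y c + (m.pt 0 β 0 - τ • m.pt a 0 0) := by
        rw [← hττ, ← smul_sub, pt_sub, sub_self, sub_self, sub_zero, ← smul_add, pt_add, add_zero, add_zero]
      obtain ⟨d, hd⟩ := hsend a
      rw [h7, hd, map_add, map_sub, e_pt, e_pt, Prod.snd_add, Prod.snd_sub, Prod.fst_add, Prod.fst_sub,
        sub_zero] at h6
      linear_combination h6 - h5
    have e4 := (hβ' x y).1
    rw [hββ', show m.pt 0 (-β) 0 = -m.pt 0 β 0 by rw [pt_neg]; simp, smul_neg, hτβ] at e4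
    rw [hg, mul_smul, mul_smul, mul_smul, htpt, ← hu₂]
    have e5 := Y.sub_mem (Y.add_mem e3 e4) (hRY a)
    convert e5 using 1
    rw [show m.pt a 0 c₁ = m.pt x y (c + c₁) - m.pt x y c + m.pt a 0 0 by rw [pt_sub, pt_add]; simp]
    abel
  obtain ⟨l, δ, hshape⟩ := hY.pure ff (mem_fixMod.2 ⟨hgfix, hgY⟩)
  have hgg : g * g = 1 := by
    have hcomm : t * g = g * t := m.ext_pt ff.faith fun x y c => by
      rw [mul_smul, mul_smul, hshape, htpt, htpt, hshape, pt_inj]
      refine ⟨by ring, rfl, rfl⟩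
    have hinv : t * g * t = g⁻¹ := by
      rw [hg, eq_inv_iff_mul_eq_one]
      calc t * (t' * t * (t' * t)) * t * (t' * t * (t' * t))
          = t * t' * t * (t' * (t * t) * t') * t * t' * t := by group
        _ = 1 := by rw [htt, mul_one, ht't', mul_one, mul_assoc (t * t') t t, htt, mul_one,
            mul_assoc t t' t', ht't', mul_one, htt]
    rw [hcomm, mul_assoc, htt, mul_one] at hinv
    nth_rewrite 1 [hinv]
    exact inv_mul_cancel g
  have hg1 : g = 1 := by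
    obtain ⟨j, hj⟩ := fixMod_pgroup ff Y ⟨g, mem_fixMod.2 ⟨hgfix, hgY⟩⟩
    replace hj : g ^ p ^ j = 1 := congrArg Subtype.val hj
    obtain ⟨i, hi⟩ := (hp.out.odd_of_ne_two ff.odd).pow (n := j)
    rw [hi, pow_add, pow_mul, pow_two, hgg, one_pow, one_mul, pow_one] at hj
    exact hj
  have hcommt : t' * t = t * t' := by
    have h1 : t' * t = (t' * t)⁻¹ := eq_inv_of_mul_eq_one_left (hg ▸ hg1)
    rwa [mul_inv_rev, inv_eq_of_mul_eq_one_right ht't', inv_eq_of_mul_eq_one_right htt] at h1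
  -- no first coordinate
  have hy0 : ∀ y, ∃ c, τ • m.pt 0 y 0 = m.pt 0 0 c := fun y => by
    obtain ⟨a, c, h⟩ := hplane 0 y
    obtain ⟨d, hd⟩ := hsend' (-a - a)
    have h1 : t' • m.pt 0 y 0 = m.pt 0 y d := by
      rw [ht's _ _ _ _ h, neg_zero, sub_zero, hd, pt_add]; simp
    have h2 : t' • t • m.pt 0 y 0 = t • t' • m.pt 0 y 0 := by rw [← mul_smul, hcommt, mul_smul]
    rw [h1, htpt, htpt, show m.pt (-0) (-y) 0 = -m.pt 0 y 0 by rw [pt_neg]; simp, smul_neg, h1, pt_neg,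
      pt_inj] at h2
    have hd0 : d = 0 := m.two_C ff (eq_neg_iff_add_eq_zero.1 h2.2.2.symm)
    rw [hd0, pt_zero, smul_eq_zero_iff_eq, ← m.pt_zero, pt_inj] at hd
    have ha : (2 : m.F) * a = 0 := by linear_combination -hd.1
    exact ⟨c, by rw [h, (mul_eq_zero.1 ha).resolve_left (m.two_ne_zero ff)]⟩
  obtain ⟨c₁, h₁⟩ := hsend x
  obtain ⟨c₂, h₂⟩ := hy0 y
  exact ⟨c₁ + c₂, by rw [show m.pt x y 0 = m.pt x 0 0 + m.pt 0 y 0 by rw [pt_add]; simp, smul_add, h₁, h₂,
    pt_add, add_zero]⟩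

/-- An offender keeps the axis. -/
theorem offender_keep (hY : m.YData Y) (ff : FF U p T M T₁) {D : Subgroup H} (hDT : D ≤ (T : Subgroup H))
    (hcomm : ∀ a ∈ D, ∀ b ∈ D, a * b = b * a)
    (hoff : Nat.card U ≤ Nat.card ↥D * Nat.card ↥(fixS U D)) : D ≤ stab m.R := by
  classical
  set S := D ⊓ stab m.R with hS
  by_contra hne
  have hSD : S ≠ D := fun h => hne (h ▸ inf_le_right)
  -- the kernel
  let K : Subgroup H :=
    { carrier := {d | d ∈ D ∧ ∀ u ∈ m.R, d • u = u}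
      one_mem' := ⟨D.one_mem, fun u _ => one_smul H u⟩
      mul_mem' := fun {a b} ha hb => ⟨D.mul_mem ha.1 hb.1, fun u hu => by rw [mul_smul, hb.2 u hu, ha.2 u hu]⟩
      inv_mem' := fun {a} ha => ⟨D.inv_mem ha.1, fun u hu => inv_smul_eq_iff.2 (ha.2 u hu).symm⟩ }
  have hKD : K ≤ D := fun d hd => hd.1
  have hKS : K ≤ S := fun d hd => ⟨hd.1, fun u hu => by rw [hd.2 u hu]; exact hu⟩
  have hDp : IsPGroup p D := T.2.to_le hDT
  -- the orbit
  set ι := ↥D ⧸ S.subgroupOf D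
  haveI : Fintype ι := Fintype.ofFinite _
  let d : ι → H := fun i => ((Quotient.out i : ↥D) : H)
  have hdD : ∀ i, d i ∈ D := fun i => SetLike.coe_mem _
  have hsep : ∀ i j, i ≠ j → (d j)⁻¹ * d i ∉ stab m.R := fun i j hij h => hij (by
    rw [← QuotientGroup.out_eq' i, ← QuotientGroup.out_eq' j, eq_comm, QuotientGroup.eq,
      Subgroup.mem_subgroupOf]
    exact ⟨D.mul_mem (D.inv_mem (hdD j)) (hdD i), h⟩)
  let Φ : (ι → m.F) →+ U := AddMonoidHom.mk' (fun r => ∑ i, d i • m.pt (r i) 0 0) fun r r' => by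
    rw [← Finset.sum_add_distrib]
    refine Finset.sum_congr rfl fun i _ => ?_
    rw [← smul_add, pt_add]
    simp
  let pr : ι → U →+ m.F := fun j => AddMonoidHom.mk' (fun u => (m.e ((d j)⁻¹ • u)).1) fun a b => by
    rw [smul_add, map_add, Prod.fst_add]
  have hpr : ∀ r j, pr j (Φ r) = r j := fun r j => by
    show pr j (∑ i, _) = _
    rw [map_sum, Finset.sum_eq_single j]
    · show (m.e _).1 = _
      rw [inv_smul_smul, e_pt]
    · intro i _ hij
      obtain ⟨c, hc⟩ := hY.send_plane ff (hDT (D.mul_mem (D.inv_mem (hdD j)) (hdD i))) (hsep i j hij) (r i) 0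
      show (m.e _).1 = _
      rw [← mul_smul, hc, e_pt]
    · simp
  have hΦi : Function.Injective Φ := fun r r' h => funext fun j => by rw [← hpr r j, h, hpr]
  set W := Φ.range with hW
  set q := Nat.card m.F with hq
  set s := Nat.card ι with hs
  have hWcard : Nat.card ↥W = q ^ s := by
    rw [hW, ← Nat.card_congr (AddMonoidHom.ofInjective hΦi).toEquiv, Nat.card_fun]
  -- the fixed vectors of `D` in the orbit
  have hWfix : Nat.card ↥(fixS U D ⊓ W) ≤ q := by
    refine Nat.card_le_card_of_injective (fun u => (m.e (u : U)).1) ?_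
    rintro ⟨_, h1, r, rfl⟩ ⟨_, h1', r', rfl⟩ h
    refine Subtype.ext (congrArg Φ (funext fun j => ?_))
    rw [← hpr r j, ← hpr r' j]
    show (m.e _).1 = (m.e _).1
    rw [h1 _ (D.inv_mem (hdD j)), h1' _ (D.inv_mem (hdD j))]
    exact h
  have hWK : fixS U D ⊔ W ≤ fixS U K := by
    refine sup_le (fixS_mono hKD) ?_
    rintro _ ⟨r, rfl⟩ a ha
    show a • ∑ i, _ = ∑ i, _
    rw [Finset.smul_sum]
    refine Finset.sum_congr rfl fun i _ => ?_
    rw [← mul_smul, hcomm a ha.1 _ (hdD i), mul_smul, ha.2 _ (by simp)]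
  -- counting
  have hsup := CfsgLib.Char.NatSL.card_sup_mul_card_inf (fixS U D) W
  have hno := ff.no_over (hDp.to_le hKD) fun a ha b hb => hcomm a (hKD ha) b (hKD hb)
  have hkey : Nat.card ↥K * q ^ s ≤ Nat.card ↥D * q := by
    have h1 := (Nat.mul_le_mul_left (Nat.card ↥K) (AddSubgroup.card_le_of_le hWK)).trans (hno.trans hoff)
    refine Nat.le_of_mul_le_mul_right (c := Nat.card ↥(fixS U D)) ?_ Nat.card_pos
    rw [← hWcard]
    calc Nat.card ↥K * Nat.card ↥W * Nat.card ↥(fixS U D)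
        = Nat.card ↥K * Nat.card ↥(fixS U D ⊔ W) * Nat.card ↥(fixS U D ⊓ W) := by
          rw [mul_assoc (Nat.card ↥K) (Nat.card ↥(fixS U D ⊔ W)), hsup]; ring
      _ ≤ Nat.card ↥D * Nat.card ↥(fixS U D) * q := Nat.mul_le_mul h1 hWfix
      _ = _ := by ring
  -- the stabilizer acts semilinearly
  have hSK : Nat.card ↥S ≤ (q - 1) * Nat.card ↥K := by
    obtain ⟨v, hvR, hv0, hvfix⟩ := exists_fix_mod ff.expp (hDp.to_le (inf_le_left : S ≤ D)) m.R ⊥
      (inf_le_right) (fun g _ x hx => by simp [AddSubgroup.mem_bot.1 hx])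
      (fun h => m.R_ne_bot (le_bot_iff.1 h))
    obtain ⟨x₀, rfl⟩ := m.mem_R.1 hvR
    have hx₀ : x₀ ≠ 0 := fun h => hv0 (by rw [h, pt_zero]; exact zero_mem _)
    obtain ⟨μ, hμ⟩ := IsCyclic.exists_generator (α := m.Fˣ)
    let val : ↥S → m.F := fun a => (m.e ((a : H) • m.pt ((μ : m.F) * x₀) 0 0)).1
    have hval : ∀ a : ↥S, ∃ β : m.F →+ m.F, (∀ x, (a : H) • m.pt x 0 0 = m.pt (β x) 0 0) ∧
        β x₀ = x₀ ∧ (∀ x, x ≠ 0 → β x ≠ 0) ∧ ∀ l y, β (l * y) * β 1 = β l * β y := by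
      intro a
      have hn : ∀ l, ∃ l', (a : H) * m.ua l * (a : H)⁻¹ = m.ua l' := by
        rcases hY.dich ff (hY.conj_upper (hDT a.2.1)) with h | ⟨-, h⟩
        · exact h
        · obtain ⟨c, hc⟩ := h 1
          have h2 := a.2.2 (m.pt 1 0 0) (by simp)
          rw [hc, pt_mem_R] at h2
          rw [h2.2, pt_zero, smul_eq_zero_iff_eq, ← m.pt_zero, pt_inj] at hc
          exact absurd hc.1 one_ne_zero
      obtain ⟨β, b, f, hβ, -, -, -, -, hβ0, hmul⟩ := m.semilinear hn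
      refine ⟨β, hβ, ?_, hβ0, hmul⟩
      have h2 := sub_eq_zero.1 (AddSubgroup.mem_bot.1 (hvfix a a.2))
      rw [hβ, pt_inj] at h2
      exact h2.1
    set K' := K.subgroupOf S
    let F0 := {x : m.F // x ≠ 0}
    have hne0 : ∀ a : ↥S, val a ≠ 0 := fun a => by
      obtain ⟨β, hβ, -, hβ0, -⟩ := hval a
      show (m.e _).1 ≠ 0
      rw [hβ, e_pt]
      exact hβ0 _ (mul_ne_zero (Units.ne_zero μ) hx₀)
    have hinj : Function.Injective (fun i : ↥S ⧸ K' => (⟨val i.out, hne0 _⟩ : F0)) := by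
      intro i j h
      rw [← QuotientGroup.out_eq' i, ← QuotientGroup.out_eq' j, QuotientGroup.eq, Subgroup.mem_subgroupOf]
      set a : ↥S := i.out⁻¹ * j.out with ha
      refine ⟨a.2.1, ?_⟩
      obtain ⟨β, hβ, hβx, hβ0, hmul⟩ := hval a
      have hμfix : β ((μ : m.F) * x₀) = μ * x₀ := by
        obtain ⟨β₁, hβ₁, -, -, -⟩ := hval i.out
        obtain ⟨β₂, hβ₂, -, -, -⟩ := hval j.out
        have h' : val i.out = val j.out := congrArg Subtype.val h
        have h1 : ((i.out : ↥S) : H) • m.pt ((μ : m.F) * x₀) 0 0 = ((j.out : ↥S) : H) • m.pt ((μ : m.F) * x₀) 0 0 := by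
          simp only [val, hβ₁, hβ₂, e_pt] at h'
          rw [hβ₁, hβ₂, h']
        have h2 : (a : H) • m.pt ((μ : m.F) * x₀) 0 0 = m.pt ((μ : m.F) * x₀) 0 0 := by
          rw [ha, Subgroup.coe_mul, InvMemClass.coe_inv, mul_smul, ← h1, inv_smul_smul]
        rw [hβ, pt_inj] at h2
        exact h2.1
      intro u hu
      obtain ⟨x, rfl⟩ := m.mem_R.1 hu
      rw [hβ, m.semilinear_id hβ0 hmul hx₀ hβx hμ hμfix]
    have hF0 : Nat.card F0 = q - 1 := by
      haveI : Fintype m.F := Fintype.ofFinite _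
      rw [hq, Nat.card_eq_fintype_card, Nat.card_eq_fintype_card, Fintype.card_subtype_compl,
        Fintype.card_subtype_eq]
    have h1 := Nat.card_le_card_of_injective _ hinj
    rw [hF0] at h1
    rw [← Nat.card_congr (Subgroup.subgroupOfEquivOfLe hKS).toEquiv,
      Subgroup.card_eq_card_quotient_mul_card_subgroup K']
    exact Nat.mul_le_mul_right _ h1
  have hDS : Nat.card ↥D = s * Nat.card ↥S := by
    rw [hs, ← Nat.card_congr (Subgroup.subgroupOfEquivOfLe (inf_le_left : S ≤ D)).toEquiv]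
    exact Subgroup.card_eq_card_quotient_mul_card_subgroup _
  have hs3 : 3 ≤ s := by
    obtain ⟨n, hn⟩ := hDp.index (S.subgroupOf D)
    have hn0 : n ≠ 0 := fun h => hSD (le_antisymm inf_le_left (Subgroup.subgroupOf_eq_top.1
      (Subgroup.index_eq_one.1 (by rw [hn, h, pow_zero]))))
    have hp3 : 3 ≤ p := by
      have := hp.out.two_le
      have := ff.odd
      omega
    rw [hs, ← Subgroup.index_eq_card, hn]
    exact hp3.trans (Nat.le_self_pow hn0 p)
  have hq2 : 2 ≤ q := Finite.one_lt_card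
  have hqp : 3 ≤ q := by
    by_contra hlt
    have hq2' : q = 2 := by omega
    haveI : Fintype m.F := Fintype.ofFinite _
    have h2 : ((Fintype.card m.F : ℕ) : m.F) = 0 := Nat.cast_card_eq_zero m.F
    rw [← Nat.card_eq_fintype_card, ← hq, hq2'] at h2
    exact m.two_ne_zero ff (by exact_mod_cast h2)
  have h1 : Nat.card ↥K * q ^ s ≤ Nat.card ↥K * (s * q * q) := by
    refine hkey.trans ?_
    rw [hDS]
    calc s * Nat.card ↥S * q ≤ s * (q * Nat.card ↥K) * q :=
          Nat.mul_le_mul_right _ (Nat.mul_le_mul_left _ (hSK.trans (Nat.mul_le_mul_right _ (Nat.sub_le q 1))))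
      _ = _ := by ring
  have h2 := Nat.le_of_mul_le_mul_left h1 Nat.card_pos
  have hlt : ∀ n : ℕ, 3 ≤ n → n * q * q < q ^ n + 0 ∨ n * q * q = q ^ n := by
    intro n hn
    induction n, hn using Nat.le_induction with
    | base =>
      rcases hqp.eq_or_lt with h | h
      · right; rw [← h]; rfl
      · left
        rw [add_zero, pow_three]
        calc 3 * q * q < q * q * q := by gcongr
          _ = _ := by ring
    | succ k hk ih =>
      left
      rw [add_zero, pow_succ]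
      have h5 : k * q * q ≤ q ^ k := by omega
      calc (k + 1) * q * q < k * q * q * q := by
            have : k + 1 < k * q := by nlinarith
            gcongr
        _ ≤ q ^ k * q := Nat.mul_le_mul_right _ h5
  rcases hlt s hs3 with h | h
  · omega
  · -- then `q = s = 3`, where the sharper bound fails
    have h3 : Nat.card ↥K * q ^ s ≤ Nat.card ↥K * (s * (q - 1) * q) := by
      refine hkey.trans ?_
      rw [hDS]
      calc s * Nat.card ↥S * q ≤ s * ((q - 1) * Nat.card ↥K) * q :=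
            Nat.mul_le_mul_right _ (Nat.mul_le_mul_left _ hSK)
        _ = _ := by ring
    have h4 := Nat.le_of_mul_le_mul_left h3 Nat.card_pos
    rw [← h] at h4
    have : s * (q - 1) * q < s * q * q := by
      refine Nat.mul_lt_mul_of_pos_right (Nat.mul_lt_mul_of_pos_left ?_ (by omega)) (by omega)
      omega
    omega

end YData

/-- The block of an element of `T`: the sum of the translates of the plane along one translate of the axis. -/
def block (τ : H) : AddSubgroup U :=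
  AddSubgroup.closure {u | ∃ σ ∈ (T : Subgroup H), τ⁻¹ * σ ∈ stab m.R ∧ ∃ x y, σ • m.pt x y 0 = u}

theorem plane_mem_block {σ τ : H} (hσ : σ ∈ (T : Subgroup H)) (h : τ⁻¹ * σ ∈ stab m.R) (x y : m.F) :
    σ • m.pt x y 0 ∈ m.block τ :=
  AddSubgroup.subset_closure ⟨σ, hσ, h, x, y, rfl⟩

theorem smul_block {ρ τ : H} (hρ : ρ ∈ (T : Subgroup H)) {u : U} (hu : u ∈ m.block τ) :
    ρ • u ∈ m.block (ρ * τ) := by
  have hle : m.block τ ≤ (m.block (ρ * τ)).comap (DistribMulAction.toAddMonoidHom U ρ) := by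
    refine (AddSubgroup.closure_le _).2 ?_
    rintro _ ⟨σ, hσ, h, x, y, rfl⟩
    show ρ • σ • m.pt x y 0 ∈ m.block (ρ * τ)
    rw [← mul_smul]
    exact m.plane_mem_block (mul_mem hρ hσ) (by rwa [mul_inv_rev, mul_assoc, inv_mul_cancel_left]) x y
  exact hle hu

theorem block_congr {σ τ : H} (h : τ⁻¹ * σ ∈ stab m.R) : m.block σ ≤ m.block τ := by
  refine (AddSubgroup.closure_le _).2 ?_
  rintro _ ⟨ρ, hρ, h', x, y, rfl⟩
  refine m.plane_mem_block hρ ?_ x y
  have := (stab m.R).mul_mem h h'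
  rwa [mul_assoc, mul_inv_cancel_left] at this

variable {m}

/-- Every element of `T` keeps the axis. -/
theorem YData.axis_inv (hY : m.YData Y) (ff : FF U p T M T₁) : (T : Subgroup H) ≤ stab m.R := by
  classical
  by_contra hnot
  obtain ⟨u₀, hu₀T, hu₀⟩ := SetLike.not_le_iff_exists.1 hnot
  -- the third coordinate
  let C₀ : AddSubgroup U :=
    { carrier := {u | (m.e u).1 = 0 ∧ (m.e u).2.1 = 0}
      zero_mem' := by simp
      add_mem' := fun {a b} ha hb => by simp [ha.1, ha.2, hb.1, hb.2]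
      neg_mem' := fun {a} ha => by simp [ha.1, ha.2] }
  have hC₀ : ∀ τ ∈ (T : Subgroup H), τ ∉ stab m.R → m.block τ ≤ C₀ := by
    intro τ hτ hτR
    refine (AddSubgroup.closure_le _).2 ?_
    rintro _ ⟨σ, hσ, h, x, y, rfl⟩
    obtain ⟨c, hc⟩ := hY.send_plane ff hσ (fun h' => hτR (by
      simpa [mul_assoc] using (stab m.R).mul_mem h' ((stab m.R).inv_mem h))) x y
    show (m.e _).1 = 0 ∧ (m.e _).2.1 = 0
    rw [hc, e_pt]
    exact ⟨rfl, rfl⟩
  have hRnot : ∀ τ ∈ (T : Subgroup H), τ ∉ stab m.R → m.pt 1 0 0 ∉ m.block τ := fun τ hτ hτR h => by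
    have := (hC₀ τ hτ hτR h).1
    rw [e_pt] at this
    exact one_ne_zero this
  -- blocks are determined by any translate of the axis they contain
  have hdet : ∀ σ ∈ (T : Subgroup H), ∀ τ ∈ (T : Subgroup H), m.block σ ≤ m.block τ → m.block τ ≤ m.block σ := by
    intro σ hσ τ hτ hle
    refine m.block_congr ?_
    by_contra hn
    have h1 : σ • m.pt 1 0 0 ∈ m.block τ := hle (m.plane_mem_block hσ (by rw [inv_mul_cancel]; exact one_mem _) 1 0)
    have h2 := m.smul_block (inv_mem hσ) h1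
    rw [inv_smul_smul] at h2
    exact hRnot _ (mul_mem (inv_mem hσ) hτ) hn h2
  -- every element permutes the blocks
  let P : Submonoid H :=
    { carrier := {g | ∀ τ ∈ (T : Subgroup H), ∃ τ' ∈ (T : Subgroup H), ∀ u ∈ m.block τ, g • u ∈ m.block τ'}
      one_mem' := fun τ hτ => ⟨τ, hτ, fun u hu => by rwa [one_smul]⟩
      mul_mem' := fun {a b} ha hb τ hτ => by
        obtain ⟨τ', hτ', h1⟩ := hb τ hτ
        obtain ⟨τ'', hτ'', h2⟩ := ha τ' hτ'
        exact ⟨τ'', hτ'', fun u hu => by rw [mul_smul]; exact h2 _ (h1 u hu)⟩ }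
  let K : Subgroup H :=
    { P with
      inv_mem' := fun {g} hg => by
        rw [show g⁻¹ = g ^ (orderOf g - 1) from inv_eq_of_mul_eq_one_right (by
          rw [← pow_succ', Nat.sub_add_cancel (orderOf_pos g), pow_orderOf_eq_one])]
        exact P.pow_mem hg _ }
  have hK : K = ⊤ := by
    refine m.eq_top ff (fun ρ hρ τ hτ => ⟨ρ * τ, mul_mem hρ hτ, fun u hu => m.smul_block hρ hu⟩) fun l τ hτ => ?_
    refine ⟨τ, hτ, fun u hu => ?_⟩
    obtain ⟨x, y, c, rfl⟩ := m.exists_pt u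
    rw [la_pt]
    by_cases hτR : τ ∈ stab m.R
    · have h1 : m.pt 0 (l * x) 0 ∈ m.block τ := by
        have := m.plane_mem_block (τ := τ) (Subgroup.one_mem _) (by rw [mul_one]; exact (stab m.R).inv_mem hτR) 0 (l * x)
        rwa [one_smul] at this
      have := (m.block τ).add_mem hu h1
      rwa [pt_add, add_zero, add_zero] at this
    · have hx : x = 0 := by simpa using (hC₀ τ hτ hτR hu).1
      rwa [hx, mul_zero, add_zero, ← hx]
  -- the kernel
  let N : Subgroup H :=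
    { carrier := {g | ∀ τ ∈ (T : Subgroup H), g ∈ stab (m.block τ)}
      one_mem' := fun τ _ => Subgroup.one_mem _
      mul_mem' := fun {a b} ha hb τ hτ => Subgroup.mul_mem _ (ha τ hτ) (hb τ hτ)
      inv_mem' := fun {a} ha τ hτ => Subgroup.inv_mem _ (ha τ hτ) }
  have hNn : N.Normal := ⟨fun g hg h τ hτ u hu => by
    obtain ⟨σ, hσ, h1⟩ := (hK.symm ▸ Subgroup.mem_top h⁻¹ : h⁻¹ ∈ K) τ hτ
    obtain ⟨τ', hτ', h2⟩ := (hK.symm ▸ Subgroup.mem_top h : h ∈ K) σ hσ
    have hle : m.block τ ≤ m.block τ' := fun w hw => by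
      have := h2 _ (h1 w hw)
      rwa [smul_inv_smul] at this
    rw [mul_smul, mul_smul]
    exact hdet τ hτ τ' hτ' hle (h2 _ (hg σ hσ _ (h1 u hu)))⟩
  -- a vector fixed by the offenders
  have hSTp : IsPGroup p ((T : Subgroup H) ⊓ stab m.R : Subgroup H) := T.2.to_le inf_le_left
  obtain ⟨v, hvR, hv0, hvfix⟩ := exists_fix_mod ff.expp hSTp m.R ⊥ inf_le_right
    (fun g _ x hx => by simp [AddSubgroup.mem_bot.1 hx]) (fun h => m.R_ne_bot (le_bot_iff.1 h))
  obtain ⟨x₀, rfl⟩ := m.mem_R.1 hvR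
  have hx₀ : x₀ ≠ 0 := fun h => hv0 (by rw [h, pt_zero]; exact zero_mem _)
  have hT₁ : m.pt x₀ 0 0 ∈ fixS U T₁ := ff.hfix _ fun D hDT hDc hDo a ha =>
    sub_eq_zero.1 (AddSubgroup.mem_bot.1 (hvfix a ⟨hDT ha, hY.offender_keep ff hDT hDc hDo ha⟩))
  have hT₁R : T₁ ≤ stab m.R := fun a ha => by
    by_contra h
    obtain ⟨c, hc⟩ := hY.send_plane ff (ff.t1T ha) h x₀ 0
    rw [hT₁ a ha, pt_inj] at hc
    exact hx₀ hc.1
  have hT₁N : T₁ ≤ N := fun a ha τ hτ u hu => by
    refine m.block_congr ?_ (m.smul_block (ff.t1T ha) hu)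
    have := hT₁R ((Subgroup.mem_normalizer_iff.1 (ff.t1n (inv_mem hτ)) a).1 ha)
    rwa [inv_inv, mul_assoc] at this
  have htop := ff.closure N hNn hT₁N
  have h1 : u₀⁻¹ • m.pt 1 0 0 ∈ m.block 1 :=
    (N.inv_mem (htop.symm ▸ Subgroup.mem_top u₀) : u₀⁻¹ ∈ N) 1 (Subgroup.one_mem _) (m.pt 1 0 0) (by
      have := m.plane_mem_block (σ := 1) (τ := 1) (Subgroup.one_mem _) (by simp) 1 0
      rwa [one_smul] at this)
  have h2 := m.smul_block hu₀T h1
  rw [smul_inv_smul, mul_one] at h2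
  exact hRnot u₀ hu₀T hu₀ h2

end Model

end CfsgLib.FocalThree
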