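import Cfsg.Agent.Lib.CFun.FocalThree.Blocks

/-!
# The group is `SL₂`

With the axis invariant under `T` the third coordinate vanishes, the offenders in `T` are upper unipotent, so is
`T₁`, and the group generated by the unipotent elements is normal.
-/

set_option autoImplicit false
set_option linter.unusedSectionVars false
set_option linter.style.haveILetI false

open CfsgLib.Char.NatSL (fixS mem_fixS fixS_mono)
open scoped MatrixGroups

namespace CfsgLib.FocalThree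

universe u v

/-- An additive map twisted by multiplication only up to scalars is scalar. -/
theorem scalar_of_twisted {F : Type*} [Field F] [Finite F] (G : F →+ F)
    (h : ∀ k : Fˣ, ∃ l : F, ∀ y, G ((k : F) * y) - k * G y = l * y) (y : F) : G y = G 1 * y := by
  classical
  haveI : Fintype F := Fintype.ofFinite F
  let D : F →+ F := G - AddMonoidHom.mulLeft (G 1)
  have hD : ∀ y, D y = G y - G 1 * y := fun _ => rfl
  have hmul : ∀ (k : Fˣ) y, D ((k : F) * y) = k * D y + y * D k := by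
    intro k y
    obtain ⟨l, hl⟩ := h k
    have h1 := hl 1
    rw [mul_one, mul_one] at h1
    rw [hD, hD, hD]
    linear_combination hl y - y * h1
  obtain ⟨μ, hμ⟩ := IsCyclic.exists_generator (α := Fˣ)
  have hpow : ∀ n : ℕ, D ((μ : F) ^ (n + 1)) = (n + 1 : ℕ) * (μ : F) ^ n * D μ := by
    intro n
    induction n with
    | zero => simp
    | succ n ih =>
      rw [pow_succ', hmul, ih]
      push_cast
      ring
  have hcard : 2 ≤ Fintype.card F := Fintype.one_lt_card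
  have hDμ : D μ = 0 := by
    obtain ⟨n, hn⟩ : ∃ n, Fintype.card F - 1 = n + 1 := ⟨Fintype.card F - 2, by omega⟩
    have h1 := hpow n
    rw [← hn, FiniteField.pow_card_sub_one_eq_one (μ : F) (Units.ne_zero μ),
      Nat.cast_sub (by omega : 1 ≤ Fintype.card F), Nat.cast_one, Nat.cast_card_eq_zero, hD, mul_one,
      sub_self] at h1
    simpa [Units.ne_zero, hD] using h1.symm
  have hall : ∀ z : F, D z = 0 := by
    intro z
    by_cases hz : z = 0
    · simp [hz]
    let S : Submonoid Fˣ :=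
      { carrier := {a | D (a : F) = 0}
        one_mem' := by simp [hD]
        mul_mem' := fun {a b} (ha : D (a : F) = 0) (hb : D (b : F) = 0) => by
          show D ((a * b : Fˣ) : F) = 0
          rw [Units.val_mul, hmul, ha, hb]; ring }
    obtain ⟨n, hn⟩ := mem_powers_iff_mem_zpowers.2 (hμ (Units.mk0 z hz))
    have h2 : μ ^ n ∈ S := S.pow_mem hDμ n
    rw [show μ ^ n = Units.mk0 z hz from hn] at h2
    exact h2
  exact sub_eq_zero.1 (hall y)

/-- An additive map twisted by the inverse up to scalars is scalar. -/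
theorem scalar_of_inverse_twisted {F : Type*} [Field F] (h2 : (2 : F) ≠ 0) (G : F →+ F)
    (h : ∀ s : F, s ≠ 0 → ∃ l : F, ∀ w, G (s * w) = s⁻¹ * G w + l * w) (y : F) : G y = G 1 * y := by
  let D : F →+ F := G - AddMonoidHom.mulLeft (G 1)
  have hD : ∀ y, D y = G y - G 1 * y := fun _ => rfl
  have hmul : ∀ s : F, s ≠ 0 → ∀ w, D (s * w) = s⁻¹ * D w + w * D s := by
    intro s hs w
    obtain ⟨l, hl⟩ := h s hs
    have h1 := hl 1
    rw [mul_one, mul_one] at h1
    rw [hD, hD, hD]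
    linear_combination hl w - w * h1
  have hD1 : D 1 = 0 := by rw [hD, mul_one, sub_self]
  refine sub_eq_zero.1 (?_ : D y = 0)
  by_cases h3 : (3 : F) = 0
  · by_cases hex : ∃ s : F, s ≠ 0 ∧ s + 1 ≠ 0 ∧ s - 1 ≠ 0
    · obtain ⟨s, hs0, hs1, hs2⟩ := hex
      have e1 := hmul (s + 1) hs1 y
      rw [add_mul, one_mul, map_add, map_add, hmul s hs0, hD1, add_zero] at e1
      have e2 : (s⁻¹ + 1 - (s + 1)⁻¹) * D y = 0 := by linear_combination e1
      refine (mul_eq_zero.1 e2).resolve_left fun h0 => hs2 ?_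
      field_simp at h0
      have : (s - 1) * (s - 1) = 0 := by linear_combination h0 - s * h3
      exact mul_self_eq_zero.1 this
    · push_neg at hex
      by_cases hy : y = 0
      · rw [hy, map_zero]
      by_cases hy1 : y + 1 = 0
      · rw [eq_neg_of_add_eq_zero_left hy1, map_neg, hD1, neg_zero]
      · rw [sub_eq_zero.1 (hex y hy hy1), hD1]
  · have e := hmul 2 h2 y
    have hD2 : D 2 = 0 := by rw [← one_add_one_eq_two, map_add, hD1, add_zero]
    rw [hD2, two_mul, map_add] at e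
    have e' : (3 : F) * D y = 0 := by linear_combination 2 * e + D y * mul_inv_cancel₀ h2
    exact (mul_eq_zero.1 e').resolve_left h3

/-- The elements in a fixed ratio with their image under a semilinear map are few. -/
theorem card_eigen_le {F : Type*} [Field F] [Finite F] (β : F →+ F)
    (hmul : ∀ l y, β (l * y) * β 1 = β l * β y) (hβ0 : ∀ x, x ≠ 0 → β x ≠ 0) (r : F) :
    Nat.card {x : F // β x = r * x} ≤ Nat.card {a : F // β a = a * β 1} := by
  classical
  by_cases h : ∃ x₀ : F, x₀ ≠ 0 ∧ β x₀ = r * x₀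
  · obtain ⟨x₀, hx₀, hr⟩ := h
    refine Nat.card_le_card_of_injective (fun x => ⟨(x : F) / x₀, ?_⟩) fun x x' hh => ?_
    · have h1 := hmul ((x : F) / x₀) x₀
      rw [div_mul_cancel₀ _ hx₀, x.2, hr] at h1
      have hr0 : r ≠ 0 := fun h0 => hβ0 x₀ hx₀ (by rw [hr, h0, zero_mul])
      refine mul_right_cancel₀ (mul_ne_zero hr0 hx₀) ?_
      rw [← h1]
      field_simp
    · exact Subtype.ext ((div_left_inj' hx₀).1 (congrArg Subtype.val hh))
  · push_neg at h
    refine Nat.card_le_card_of_injective (fun _ => ⟨0, by simp⟩) fun x x' _ => Subtype.ext ?_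
    have hx : ∀ z : {x : F // β x = r * x}, (z : F) = 0 := fun z => by
      by_contra hz
      exact h _ hz z.2
    rw [hx, hx]

/-- The fixed field of a semilinear map which is not linear is small. -/
theorem card_fixed_sq_le {F : Type*} [Field F] [Finite F] (β : F →+ F)
    (hmul : ∀ l y, β (l * y) * β 1 = β l * β y) (hβ1 : β 1 ≠ 0) {a₀ : F} (ha₀ : β a₀ ≠ a₀ * β 1) :
    Nat.card {a : F // β a = a * β 1} * Nat.card {a : F // β a = a * β 1} ≤ Nat.card F := by
  have hm : ∀ a b : F, β a = a * β 1 → β b = b * β 1 → β (a * b) = a * b * β 1 := fun a b ha hb =>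
    mul_right_cancel₀ hβ1 (by rw [hmul, ha, hb]; ring)
  have hi : ∀ a : F, β a = a * β 1 → β a⁻¹ = a⁻¹ * β 1 := fun a ha => by
    by_cases h0 : a = 0
    · simp [h0]
    have h1 := hmul a a⁻¹
    rw [mul_inv_cancel₀ h0, ha] at h1
    have h2 : β 1 = a * β a⁻¹ := mul_right_cancel₀ hβ1 (by linear_combination h1)
    conv_rhs => rw [h2, inv_mul_cancel_left₀ h0]
  rw [← Nat.card_prod]
  refine Nat.card_le_card_of_injective (fun z => (z.1 : F) + z.2 * a₀) ?_
  rintro ⟨⟨a, ha⟩, ⟨b, hb⟩⟩ ⟨⟨a', ha'⟩, ⟨b', hb'⟩⟩ h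
  change a + b * a₀ = a' + b' * a₀ at h
  by_cases hbb : b = b'
  · subst hbb
    have haa : a = a' := add_right_cancel h
    subst haa
    rfl
  · refine absurd ?_ ha₀
    have he : a₀ = (a' - a) * (b - b')⁻¹ := by
      rw [eq_mul_inv_iff_mul_eq₀ (sub_ne_zero.2 hbb)]
      linear_combination h
    rw [he]
    refine hm _ _ ?_ (hi _ ?_)
    · rw [map_sub, ha, ha']; ring
    · rw [map_sub, hb, hb']; ring

variable {H : Type u} [Group H] [Finite H] {U : Type v} [AddCommGroup U] [Finite U] [DistribMulAction H U]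
  {p : ℕ} [hp : Fact p.Prime] {T : Sylow p H} {M T₁ : Subgroup H}

namespace Model

variable (m : Model U (T : Subgroup H) M)

theorem ydata_R (ff : FF U p T M T₁) : m.YData m.R := by
  obtain ⟨Y, hY⟩ := m.exists_ydata ff
  exact ⟨hY.axis_inv ff, le_rfl, m.R_le_CA⟩

theorem upper_normal (ff : FF U p T M T₁) {τ : H} (hτ : τ ∈ (T : Subgroup H)) (l : m.F) :
    ∃ l', τ * m.ua l * τ⁻¹ = m.ua l' := by
  have hR := m.ydata_R ff
  rcases hR.dich ff (hR.conj_upper hτ) with h | ⟨-, h⟩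
  · exact h l
  · obtain ⟨c, hc⟩ := h 1
    have h2 := hR.inv hτ (m.pt 1 0 0) (by simp)
    rw [hc, pt_mem_R] at h2
    rw [h2.2, pt_zero, smul_eq_zero_iff_eq, ← m.pt_zero, pt_inj] at hc
    exact absurd hc.1 one_ne_zero

theorem T_le_stab_CA (ff : FF U p T M T₁) : (T : Subgroup H) ≤ stab m.CA := fun _ hτ =>
  m.mem_stab_CA fun l => m.upper_normal ff hτ l

/-- The elements fixing the axis and acting trivially on the two other layers. -/
def heis (m : Model U (T : Subgroup H) M) : Subgroup H where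
  carrier := {g | (∀ u ∈ m.R, g • u = u) ∧ (∀ u ∈ m.CA, g • u - u ∈ m.R) ∧ ∀ u : U, g • u - u ∈ m.CA}
  one_mem' := ⟨fun u _ => one_smul H u, fun u _ => by simp, fun u => by simp⟩
  mul_mem' := fun {a b} ha hb => by
    refine ⟨fun u hu => by rw [mul_smul, hb.1 u hu, ha.1 u hu], fun u hu => ?_, fun u => ?_⟩
    · rw [mul_smul, show a • b • u - u = (a • (b • u) - b • u) + (b • u - u) by abel]
      refine m.R.add_mem (ha.2.1 _ ?_) (hb.2.1 u hu)
      have := m.CA.add_mem (m.R_le_CA (hb.2.1 u hu)) hu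
      rwa [sub_add_cancel] at this
    · rw [mul_smul, show a • b • u - u = (a • (b • u) - b • u) + (b • u - u) by abel]
      exact m.CA.add_mem (ha.2.2 _) (hb.2.2 u)
  inv_mem' := fun {a} ha => by
    refine ⟨fun u hu => inv_smul_eq_iff.2 (ha.1 u hu).symm, fun u hu => ?_, fun u => ?_⟩
    · have hmem : a⁻¹ • u ∈ m.CA := by
        have h := m.CA.add_mem (m.CA.neg_mem (ha.2.2 (a⁻¹ • u))) hu
        rwa [smul_inv_smul, neg_sub, sub_add_cancel] at h
      have h := m.R.neg_mem (ha.2.1 _ hmem)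
      rwa [smul_inv_smul, neg_sub] at h
    · have h := m.CA.neg_mem (ha.2.2 (a⁻¹ • u))
      rwa [smul_inv_smul, neg_sub] at h

theorem heis_le (ff : FF U p T M T₁) : m.heis ≤ (T : Subgroup H) := by
  refine le_T_of_normalized (fun ⟨g, hg⟩ => ⟨1, Subtype.ext (ff.faith _ fun u => ?_)⟩) ?_
  · show g ^ (p ^ 1) • u = u
    rw [pow_one]
    set a := g • u - u with ha
    set b := g • a - a with hb
    have hgb : g • b = b := hg.1 _ (hg.2.1 _ (hg.2.2 u))
    have hk : ∀ k : ℕ, g ^ k • u = u + k • a + Nat.choose k 2 • b := by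
      intro k
      induction k with
      | zero => simp
      | succ k ih =>
        rw [pow_succ', mul_smul, ih, smul_add, smul_add, smul_comm g k a, smul_comm g (Nat.choose k 2) b, hgb,
          show g • u = u + a by rw [ha]; abel, show g • a = a + b by rw [hb]; abel, Nat.choose_succ_succ,
          Nat.choose_one_right, add_nsmul, succ_nsmul, nsmul_add]
        simp only [add_nsmul]
        abel
    obtain ⟨j, hj⟩ := hp.out.dvd_choose_self (k := 2) (by omega) (by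
      have := hp.out.two_le
      have := ff.odd
      omega)
    rw [hk, ff.expp, hj, mul_nsmul', ff.expp, add_zero, add_zero]
  · intro τ hτ
    have key : ∀ τ ∈ (T : Subgroup H), ∀ g ∈ m.heis, τ * g * τ⁻¹ ∈ m.heis := by
      intro τ hτ g hg
      have h1 := (m.ydata_R ff).inv hτ
      have h2 := m.T_le_stab_CA ff hτ
      refine ⟨fun u hu => ?_, fun u hu => ?_, fun u => ?_⟩
      · rw [mul_smul, mul_smul, hg.1 _ ((stab m.R).inv_mem h1 u hu), smul_inv_smul]
      · rw [mul_smul, mul_smul, show τ • g • τ⁻¹ • u - u = τ • (g • τ⁻¹ • u - τ⁻¹ • u) by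
          rw [smul_sub, smul_inv_smul]]
        exact h1 _ (hg.2.1 _ ((stab m.CA).inv_mem h2 u hu))
      · rw [mul_smul, mul_smul, show τ • g • τ⁻¹ • u - u = τ • (g • τ⁻¹ • u - τ⁻¹ • u) by
          rw [smul_sub, smul_inv_smul]]
        exact h2 _ (hg.2.2 _)
    refine Subgroup.mem_normalizer_iff.2 fun g => ⟨key τ hτ g, fun h => ?_⟩
    have := key τ⁻¹ (inv_mem hτ) _ h
    simpa [mul_assoc] using this

theorem heis_shape {g : H} (hg : g ∈ m.heis) :
    ∃ (γ : m.F →+ m.F) (φ : m.C →+ m.F) (α : m.F →+ m.C),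
      ∀ x y c, g • m.pt x y c = m.pt (x + γ y + φ c) y (c + α y) := by
  let E : U →+ m.F × m.F × m.C := AddMonoidHom.mk' (fun u => m.e (g • u - u)) fun a b => by
    rw [← map_add, smul_add, add_sub_add_comm]
  let i₂ : m.F →+ U := AddMonoidHom.mk' (fun y => m.pt 0 y 0) fun a b => by rw [pt_add, add_zero, add_zero]
  let i₃ : m.C →+ U := AddMonoidHom.mk' (fun c => m.pt 0 0 c) fun a b => by rw [pt_add, add_zero]
  refine ⟨(AddMonoidHom.fst _ _).comp (E.comp i₂), (AddMonoidHom.fst _ _).comp (E.comp i₃),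
    ((AddMonoidHom.snd _ _).comp (AddMonoidHom.snd _ _)).comp (E.comp i₂), fun x y c => ?_⟩
  have hx : E (m.pt x 0 0) = 0 := by
    show m.e (g • _ - _) = 0
    rw [hg.1 _ (by simp), sub_self, map_zero]
  have hE : E (m.pt x y c) = E (m.pt 0 y 0) + E (m.pt 0 0 c) := by
    rw [← map_add, ← zero_add (E (m.pt 0 y 0 + m.pt 0 0 c)), ← hx, ← map_add]
    simp [pt_add]
  refine m.e.injective ?_
  have h1 : m.e (g • m.pt x y c) = (x, y, c) + E (m.pt x y c) := by
    show _ = _ + m.e (g • _ - _)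
    rw [map_sub, e_pt]
    abel
  rw [h1, hE, e_pt]
  have hy : (E (m.pt 0 y 0)).2.1 = 0 := hg.2.2 _
  have hc : (E (m.pt 0 0 c)).2.1 = 0 ∧ (E (m.pt 0 0 c)).2.2 = 0 := hg.2.1 _ (by simp)
  show _ = (x + (E (m.pt 0 y 0)).1 + (E (m.pt 0 0 c)).1, y, c + (E (m.pt 0 y 0)).2.2)
  refine Prod.ext (by simp [add_assoc]) (Prod.ext ?_ ?_)
  · show y + ((E _).2.1 + (E _).2.1) = y
    rw [hy, hc.1, add_zero, add_zero]
  · show c + ((E _).2.2 + (E _).2.2) = c + (E _).2.2
    rw [hc.2, add_zero]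

theorem tor_mem_CA (k : m.Fˣ) : m.tor k ∈ stab m.CA := fun u hu => by
  obtain ⟨x, y, c, rfl⟩ := m.exists_pt u
  obtain rfl := m.pt_mem_CA.1 hu
  simp

theorem tor_inv_pt (k : m.Fˣ) (x y : m.F) (c : m.C) :
    (m.tor k)⁻¹ • m.pt x y c = m.pt (((k⁻¹ : m.Fˣ) : m.F) * x) (k * y) c := by
  rw [inv_smul_eq_iff, tor_pt]
  simp

/-- The composite of the two cross terms is scalar. -/
theorem heis_scalar (ff : FF U p T M T₁) {g : H} (γ : m.F →+ m.F) (φ : m.C →+ m.F)
    (α : m.F →+ m.C) (hg : ∀ x y c, g • m.pt x y c = m.pt (x + γ y + φ c) y (c + α y)) (y : m.F) :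
    φ (α y) = φ (α 1) * y := by
  refine scalar_of_twisted (φ.comp α) (fun k => ?_) y
  set h := m.tor k * g * (m.tor k)⁻¹ with hh
  have hpt : ∀ x y c, h • m.pt x y c = m.pt (x + k * γ (k * y) + k * φ c) y (c + α (k * y)) := fun x y c => by
    rw [hh, mul_smul, mul_smul, tor_inv_pt, hg, tor_pt, pt_inj]
    refine ⟨?_, by simp, rfl⟩
    rw [mul_add, mul_add, Units.mul_inv_cancel_left]
  set z := (g * h) * (h * g)⁻¹ with hz
  have hzpt : ∀ a b d, z • m.pt a b d = m.pt (a + (φ (α (k * b)) - k * φ (α b))) b d := by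
    intro a b d
    obtain ⟨x, y, c, hu⟩ := m.exists_pt ((h * g)⁻¹ • m.pt a b d)
    rw [hz, mul_smul, hu]
    have h1 : (h * g) • m.pt x y c = m.pt a b d := by rw [← hu, smul_inv_smul]
    rw [mul_smul, hg, hpt, pt_inj] at h1
    obtain ⟨h1, rfl, h3⟩ := h1
    rw [mul_smul, hpt, hg, ← h1, ← h3, pt_inj, map_add, map_add]
    refine ⟨by ring, rfl, by abel⟩
  have hzR : z ∈ fixMod m.R := by
    refine ⟨fun u hu => ?_, fun u => ?_⟩
    · obtain ⟨x, rfl⟩ := m.mem_R.1 hu
      rw [hzpt]; simp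
    · obtain ⟨a, b, d, rfl⟩ := m.exists_pt u
      rw [hzpt, pt_sub]; simp
  obtain ⟨l, δ, hl⟩ := (m.ydata_R ff).pure ff hzR
  refine ⟨l, fun b => ?_⟩
  have h2 := hl 0 b 0
  rw [hzpt, pt_inj, zero_add, zero_add] at h2
  exact h2.1

/-- An element of the Heisenberg group inverted by the central involution is upper unipotent. -/
theorem heis_odd (ff : FF U p T M T₁) {g : H} (hg : g ∈ m.heis)
    (hinv : m.tor (-1) * g * m.tor (-1) = g⁻¹) : ∃ l, g = m.ua l := by
  classical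
  have hR := m.ydata_R ff
  obtain ⟨γ, φ, α, hgs⟩ := m.heis_shape hg
  have htpt : ∀ x y c, m.tor (-1) • m.pt x y c = m.pt (-x) (-y) c := fun x y c => by rw [tor_pt]; simp
  have hγ : ∀ y, (2 : m.F) * γ y = φ (α 1) * y := fun y => by
    have h1 : (g * (m.tor (-1) * g * m.tor (-1))) • m.pt 0 y 0 = m.pt 0 y 0 := by
      rw [hinv, mul_inv_cancel, one_smul]
    rw [mul_smul, mul_smul, mul_smul, htpt, hgs, htpt, hgs, pt_inj] at h1
    rw [← m.heis_scalar ff γ φ α hgs y]
    have := h1.1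
    simp at this
    linear_combination this
  refine ⟨γ 1, ?_⟩
  have hγy : ∀ y, γ y = γ 1 * y := fun y => mul_left_cancel₀ (m.two_ne_zero ff) (by
    rw [hγ y, ← mul_assoc, hγ 1, mul_one])
  set v₀ := g * m.ua (-γ 1) with hv₀
  have hvpt : ∀ x y c, v₀ • m.pt x y c = m.pt (x + φ c) y (c + α y) := fun x y c => by
    rw [hv₀, mul_smul, ua_pt, hgs, hγy y, pt_inj]
    refine ⟨by ring, rfl, rfl⟩
  obtain ⟨k, hk⟩ : ∃ k, k = m.w⁻¹ * v₀ * m.w := ⟨_, rfl⟩
  have hkpt : ∀ x y c, k • m.pt x y c = m.pt x (y + φ c) (c - α x) := fun x y c => by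
    rw [hk, mul_smul, mul_smul, w_pt, hvpt, w_inv_pt, neg_neg, map_neg, ← sub_eq_add_neg]
  have hkla : ∀ l, k⁻¹ * m.la l * k = m.la l := fun l => by
    have : m.la l * k = k * m.la l := m.ext_pt ff.faith fun x y c => by
      rw [mul_smul, mul_smul, hkpt, la_pt, la_pt, hkpt, pt_inj]
      refine ⟨rfl, by ring, rfl⟩
    rw [mul_assoc, this, inv_mul_cancel_left]
  set B := (m.A ff.faith).map (MulAut.conj k⁻¹).toMonoidHom
  have hBp : IsPGroup p B := (T.2.to_le (fun a ha => by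
    obtain ⟨l, rfl⟩ := ha; exact m.ua_mem l : m.A ff.faith ≤ (T : Subgroup H))).map _
  have hBfix : ∀ l x, (k⁻¹ * m.ua l * k) • m.pt x 0 0 = m.pt x 0 0 := fun l x => by
    rw [mul_smul, mul_smul, inv_smul_eq_iff, hkpt, map_zero, add_zero, ua_pt, mul_zero, add_zero]
  have hBR : B ≤ stab m.R := by
    rintro _ ⟨_, ⟨l, rfl⟩, rfl⟩ u hu
    obtain ⟨x, rfl⟩ := m.mem_R.1 hu
    show (k⁻¹ * m.ua l * k⁻¹⁻¹) • _ ∈ _
    rw [inv_inv, hBfix]
    exact hu
  have hi : ¬ p ∣ (T : Subgroup H).relIndex (stab m.R) := fun h =>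
    T.not_dvd_index (Subgroup.relIndex_mul_index hR.inv ▸ h.mul_right _)
  obtain ⟨μ, hμ, hle⟩ := CfsgLib.Fusion.exists_conj_le_of_not_dvd_relIndex T.2 hR.inv hi hBp hBR
  have hμM : μ ∈ M := hR.stab_le ff hμ
  obtain ⟨g₀, hg₀⟩ : ∃ g₀, g₀ = μ * k⁻¹ := ⟨_, rfl⟩
  have hua₀ : ∀ l, g₀ * m.ua l * g₀⁻¹ ∈ (T : Subgroup H) := fun l => by
    have h1 := CfsgLib.Fusion.conjBy_le_iff.1 hle (k⁻¹ * m.ua l * k⁻¹⁻¹) ⟨m.ua l, ⟨l, rfl⟩, rfl⟩
    rw [hg₀]
    convert h1 using 1
    group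
  have hla₀ : ∃ l, g₀ * m.la l * g₀⁻¹ ∉ M := by
    obtain ⟨l, hl⟩ := m.la_notMem
    refine ⟨l, fun h => hl ?_⟩
    rw [hg₀, show μ * k⁻¹ * m.la l * (μ * k⁻¹)⁻¹ = μ * (k⁻¹ * m.la l * k) * μ⁻¹ by group, hkla] at h
    simpa [mul_assoc] using M.mul_mem (M.mul_mem (M.inv_mem hμM) h) hμM
  set m' := m.conj g₀ hua₀ hla₀ with hm'
  have hR' := m'.ydata_R ff
  have hA'R : m.R ≤ m'.CA := by
    intro u hu
    obtain ⟨x, rfl⟩ := m.mem_R.1 hu
    rw [← m'.fixS_A ff.faith]
    suffices key : ∀ l : m.F, (g₀ * m.ua l * g₀⁻¹) • m.pt x 0 0 = m.pt x 0 0 by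
      rintro _ ⟨l, rfl⟩
      exact key l
    intro l
    rw [hg₀, show μ * k⁻¹ * m.ua l * (μ * k⁻¹)⁻¹ = μ * (k⁻¹ * m.ua l * k) * μ⁻¹ by group, mul_smul, mul_smul]
    obtain ⟨x', hx'⟩ := m.mem_R.1 ((stab m.R).inv_mem hμ (m.pt x 0 0) (by simp))
    rw [← hx', hBfix, hx', smul_inv_smul]
  have hR'map : m'.R = m.R.map (DistribMulAction.toAddMonoidHom U g₀) := by
    ext u
    rw [mem_R, AddSubgroup.mem_map]
    constructor
    · rintro ⟨x, rfl⟩
      exact ⟨m.pt x 0 0, m.pt_mem_R.2 ⟨rfl, rfl⟩, (m.conj_pt g₀ hua₀ hla₀ x 0 0).symm⟩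
    · rintro ⟨v, hv, rfl⟩
      obtain ⟨x, rfl⟩ := m.mem_R.1 hv
      exact ⟨x, m.conj_pt g₀ hua₀ hla₀ x 0 0⟩
  have hg₀R : g₀ ∈ stab m.R := by
    rcases m.R_le_or_le_CA m'.R (fun l u hu => hR'.inv (m.ua_mem l) u hu) with h | h
    · have heq : m.R = m'.R := AddSubgroup.eq_of_le_of_card_ge h (by
        rw [hR'map]
        exact (Nat.card_congr (m.R.equivMapOfInjective _ (MulAction.injective g₀)).toEquiv).ge)
      intro u hu
      rw [heq, hR'map]
      exact ⟨u, hu, rfl⟩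
    · let Y := m.CA ⊓ m'.CA
      have hY : m.YData Y :=
        ⟨fun τ hτ u hu => ⟨m.T_le_stab_CA ff hτ u hu.1, m'.T_le_stab_CA ff hτ u hu.2⟩,
          le_inf m.R_le_CA hA'R, inf_le_left⟩
      have hk' : ∀ l, g₀ * m.ua l * g₀⁻¹ ∈ fixMod Y := by
        intro l
        refine ⟨fun u hu => ?_, fun u => ?_⟩
        · obtain ⟨a, b, c, hu'⟩ := m'.exists_pt u
          have hb : u ∈ m'.CA := hu.2
          rw [hu', pt_mem_CA] at hb
          show m'.ua l • u = u
          rw [hu']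
          have h1 : ∀ L : m'.F, m'.ua L • m'.pt a b c = m'.pt a b c := fun L => by
            rw [ua_pt, hb, mul_zero, add_zero]
          exact h1 l
        · exact ⟨h ((hR'.ua_fixMod l).2 u), m'.R_le_CA ((hR'.ua_fixMod l).2 u)⟩
      rcases hY.dich ff hk' with h1 | ⟨-, h2⟩
      · exact m.mem_stab_R h1
      · exfalso
        obtain ⟨z, hzR, hz0, hzfix⟩ := exists_fix_mod ff.expp T.2 m'.R ⊥ hR'.inv
          (fun g _ x hx => by simp [AddSubgroup.mem_bot.1 hx]) (fun h => m'.R_ne_bot (le_bot_iff.1 h))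
        rw [hR'map] at hzR
        obtain ⟨v, hv, rfl⟩ := hzR
        obtain ⟨x, rfl⟩ := m.mem_R.1 hv
        obtain ⟨c, hc⟩ := h2 x
        have hz : m.pt 0 0 c ∈ fixS U (T : Subgroup H) := fun a ha => by
          have := sub_eq_zero.1 (AddSubgroup.mem_bot.1 (hzfix a ha))
          rwa [show (DistribMulAction.toAddMonoidHom U g₀) (m.pt x 0 0) = g₀ • m.pt x 0 0 from rfl, hc] at this
        have hc0 := (m.fix_T ff hz).2 rfl
        exact hz0 (by
          show g₀ • m.pt x 0 0 ∈ (⊥ : AddSubgroup U)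
          rw [hc, hc0, pt_zero]; exact zero_mem _)
  have hkR : k ∈ stab m.R := by
    have h1 := (stab m.R).mul_mem ((stab m.R).inv_mem hg₀R) hμ
    rwa [hg₀, mul_inv_rev, inv_inv, mul_assoc, inv_mul_cancel, mul_one] at h1
  have hα : ∀ x, α x = 0 := fun x => by
    have := hkR (m.pt x 0 0) (by simp)
    rw [hkpt, pt_mem_R] at this
    simpa using this.2
  have hv₀R : v₀ ∈ fixMod m.R := by
    refine ⟨fun u hu => ?_, fun u => ?_⟩
    · obtain ⟨x, rfl⟩ := m.mem_R.1 hu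
      rw [hvpt]; simp
    · obtain ⟨a, b, d, rfl⟩ := m.exists_pt u
      rw [hvpt, pt_sub]; simp [hα]
  obtain ⟨l, δ, hl⟩ := hR.pure ff hv₀R
  have hφ : ∀ c, φ c = 0 := fun c => by
    have := hl 0 0 c
    rw [hvpt, pt_inj] at this
    simpa using this.1
  have h1 : v₀ = 1 := m.ext_pt ff.faith fun x y c => by
    rw [hvpt, hφ, hα, one_smul, add_zero, add_zero]
  rw [hv₀, mul_eq_one_iff_eq_inv, ← m.ua_neg ff.faith, neg_neg] at h1
  exact h1

/-- The Sylow subgroup commutes with the central involution. -/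
theorem comm_involution (ff : FF U p T M T₁) {τ : H} (hτ : τ ∈ (T : Subgroup H)) :
    τ * m.tor (-1) = m.tor (-1) * τ := by
  have hR := m.ydata_R ff
  set t := m.tor (-1) with ht
  have htpt : ∀ x y c, t • m.pt x y c = m.pt (-x) (-y) c := fun x y c => by rw [ht, tor_pt]; simp
  have htt : t * t = 1 := m.ext_pt ff.faith fun x y c => by rw [mul_smul, htpt, htpt, one_smul, neg_neg, neg_neg]
  have hτR := hR.inv hτ
  have hτC := m.T_le_stab_CA ff hτ
  have hCR : ∀ u ∈ m.CA, t • u - u ∈ m.R := fun u hu => by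
    obtain ⟨x, y, c, rfl⟩ := m.exists_pt u
    obtain rfl := m.pt_mem_CA.1 hu
    rw [htpt, pt_sub]; simp
  have hUC : ∀ u : U, t • u + u ∈ m.CA := fun u => by
    obtain ⟨x, y, c, rfl⟩ := m.exists_pt u
    rw [htpt, pt_add]; simp
  obtain ⟨w₀, hw₀⟩ : ∃ w₀, w₀ = τ * t * τ⁻¹ * t := ⟨_, rfl⟩
  have hexp : ∀ u : U, w₀ • u = τ • t • τ⁻¹ • t • u := fun u => by rw [hw₀, mul_smul, mul_smul, mul_smul]
  have hw : w₀ ∈ m.heis := by
    refine ⟨fun u hu => ?_, fun u hu => ?_, fun u => ?_⟩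
    · obtain ⟨x, rfl⟩ := m.mem_R.1 hu
      have hneg : t • m.pt x 0 0 = -m.pt x 0 0 := by rw [htpt, pt_neg, neg_zero]; simp
      obtain ⟨x', hx'⟩ := m.mem_R.1 ((stab m.R).inv_mem hτR (m.pt x 0 0) (by simp))
      rw [hexp, hneg, smul_neg, smul_neg, ← hx', show t • m.pt x' 0 0 = -m.pt x' 0 0 by
        rw [htpt, pt_neg, neg_zero]; simp, neg_neg, hx', smul_inv_smul]
    · set u' := τ⁻¹ • t • u with hu'
      have hu'C : u' ∈ m.CA := (stab m.CA).inv_mem hτC _ (m.tor_mem_CA _ u hu)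
      rw [hexp, ← hu', show τ • t • u' - u = τ • (t • u' - u') + (t • u - u) by
        rw [smul_sub, hu', smul_inv_smul]; abel]
      exact m.R.add_mem (hτR _ (hCR _ hu'C)) (hCR u hu)
    · set u' := τ⁻¹ • t • u with hu'
      rw [hexp, ← hu', show τ • t • u' - u = τ • (t • u' + u') - (t • u + u) by
        rw [smul_add, hu', smul_inv_smul]; abel]
      exact m.CA.sub_mem (hτC _ (hUC _)) (hUC u)
  have hti : t⁻¹ = t := inv_eq_of_mul_eq_one_right htt
  obtain ⟨l, hl⟩ := m.heis_odd ff hw (by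
    rw [hw₀, ← ht, mul_inv_rev, mul_inv_rev, mul_inv_rev, inv_inv, hti]
    simp only [mul_assoc]
    rw [htt, mul_one])
  have h1 : t * w₀ * t = w₀⁻¹ := by
    rw [hw₀, mul_inv_rev, mul_inv_rev, mul_inv_rev, inv_inv, hti]
    simp only [mul_assoc]
    rw [htt, mul_one]
  have h2 : t * m.ua l * t = m.ua l := m.ext_pt ff.faith fun x y c => by
    rw [mul_smul, mul_smul, htpt, ua_pt, htpt, ua_pt, pt_inj]
    refine ⟨by ring, by ring, rfl⟩
  rw [hl, h2, ← m.ua_neg ff.faith] at h1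
  have h3 : l = 0 := by
    have h4 : (2 : m.F) * l = 0 := by linear_combination m.ua_injective h1
    exact (mul_eq_zero.1 h4).resolve_left (m.two_ne_zero ff)
  rw [h3, m.ua_zero ff.faith, hw₀, mul_eq_one_iff_eq_inv, hti, mul_inv_eq_iff_eq_mul] at hl
  exact hl

/-- The third coordinate is trivial. -/
theorem C_zero (ff : FF U p T M T₁) (c : m.C) : c = 0 := by
  let C₀ : AddSubgroup U :=
    { carrier := {u | (m.e u).1 = 0 ∧ (m.e u).2.1 = 0}
      zero_mem' := by simp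
      add_mem' := fun {a b} ha hb => by simp [ha.1, ha.2, hb.1, hb.2]
      neg_mem' := fun {a} ha => by simp [ha.1, ha.2] }
  have hmem : ∀ x y c, m.pt x y c ∈ C₀ ↔ x = 0 ∧ y = 0 := fun x y c => by
    show (m.e _).1 = 0 ∧ (m.e _).2.1 = 0 ↔ _
    rw [e_pt]
  have h2 := m.two_ne_zero ff
  have hinv := m.eq_top ff (K := stab C₀) (fun τ hτ u hu => by
    obtain ⟨x, y, c, rfl⟩ := m.exists_pt u
    obtain ⟨rfl, rfl⟩ := (hmem x y c).1 hu
    obtain ⟨a, b, d, hv⟩ := m.exists_pt (τ • m.pt 0 0 c)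
    have h3 : m.tor (-1) • τ • m.pt 0 0 c = τ • m.pt 0 0 c := by
      rw [← mul_smul, ← m.comm_involution ff hτ, mul_smul, tor_pt]; simp
    rw [hv, tor_pt, pt_inj] at h3
    rw [hv, hmem]
    simp at h3
    constructor
    · have : (2 : m.F) * a = 0 := by linear_combination -h3.1
      exact (mul_eq_zero.1 this).resolve_left h2
    · have : (2 : m.F) * b = 0 := by linear_combination -h3.2
      exact (mul_eq_zero.1 this).resolve_left h2) (fun l u hu => by
    obtain ⟨x, y, c, rfl⟩ := m.exists_pt u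
    obtain ⟨rfl, rfl⟩ := (hmem x y c).1 hu
    rw [la_pt, hmem]; simp)
  rcases ff.irred C₀ (fun g => (hinv.symm ▸ Subgroup.mem_top g : g ∈ stab C₀)) with h | h
  · have h3 : m.pt 0 0 c ∈ (⊥ : AddSubgroup U) := h ▸ (hmem 0 0 c).2 ⟨rfl, rfl⟩
    rw [AddSubgroup.mem_bot, ← m.pt_zero, pt_inj] at h3
    exact h3.2.2
  · exact absurd ((hmem 1 0 0).1 (h ▸ AddSubgroup.mem_top _)).1 one_ne_zero

theorem exists_pt₂ (ff : FF U p T M T₁) (u : U) : ∃ x y, u = m.pt x y 0 := by
  obtain ⟨x, y, c, rfl⟩ := m.exists_pt u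
  exact ⟨x, y, by rw [m.C_zero ff c]⟩

theorem ext_pt₂ (ff : FF U p T M T₁) {g h : H} (hgh : ∀ x y, g • m.pt x y 0 = h • m.pt x y 0) : g = h :=
  m.ext_pt ff.faith fun x y c => by rw [m.C_zero ff c]; exact hgh x y

/-- An element of `T` in coordinates. -/
theorem T_shape (ff : FF U p T M T₁) {τ : H} (hτ : τ ∈ (T : Subgroup H)) :
    ∃ β b γ : m.F →+ m.F, ∃ f : m.F → m.F, (∀ x y, τ • m.pt x y 0 = m.pt (β x + γ y) (b y) 0) ∧
      (∀ l, τ * m.ua l * τ⁻¹ = m.ua (f l)) ∧
      (∀ l y, β (l * y) = f l * b y) ∧ b 1 ≠ 0 ∧ (∀ x, x ≠ 0 → β x ≠ 0) ∧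
      ∀ l y, β (l * y) * β 1 = β l * β y := by
  obtain ⟨β, b, f, hβ, hb, hf, hfb, hb1, hβ0, hmul⟩ := m.semilinear (m.upper_normal ff hτ)
  let γ : m.F →+ m.F := AddMonoidHom.mk' (fun y => (m.e (τ • m.pt 0 y 0)).1) fun a c => by
    rw [← Prod.fst_add, ← map_add, ← smul_add, pt_add]; simp
  refine ⟨β, b, γ, f, fun x y => ?_, hf, hfb, hb1, hβ0, hmul⟩
  obtain ⟨a, d, h⟩ := m.exists_pt₂ ff (τ • m.pt 0 y 0)
  rw [show m.pt x y 0 = m.pt x 0 0 + m.pt 0 y 0 by rw [pt_add]; simp, smul_add, hβ, h, pt_add, zero_add,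
    add_zero, ← hb, show γ y = (m.e (τ • m.pt 0 y 0)).1 from rfl, h, e_pt]

/-- An element of `T` fixing the axis pointwise is upper unipotent. -/
theorem T_fix_axis (ff : FF U p T M T₁) {τ : H} (hτ : τ ∈ (T : Subgroup H))
    (hfix : ∀ x, τ • m.pt x 0 0 = m.pt x 0 0) : ∃ l, τ = m.ua l := by
  classical
  obtain ⟨β, b, γ, f, hs, -, hfb, hb1, -, -⟩ := m.T_shape ff hτ
  have hβ : ∀ x, β x = x := fun x => by
    have := hs x 0
    rw [hfix, map_zero, map_zero, add_zero, pt_inj] at this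
    exact this.1.symm
  have hby : ∀ y, b y = b 1 * y := fun y => by
    have h1 := hfb 1 y
    have h2 := hfb 1 1
    rw [hβ, one_mul] at h1
    rw [hβ, mul_one] at h2
    linear_combination -b 1 * h1 + b y * h2
  have hpow : ∀ (n : ℕ) x y, (m.e (τ ^ n • m.pt x y 0)).2.1 = b 1 ^ n * y := fun n => by
    induction n with
    | zero => intro x y; simp
    | succ n ih =>
      intro x y
      rw [pow_succ, mul_smul, hs, ih, hby y]
      ring
  haveI : CharP m.F p := by
    have hpz : (p : m.F) = 0 := by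
      have h1 := congrArg (fun u => (m.e u).1) (ff.expp (m.pt 1 0 0))
      simpa [map_nsmul] using h1
    obtain ⟨q, hq⟩ := CharP.exists m.F
    have hdvd : q ∣ p := (CharP.cast_eq_zero_iff m.F q p).1 hpz
    rcases (Nat.dvd_prime hp.out).1 hdvd with h | h
    · haveI := hq
      exact absurd h (CharP.char_ne_one m.F q)
    · exact h ▸ hq
  obtain ⟨j, hj⟩ := T.2 ⟨τ, hτ⟩
  replace hj : τ ^ p ^ j = 1 := congrArg Subtype.val hj
  have hb1' : b 1 = 1 := by
    have h1 := hpow (p ^ j) 0 1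
    rw [hj, one_smul, e_pt, mul_one] at h1
    have h2 : (b 1 - 1) ^ p ^ j = 0 := by rw [sub_pow_char_pow, one_pow, ← h1, sub_self]
    exact sub_eq_zero.1 (eq_zero_of_pow_eq_zero h2)
  have hmem : τ ∈ fixMod m.R := by
    refine ⟨fun u hu => ?_, fun u => ?_⟩
    · obtain ⟨x, rfl⟩ := m.mem_R.1 hu
      exact hfix x
    · obtain ⟨x, y, rfl⟩ := m.exists_pt₂ ff u
      rw [hs, pt_sub, hby, hb1', one_mul]; simp
  obtain ⟨l, δ, hl⟩ := (m.ydata_R ff).pure ff hmem
  exact ⟨l, m.ext_pt₂ ff fun x y => by rw [hl, map_zero, add_zero, ua_pt]⟩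

/-- The offenders in `T` are upper unipotent. -/
theorem offender_upper (ff : FF U p T M T₁) {D : Subgroup H} (hDT : D ≤ (T : Subgroup H))
    (hcomm : ∀ a ∈ D, ∀ b ∈ D, a * b = b * a)
    (hoff : Nat.card U ≤ Nat.card ↥D * Nat.card ↥(fixS U D)) : D ≤ m.A ff.faith := by
  classical
  by_contra hne
  obtain ⟨d, hdD, hdA⟩ := SetLike.not_le_iff_exists.1 hne
  obtain ⟨v, hvR, hv0, hvfix⟩ := exists_fix_mod ff.expp (T.2.to_le hDT) m.R ⊥
    (hDT.trans (m.ydata_R ff).inv) (fun g _ x hx => by simp [AddSubgroup.mem_bot.1 hx])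
    (fun h => m.R_ne_bot (le_bot_iff.1 h))
  obtain ⟨x₀, rfl⟩ := m.mem_R.1 hvR
  have hx₀ : x₀ ≠ 0 := fun h => hv0 (by rw [h, pt_zero]; exact zero_mem _)
  have hfix₀ : ∀ a ∈ D, a • m.pt x₀ 0 0 = m.pt x₀ 0 0 := fun a ha =>
    sub_eq_zero.1 (AddSubgroup.mem_bot.1 (hvfix a ha))
  obtain ⟨β, b, γ, f, hs, hf, hfb, hb1, hβ0, hmul⟩ := m.T_shape ff (hDT hdD)
  have hs0 : ∀ x, d • m.pt x 0 0 = m.pt (β x) 0 0 := fun x => by rw [hs, map_zero, map_zero, add_zero]
  have hβx₀ : β x₀ = x₀ := by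
    have := hfix₀ d hdD
    rw [hs0, pt_inj] at this
    exact this.1
  have hβ1 : β 1 ≠ 0 := hβ0 1 one_ne_zero
  -- a moved element
  obtain ⟨a₀, ha₀⟩ : ∃ a₀, β a₀ ≠ a₀ * β 1 := by
    by_contra! hall
    refine hdA ?_
    have h1 : β 1 = 1 := mul_left_cancel₀ hx₀ (by rw [← hall, hβx₀, mul_one])
    obtain ⟨l, hl⟩ := m.T_fix_axis ff (hDT hdD) fun x => by rw [hs0, hall, h1, mul_one]
    exact ⟨l, hl.symm⟩
  set N := Nat.card {a : m.F // β a = a * β 1} with hN
  set q := Nat.card m.F with hq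
  have hN2 : N * N ≤ q := card_fixed_sq_le β hmul hβ1 ha₀
  set S := D ⊓ m.A ff.faith with hS
  -- the index of the upper part
  have hDS : Nat.card ↥D ≤ (q - 1) * Nat.card ↥S := by
    obtain ⟨μ, hμ⟩ := IsCyclic.exists_generator (α := m.Fˣ)
    let val : ↥D → m.F := fun a => (m.e ((a : H) • m.pt ((μ : m.F) * x₀) 0 0)).1
    let F0 := {x : m.F // x ≠ 0}
    have hval : ∀ a : ↥D, ∃ β : m.F →+ m.F, (∀ x, (a : H) • m.pt x 0 0 = m.pt (β x) 0 0) ∧
        β x₀ = x₀ ∧ (∀ x, x ≠ 0 → β x ≠ 0) ∧ ∀ l y, β (l * y) * β 1 = β l * β y := by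
      intro a
      obtain ⟨β, b, γ, f, hs, -, -, -, hβ0, hmul⟩ := m.T_shape ff (hDT a.2)
      have hs0 : ∀ x, (a : H) • m.pt x 0 0 = m.pt (β x) 0 0 := fun x => by rw [hs, map_zero, map_zero, add_zero]
      refine ⟨β, hs0, ?_, hβ0, hmul⟩
      have := hfix₀ a a.2
      rw [hs0, pt_inj] at this
      exact this.1
    have hne0 : ∀ a : ↥D, val a ≠ 0 := fun a => by
      obtain ⟨β, hβ, -, hβ0, -⟩ := hval a
      show (m.e _).1 ≠ 0
      rw [hβ, e_pt]
      exact hβ0 _ (mul_ne_zero (Units.ne_zero μ) hx₀)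
    set S' := S.subgroupOf D
    have hinj : Function.Injective (fun i : ↥D ⧸ S' => (⟨val i.out, hne0 _⟩ : F0)) := by
      intro i j h
      rw [← QuotientGroup.out_eq' i, ← QuotientGroup.out_eq' j, QuotientGroup.eq, Subgroup.mem_subgroupOf]
      set a : ↥D := i.out⁻¹ * j.out with ha
      refine ⟨a.2, ?_⟩
      obtain ⟨β, hβ, hβx, hβ0, hmul⟩ := hval a
      obtain ⟨β₁, hβ₁, -, -, -⟩ := hval i.out
      obtain ⟨β₂, hβ₂, -, -, -⟩ := hval j.out
      have h' : val i.out = val j.out := congrArg Subtype.val h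
      have h1 : ((i.out : ↥D) : H) • m.pt ((μ : m.F) * x₀) 0 0 = ((j.out : ↥D) : H) • m.pt ((μ : m.F) * x₀) 0 0 := by
        simp only [val, hβ₁, hβ₂, e_pt] at h'
        rw [hβ₁, hβ₂, h']
      have h2 : (a : H) • m.pt ((μ : m.F) * x₀) 0 0 = m.pt ((μ : m.F) * x₀) 0 0 := by
        rw [ha, Subgroup.coe_mul, InvMemClass.coe_inv, mul_smul, ← h1, inv_smul_smul]
      rw [hβ, pt_inj] at h2
      obtain ⟨l, hl⟩ := m.T_fix_axis ff (hDT a.2) fun x => by
        rw [hβ, m.semilinear_id hβ0 hmul hx₀ hβx hμ h2.1]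
      exact ⟨l, hl.symm⟩
    have hF0 : Nat.card F0 = q - 1 := by
      haveI : Fintype m.F := Fintype.ofFinite _
      rw [hq, Nat.card_eq_fintype_card, Nat.card_eq_fintype_card, Fintype.card_subtype_compl,
        Fintype.card_subtype_eq]
    have h1 := Nat.card_le_card_of_injective _ hinj
    rw [hF0] at h1
    rw [← Nat.card_congr (Subgroup.subgroupOfEquivOfLe (inf_le_left : S ≤ D)).toEquiv,
      Subgroup.card_eq_card_quotient_mul_card_subgroup S']
    exact Nat.mul_le_mul_right _ h1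
  have hU : Nat.card U = q * q := by
    rw [hq, Nat.card_congr (Equiv.ofBijective (fun a : m.F × m.F => m.pt a.1 a.2 0)
      ⟨fun a b h => Prod.ext (m.pt_inj.1 h).1 (m.pt_inj.1 h).2.1,
        fun u => by obtain ⟨x, y, h⟩ := m.exists_pt₂ ff u; exact ⟨(x, y), h.symm⟩⟩).symm, Nat.card_prod]
  have hq0 : 0 < q := Nat.card_pos
  have hfin : Nat.card ↥S * Nat.card ↥(fixS U D) ≤ q := by
    by_cases hS1 : S = ⊥
    · rw [hS1, Subgroup.card_bot, one_mul]
      let π : ↥(fixS U D) →+ m.F := AddMonoidHom.mk' (fun u => (m.e (u : U)).2.1) fun a c => by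
        simp [map_add]
      have hker : Nat.card π.ker ≤ N := by
        refine le_trans ?_ (card_eigen_le β hmul hβ0 1)
        refine Nat.card_le_card_of_injective (fun u => ⟨(m.e ((u : ↥(fixS U D)) : U)).1, ?_⟩) ?_
        · obtain ⟨⟨u, hu⟩, hu0⟩ := u
          obtain ⟨x, y, rfl⟩ := m.exists_pt₂ ff u
          have hy : y = 0 := by
            have h0 : (m.e (m.pt x y 0)).2.1 = 0 := hu0
            rwa [e_pt] at h0
          have h1 := hu d hdD
          rw [hy, hs0, pt_inj] at h1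
          show β (m.e (m.pt x y 0)).1 = 1 * (m.e (m.pt x y 0)).1
          rw [e_pt, one_mul]
          exact h1.1
        · rintro ⟨⟨u, hu⟩, hu0⟩ ⟨⟨u', hu'⟩, hu0'⟩ h
          obtain ⟨x, y, rfl⟩ := m.exists_pt₂ ff u
          obtain ⟨x', y', rfl⟩ := m.exists_pt₂ ff u'
          have hy : (m.e (m.pt x y 0)).2.1 = 0 := hu0
          have hy' : (m.e (m.pt x' y' 0)).2.1 = 0 := hu0'
          have h' : (m.e (m.pt x y 0)).1 = (m.e (m.pt x' y' 0)).1 := congrArg Subtype.val h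
          rw [e_pt] at hy hy'
          rw [e_pt, e_pt] at h'
          exact Subtype.ext (Subtype.ext (m.pt_inj.2 ⟨h', hy.trans hy'.symm, rfl⟩))
      have hrange : Nat.card π.range ≤ N := by
        refine le_trans ?_ (card_eigen_le β hmul hβ0 (f 1))
        refine Nat.card_le_card_of_injective (fun y => ⟨(y : m.F), ?_⟩)
          fun y y' h => Subtype.ext (congrArg Subtype.val h :)
        obtain ⟨⟨u, hu⟩, hy⟩ := y.2
        obtain ⟨x, z, rfl⟩ := m.exists_pt₂ ff u
        have h1 := hu d hdD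
        rw [hs, pt_inj] at h1
        have hz : (m.e (m.pt x z 0)).2.1 = (y : m.F) := hy
        rw [e_pt] at hz
        have h2 := hfb 1 z
        rw [one_mul, h1.2.1] at h2
        rw [← hz]
        exact h2
      rw [← AddSubgroup.index_mul_card π.ker, AddSubgroup.index_ker]
      exact (Nat.mul_le_mul hrange hker).trans hN2
    · obtain ⟨⟨s, hs'⟩, hs1⟩ := Subgroup.ne_bot_iff_exists_ne_one.1 hS1
      obtain ⟨l₀, rfl⟩ := hs'.2
      have hl₀ : l₀ ≠ 0 := fun h => hs1 (Subtype.ext (by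
        show m.ua l₀ = 1
        rw [h, m.ua_zero ff.faith]))
      have hfixle : Nat.card ↥(fixS U D) ≤ N := by
        refine le_trans ?_ (card_eigen_le β hmul hβ0 1)
        have hy : ∀ x y, m.pt x y 0 ∈ fixS U D → y = 0 := fun x y h => by
          have h1 := h _ hs'.1
          rw [ua_pt, pt_inj] at h1
          simpa [hl₀] using h1.1
        refine Nat.card_le_card_of_injective (fun u => ⟨(m.e (u : U)).1, ?_⟩) ?_
        · obtain ⟨u, hu⟩ := u
          obtain ⟨x, y, rfl⟩ := m.exists_pt₂ ff u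
          have h1 := hu d hdD
          rw [hy x y hu, hs0, pt_inj] at h1
          show β (m.e (m.pt x y 0)).1 = 1 * (m.e (m.pt x y 0)).1
          rw [e_pt, one_mul]
          exact h1.1
        · rintro ⟨u, hu⟩ ⟨u', hu'⟩ h
          obtain ⟨x, y, rfl⟩ := m.exists_pt₂ ff u
          obtain ⟨x', y', rfl⟩ := m.exists_pt₂ ff u'
          have h' : (m.e (m.pt x y 0)).1 = (m.e (m.pt x' y' 0)).1 := congrArg Subtype.val h
          rw [e_pt, e_pt] at h'
          exact Subtype.ext (m.pt_inj.2 ⟨h', (hy x y hu).trans (hy x' y' hu').symm, rfl⟩)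
      have hSle : Nat.card ↥S ≤ N := by
        refine le_trans ?_ (card_eigen_le β hmul hβ0 (b 1))
        choose g hg using fun a : ↥S => a.2.2
        refine Nat.card_le_card_of_injective (fun a => ⟨g a, ?_⟩) fun a a' h =>
          Subtype.ext (by rw [← hg a, ← hg a', show g a = g a' from congrArg Subtype.val h])
        have h1 : d * m.ua (g a) * d⁻¹ = m.ua (g a) := by
          rw [hg a, hcomm d hdD _ a.2.1, mul_inv_cancel_right]
        rw [hf] at h1
        have h2 := hfb (g a) 1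
        rw [mul_one, m.ua_injective h1] at h2
        rw [h2, mul_comm]
      exact (Nat.mul_le_mul hSle hfixle).trans hN2
  have h1 : q * q ≤ (q - 1) * q := by
    calc q * q = Nat.card U := hU.symm
      _ ≤ Nat.card ↥D * Nat.card ↥(fixS U D) := hoff
      _ ≤ (q - 1) * Nat.card ↥S * Nat.card ↥(fixS U D) := Nat.mul_le_mul_right _ hDS
      _ ≤ _ := by rw [mul_assoc]; exact Nat.mul_le_mul_left _ hfin
  have h2 := Nat.le_of_mul_le_mul_right h1 hq0
  omega

/-- The subgroup `T₁` is upper unipotent. -/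
theorem T₁_upper (ff : FF U p T M T₁) : T₁ ≤ m.A ff.faith := fun a ha => by
  obtain ⟨l, hl⟩ := m.T_fix_axis ff (ff.t1T ha) fun x => ff.hfix (m.pt x 0 0) (fun D hDT hDc hDo b hb => by
    obtain ⟨l, rfl⟩ := m.offender_upper ff hDT hDc hDo hb
    simp) a ha
  exact ⟨l, hl.symm⟩

/-- The group generated by the unipotent elements. -/
def unip (m : Model U (T : Subgroup H) M) : Subgroup H := Subgroup.closure (Set.range m.ua ∪ Set.range m.la)

theorem ua_mem_unip (l : m.F) : m.ua l ∈ m.unip := Subgroup.subset_closure (Or.inl ⟨l, rfl⟩)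

theorem la_mem_unip (l : m.F) : m.la l ∈ m.unip := Subgroup.subset_closure (Or.inr ⟨l, rfl⟩)

theorem conj_la (ff : FF U p T M T₁) {τ : H} (hτ : τ ∈ (T : Subgroup H)) (l : m.F) :
    τ * m.la l * τ⁻¹ ∈ m.unip := by
  classical
  obtain ⟨β, b, γ, f, hs, -, hfb, hb1, hβ0, hmul⟩ := m.T_shape ff hτ
  have hβ1 : β 1 ≠ 0 := hβ0 1 one_ne_zero
  have hβb : ∀ y, β y = f 1 * b y := fun y => by simpa using hfb 1 y
  have hf1 : f 1 ≠ 0 := fun h => hβ1 (by rw [hβb, h, zero_mul])
  have hbinj : Function.Injective b := (injective_iff_map_eq_zero b).2 fun y hy => by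
    by_contra h0
    exact hβ0 y h0 (by rw [hβb, hy, mul_zero])
  let be : m.F ≃+ m.F := AddEquiv.ofBijective b (Finite.injective_iff_bijective.1 hbinj)
  let G : m.F →+ m.F := γ.comp be.symm.toAddMonoidHom
  have hG : ∀ y, G (b y) = γ y := fun y => congrArg γ (be.symm_apply_apply y)
  have hscal : ∀ w, G w = G 1 * w := by
    refine scalar_of_inverse_twisted (m.two_ne_zero ff) G fun r hr => ?_
    set s : m.F := r⁻¹ with hsdef
    have hs0 : s ≠ 0 := inv_ne_zero hr
    have hβinj : Function.Injective β := (injective_iff_map_eq_zero β).2 fun y hy => by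
      by_contra h0
      exact hβ0 y h0 hy
    obtain ⟨k₀, hk₀⟩ := Finite.injective_iff_surjective.1 hβinj (s * β 1)
    have hk00 : k₀ ≠ 0 := fun h => mul_ne_zero hs0 hβ1 (by rw [← hk₀, h, map_zero])
    set k := Units.mk0 k₀ hk00
    set s' := Units.mk0 s hs0
    have hkx : ∀ x, β ((k : m.F) * x) = s * β x := fun x => mul_right_cancel₀ hβ1 (by
      rw [hmul, show (k : m.F) = k₀ from rfl, hk₀]; ring)
    have hky : ∀ y, b (((k⁻¹ : m.Fˣ) : m.F) * y) = r * b y := fun y => by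
      refine mul_left_cancel₀ hf1 (mul_left_cancel₀ hs0 ?_)
      rw [← hβb, ← hkx, Units.mul_inv_cancel_left, hβb, hsdef]
      field_simp
    obtain ⟨z, hz⟩ : ∃ z, z = τ * m.tor k * (m.tor s' * τ)⁻¹ := ⟨_, rfl⟩
    have hzpt : ∀ x y, z • m.pt (s * (β x + γ y)) (r * b y) 0 =
        m.pt (s * β x + γ (((k⁻¹ : m.Fˣ) : m.F) * y)) (r * b y) 0 := fun x y => by
      have h1 : (m.tor s' * τ) • m.pt x y 0 = m.pt (s * (β x + γ y)) (r * b y) 0 := by
        rw [mul_smul, hs, tor_pt, pt_inj]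
        exact ⟨rfl, by simp [s', hsdef], rfl⟩
      rw [hz, mul_smul, ← h1, inv_smul_smul, mul_smul, tor_pt, hs, hkx, hky]
    have hzall : ∀ a c, ∃ e, z • m.pt a c 0 = m.pt (a + e) c 0 ∧ e = G c - s * G (c / r) := by
      intro a c
      set y := be.symm (c / r)
      have hy : b y = c / r := be.apply_symm_apply _
      obtain ⟨x, hx⟩ := Finite.injective_iff_surjective.1 hβinj (a / s - γ y)
      have h1 := hzpt x y
      rw [hx, hy, mul_div_cancel₀ _ hr, sub_add_cancel, mul_div_cancel₀ _ hs0] at h1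
      have e1 : γ (((k⁻¹ : m.Fˣ) : m.F) * y) = G c := by
        rw [← hG, hky, hy, mul_div_cancel₀ _ hr]
      have e2 : γ y = G (c / r) := by rw [← hy, hG]
      refine ⟨_, ?_, rfl⟩
      rw [h1, e1, e2, pt_inj]
      refine ⟨?_, rfl, rfl⟩
      rw [mul_sub, mul_div_cancel₀ _ hs0]
      ring
    have hzR : z ∈ fixMod m.R := by
      refine ⟨fun u hu => ?_, fun u => ?_⟩
      · obtain ⟨a, rfl⟩ := m.mem_R.1 hu
        obtain ⟨e, he, he'⟩ := hzall a 0
        rw [he, he']; simp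
      · obtain ⟨a, c, rfl⟩ := m.exists_pt₂ ff u
        obtain ⟨e, he, -⟩ := hzall a c
        rw [he, pt_sub]; simp
    obtain ⟨L, δ, hL⟩ := (m.ydata_R ff).pure ff hzR
    refine ⟨L * r, fun w => ?_⟩
    obtain ⟨e, he, he'⟩ := hzall 0 (r * w)
    rw [hL, pt_inj] at he
    have h2 := he.1
    rw [he', mul_div_cancel_left₀ _ hr, hsdef] at h2
    linear_combination -h2
  set g₀ := G 1
  have hγ : ∀ y, γ y = g₀ * b y := fun y => by rw [← hG, hscal]
  have hu : ∀ x y, (m.ua (-g₀) * τ) • m.pt x y 0 = m.pt (β x) (b y) 0 := fun x y => by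
    rw [mul_smul, hs, ua_pt, hγ, pt_inj]
    exact ⟨by ring, rfl, rfl⟩
  have h1 : τ * m.la l * τ⁻¹ = m.ua g₀ * m.la (β l / (β 1 * f 1)) * m.ua (-g₀) := by
    have h2 : (m.ua (-g₀) * τ) * m.la l = m.la (β l / (β 1 * f 1)) * (m.ua (-g₀) * τ) :=
      m.ext_pt₂ ff fun x y => by
        rw [mul_smul, la_pt, hu, mul_smul (m.la _), hu, la_pt, pt_inj]
        refine ⟨rfl, ?_, rfl⟩
        rw [map_add, add_right_inj]
        refine mul_left_cancel₀ hf1 (mul_right_cancel₀ hβ1 ?_)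
        rw [← hβb, hmul]
        field_simp
    rw [m.ua_neg ff.faith] at h2 ⊢
    calc τ * m.la l * τ⁻¹ = m.ua g₀ * ((m.ua g₀)⁻¹ * τ * m.la l) * τ⁻¹ := by group
      _ = _ := by rw [h2]; group
  rw [h1]
  exact m.unip.mul_mem (m.unip.mul_mem (m.ua_mem_unip _) (m.la_mem_unip _)) (m.ua_mem_unip _)

/-- The unipotent elements generate. -/
theorem unip_eq_top (ff : FF U p T M T₁) : m.unip = ⊤ := by
  classical
  have key : ∀ τ ∈ (T : Subgroup H), ∀ g ∈ m.unip, τ * g * τ⁻¹ ∈ m.unip := by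
    intro τ hτ g hg
    have hle : m.unip ≤ m.unip.comap (MulAut.conj τ).toMonoidHom := by
      refine (Subgroup.closure_le _).2 ?_
      rintro _ (⟨l, rfl⟩ | ⟨l, rfl⟩)
      · obtain ⟨l', hl'⟩ := m.upper_normal ff hτ l
        show τ * m.ua l * τ⁻¹ ∈ m.unip
        rw [hl']
        exact m.ua_mem_unip _
      · exact m.conj_la ff hτ l
    exact hle hg
  have hn : Subgroup.normalizer (m.unip : Set H) = ⊤ := m.eq_top ff
    (fun τ hτ => Subgroup.mem_normalizer_iff.2 fun g => ⟨key τ hτ g, fun h => by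
      have := key τ⁻¹ (inv_mem hτ) _ h
      simpa [mul_assoc] using this⟩)
    (fun l => Subgroup.le_normalizer (m.la_mem_unip l))
  refine ff.closure _ (Subgroup.normalizer_eq_top_iff.1 hn) fun a ha => ?_
  obtain ⟨l, rfl⟩ := m.T₁_upper ff ha
  exact m.ua_mem_unip l

end Model

/-- The group is `SL₂` over a finite field of characteristic `p`. -/
theorem FF.sl_two (ff : FF U p T M T₁) :
    ∃ (F : Type) (_ : Field F) (_ : Fintype F), Nonempty (H ≃* SL(2, F)) ∧ ∃ n : ℕ, Fintype.card F = p ^ n := by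
  classical
  obtain ⟨m⟩ := ff.exists_model
  haveI : Fintype m.F := Fintype.ofFinite _
  let R : Subgroup H :=
    { carrier := {h | ∃ g : SL(2, m.F), ∀ x y, h • m.pt x y 0 =
        m.pt (g 0 0 * x + g 0 1 * y) (g 1 0 * x + g 1 1 * y) 0}
      one_mem' := ⟨1, fun x y => by simp⟩
      mul_mem' := fun {h h'} ⟨g, hg⟩ ⟨g', hg'⟩ => ⟨g * g', fun x y => by
        rw [mul_smul, hg', hg, Model.pt_inj]
        simp [Matrix.SpecialLinearGroup.coe_mul, Matrix.mul_apply, Fin.sum_univ_two]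
        constructor <;> ring⟩
      inv_mem' := fun {h} ⟨g, hg⟩ => ⟨g⁻¹, fun x y => by
        rw [inv_smul_eq_iff, hg, Model.pt_inj]
        have hd := CfsgLib.QuadPair.det_eq g
        simp [Matrix.SpecialLinearGroup.coe_inv, Matrix.adjugate_fin_two]
        constructor
        · linear_combination -x * hd
        · linear_combination -y * hd⟩ }
  have hR : ∀ h : H, h ∈ R := by
    have hle : m.unip ≤ R := by
      refine (Subgroup.closure_le _).2 ?_
      rintro _ (⟨l, rfl⟩ | ⟨l, rfl⟩)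
      · exact ⟨CfsgLib.QuadPair.upper l, fun x y => by simp [CfsgLib.QuadPair.upper_val]⟩
      · exact ⟨CfsgLib.QuadPair.lower l, fun x y => by simp [CfsgLib.QuadPair.lower_val, add_comm]⟩
    exact fun h => hle (m.unip_eq_top ff ▸ Subgroup.mem_top h)
  choose g hg using hR
  have huniq : ∀ (h : H) (g' : SL(2, m.F)), (∀ x y, h • m.pt x y 0 =
      m.pt (g' 0 0 * x + g' 0 1 * y) (g' 1 0 * x + g' 1 1 * y) 0) → g h = g' := by
    intro h g' hg'
    have e1 := (hg h 1 0).symm.trans (hg' 1 0)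
    have e2 := (hg h 0 1).symm.trans (hg' 0 1)
    rw [Model.pt_inj] at e1 e2
    simp at e1 e2
    exact CfsgLib.QuadPair.ext_two e1.1 e2.1 e1.2 e2.2
  let ρ : H →* SL(2, m.F) := MonoidHom.mk' g fun h h' => huniq _ _ fun x y => by
    rw [mul_smul, hg, hg, Model.pt_inj]
    simp [Matrix.SpecialLinearGroup.coe_mul, Matrix.mul_apply, Fin.sum_univ_two]
    constructor <;> ring
  have hinj : Function.Injective ρ := (injective_iff_map_eq_one ρ).2 fun h hh => m.ext_pt₂ ff fun x y => by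
    rw [hg, show g h = 1 from hh, one_smul]; simp
  have hsurj : Function.Surjective ρ := by
    rw [← MonoidHom.range_eq_top]
    refine CfsgLib.QuadPair.eq_top_of_elementary _ (fun l => ⟨m.ua l, huniq _ _ fun x y => ?_⟩)
      (fun l => ⟨m.la l, huniq _ _ fun x y => ?_⟩)
    · simp [CfsgLib.QuadPair.upper_val]
    · simp [CfsgLib.QuadPair.lower_val, add_comm]
  refine ⟨m.F, inferInstance, inferInstance, ⟨MulEquiv.ofBijective ρ ⟨hinj, hsurj⟩⟩, ?_⟩
  have hpg : IsPGroup p (Multiplicative m.F) := fun a => ⟨1, by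
    have h1 := congrArg (fun u => (m.e u).1) (ff.expp (m.pt (Multiplicative.toAdd a) 0 0))
    apply Multiplicative.toAdd.injective
    simpa [map_nsmul] using h1⟩
  obtain ⟨n, hn⟩ := hpg.exists_card_eq
  exact ⟨n, by rw [← Nat.card_eq_fintype_card, ← hn]; exact Nat.card_congr Multiplicative.ofAdd⟩

end CfsgLib.FocalThree
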