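import Cfsg.Agent.Lib.PushAmalgam.Iso
import Cfsg.Agent.Lib.CFun.Functor
import Cfsg.Agent.Lib.Fusion.ZJFamilies

/-!
# The two functors: the centre and the Frattini join of `C_S(Z(J(S)))`
-/

set_option autoImplicit false
set_option linter.style.haveILetI false

open Subgroup

namespace CfsgLib.FocalThree

universe u

/-- The centre. -/
def zFun (Q : Type u) [Group Q] : Subgroup Q := center Q

/-- The centralizer of the centre of the Thompson subgroup. -/
def jTilde (Q : Type u) [Group Q] : Subgroup Q :=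
  centralizer ((Cfsg.thompsonSubgroupA Q ⊓ centralizer (Cfsg.thompsonSubgroupA Q : Set Q) : Subgroup Q) : Set Q)

/-- The join of the Frattini subgroups, or everything if that is trivial. -/
noncomputable def fFun (p : ℕ) (Q : Type u) [Group Q] : Subgroup Q :=
  @ite _ (Cfsg.frattiniOfMinimalCLJoin p Q = ⊥) (Classical.propDecidable _) ⊤
    (Cfsg.frattiniOfMinimalCLJoin p Q)

/-- The characteristic subgroup used beside the centre. -/
noncomputable def kFun (p : ℕ) (Q : Type u) [Group Q] : Subgroup Q :=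
  (fFun p ↥(jTilde Q)).map (jTilde Q).subtype

theorem center_le_jTilde (Q : Type u) [Group Q] : center Q ≤ jTilde Q := center_le_centralizer _

theorem fFun_ne_bot (p : ℕ) (Q : Type u) [Group Q] [Nontrivial Q] : fFun p Q ≠ ⊥ := by
  classical
  unfold fFun
  split_ifs with h
  · exact top_ne_bot
  · exact h

theorem fFun_map {Q R : Type u} [Group Q] [Group R] (p : ℕ) (φ : Q ≃* R) :
    (fFun p Q).map φ.toMonoidHom = fFun p R := by
  classical
  have h1 := CfsgLib.PushAmalgam.frattiniJoin_map φ p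
  unfold fFun
  split_ifs with h2 h3 h3
  · rw [Subgroup.map_top_of_surjective _ φ.surjective]
  · rw [h2, Subgroup.map_bot] at h1
    exact absurd h1.symm h3
  · rw [← h1, Subgroup.map_eq_bot_iff_of_injective _ φ.injective] at h3
    exact absurd h3 h2
  · exact h1

theorem jTilde_map {Q R : Type u} [Group Q] [Group R] (φ : Q ≃* R) :
    (jTilde Q).map φ.toMonoidHom = jTilde R := by
  have key : ∀ (X : Subgroup Q), (centralizer (X : Set Q)).map φ.toMonoidHom =
      centralizer ((X.map φ.toMonoidHom : Subgroup R) : Set R) := by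
    intro X
    ext y
    constructor
    · rintro ⟨x, hx, rfl⟩
      refine mem_centralizer_iff.2 ?_
      rintro _ ⟨z, hz, rfl⟩
      rw [← map_mul, ← map_mul, mem_centralizer_iff.1 hx z hz]
    · intro hy
      refine ⟨φ.symm y, mem_centralizer_iff.2 fun z hz => φ.injective ?_, φ.apply_symm_apply y⟩
      rw [map_mul, map_mul, φ.apply_symm_apply]
      exact mem_centralizer_iff.1 hy _ ⟨z, hz, rfl⟩
  unfold jTilde
  rw [key, Subgroup.map_inf _ _ _ φ.injective, key, CfsgLib.PushAmalgam.thompsonA_map φ]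

theorem zFun_isCharPFunctor {p : ℕ} [Fact p.Prime] : Cfsg.IsCharPFunctor.{u} p zFun := by
  refine ⟨fun Q _ _ hQ _ h => ?_, fun Q R _ _ _ _ φ => ?_⟩
  · haveI := hQ.center_nontrivial
    exact (Subgroup.nontrivial_iff_ne_bot _).1 this h
  · refine le_antisymm ?_ fun y hy => ⟨φ.symm y, mem_center_iff.2 fun z => φ.injective ?_,
      φ.apply_symm_apply y⟩
    · rintro _ ⟨x, hx, rfl⟩
      refine mem_center_iff.2 fun y => ?_
      obtain ⟨z, rfl⟩ := φ.surjective y
      show φ z * φ x = φ x * φ z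
      rw [← map_mul, ← map_mul, mem_center_iff.1 hx z]
    · rw [map_mul, map_mul, φ.apply_symm_apply]
      exact mem_center_iff.1 hy _

theorem kFun_isCharPFunctor {p : ℕ} [Fact p.Prime] : Cfsg.IsCharPFunctor.{u} p (kFun p) := by
  refine ⟨fun Q _ _ hQ _ h => ?_, fun Q R _ _ _ _ φ => ?_⟩
  · haveI := hQ.center_nontrivial
    haveI : Nontrivial ↥(jTilde Q) := (Subgroup.nontrivial_iff_ne_bot _).2 fun hb =>
      (Subgroup.nontrivial_iff_ne_bot _).1 this (le_bot_iff.1 (hb ▸ center_le_jTilde Q))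
    exact fFun_ne_bot p _ ((map_eq_bot_iff_of_injective _ (jTilde Q).subtype_injective).1 h)
  · let e : ↥(jTilde Q) ≃* ↥(jTilde R) :=
      ((jTilde Q).equivMapOfInjective φ.toMonoidHom φ.injective).trans
        (MulEquiv.subgroupCongr (jTilde_map φ))
    show ((fFun p ↥(jTilde Q)).map (jTilde Q).subtype).map φ.toMonoidHom =
      (fFun p ↥(jTilde R)).map (jTilde R).subtype
    rw [← fFun_map p e, Subgroup.map_map, Subgroup.map_map]
    congr 1

/-- The two functors. -/
noncomputable def zkFam (p : ℕ) : Set (∀ (Q : Type u) [Group Q], Subgroup Q) := {zFun, kFun p}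

theorem zkFam_char {p : ℕ} [Fact p.Prime] :
    ∀ W ∈ zkFam.{u} p, Cfsg.IsCharPFunctor.{u} p W := by
  rintro W (rfl | rfl)
  · exact zFun_isCharPFunctor
  · exact kFun_isCharPFunctor

variable {G : Type u} [Group G]

theorem induced_zFun (P : Subgroup G) :
    Cfsg.inducedFunctor zFun P = P ⊓ centralizer (P : Set G) := by
  ext x
  constructor
  · rintro ⟨⟨y, hy⟩, hyc, rfl⟩
    refine mem_inf.2 ⟨hy, mem_centralizer_iff.2 fun z hz => ?_⟩
    exact congrArg Subtype.val (mem_center_iff.1 hyc ⟨z, hz⟩)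
  · rintro ⟨hx, hc⟩
    exact ⟨⟨x, hx⟩, mem_center_iff.2 fun z => Subtype.ext (mem_centralizer_iff.1 hc z z.2), rfl⟩

/-- `C_P(Z(J(P)))`. -/
def jT (P : Subgroup G) : Subgroup G := P ⊓ centralizer (Cfsg.centerThompsonAOf P : Set G)

theorem jTilde_map_subtype (P : Subgroup G) : (jTilde ↥P).map P.subtype = jT P := by
  have hZ : Cfsg.centerThompsonAOf P =
      (Cfsg.thompsonSubgroupA ↥P ⊓ centralizer (Cfsg.thompsonSubgroupA ↥P : Set ↥P)).map P.subtype := by
    ext x
    constructor
    · rintro ⟨⟨y, hy, rfl⟩, hc⟩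
      refine ⟨y, mem_inf.2 ⟨hy, mem_centralizer_iff.2 fun z hz => Subtype.ext ?_⟩, rfl⟩
      exact mem_centralizer_iff.1 hc z ⟨z, hz, rfl⟩
    · rintro ⟨y, hy, rfl⟩
      refine mem_inf.2 ⟨⟨y, hy.1, rfl⟩, mem_centralizer_iff.2 ?_⟩
      rintro _ ⟨z, hz, rfl⟩
      exact congrArg Subtype.val (mem_centralizer_iff.1 hy.2 z hz)
  ext x
  constructor
  · rintro ⟨y, hy, rfl⟩
    refine mem_inf.2 ⟨y.2, mem_centralizer_iff.2 ?_⟩
    rw [hZ]
    rintro _ ⟨z, hz, rfl⟩
    exact congrArg Subtype.val (mem_centralizer_iff.1 hy z hz)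
  · rintro ⟨hx, hc⟩
    refine ⟨⟨x, hx⟩, mem_centralizer_iff.2 fun z hz => Subtype.ext ?_, rfl⟩
    exact mem_centralizer_iff.1 hc z (hZ ▸ ⟨z, hz, rfl⟩)

theorem induced_kFun (p : ℕ) (P : Subgroup G) :
    Cfsg.inducedFunctor (kFun p) P = Cfsg.inducedFunctor (fFun p) (jT P) := by
  let e : ↥(jTilde ↥P) ≃* ↥(jT P) :=
    ((jTilde ↥P).equivMapOfInjective P.subtype P.subtype_injective).trans
      (MulEquiv.subgroupCongr (jTilde_map_subtype P))
  show ((fFun p ↥(jTilde ↥P)).map (jTilde ↥P).subtype).map P.subtype = (fFun p ↥(jT P)).map (jT P).subtype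
  rw [← fFun_map p e, Subgroup.map_map, Subgroup.map_map]
  congr 1

end CfsgLib.FocalThree
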