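import Cfsg.Agent.Lib.PushUp.Center
import Cfsg.Agent.Lib.PushUp.CentrallyLarge
import Cfsg.Agent.Lib.PushAmalgam.Member

/-!
# Layers of a `p`-subgroup: tools for the quadratic action lemma
-/

set_option autoImplicit false
set_option linter.style.haveILetI false
set_option linter.unusedSectionVars false

open Subgroup
open scoped commutatorElement
open CfsgLib.PushUp (cj mem_cj conj_mem_cj cj_mono card_cj)

namespace CfsgLib.FocalThree

universe u

variable {G : Type u} [Group G]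

/-- In a finite group one inclusion suffices for normalizing. -/
theorem mem_norm [Finite G] {X : Subgroup G} {g : G} (h : ∀ x ∈ X, g * x * g⁻¹ ∈ X) :
    g ∈ normalizer (X : Set G) := by
  have e : cj g X = X := eq_of_le_of_card_ge (fun y hy => by
    obtain ⟨x, hx, rfl⟩ := hy
    exact h x hx) (card_cj g X).ge
  exact CfsgLib.PushUp.mem_normalizer_of_forall h fun x hx => mem_cj.1 (e.ge hx)

theorem norm_conj {X : Subgroup G} {g x : G} (hg : g ∈ normalizer (X : Set G)) (hx : x ∈ X) :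
    g * x * g⁻¹ ∈ X := (mem_normalizer_iff.1 hg x).1 hx

theorem norm_conj' {X : Subgroup G} {g x : G} (hg : g ∈ normalizer (X : Set G)) (hx : x ∈ X) :
    g⁻¹ * x * g ∈ X := (mem_normalizer_iff''.1 hg x).1 hx

theorem comm_mul_right (t x y : G) : ⁅t, x * y⁆ = ⁅t, x⁆ * (x * ⁅t, y⁆ * x⁻¹) := by
  simp only [commutatorElement_def]; group

theorem comm_mul_left (x y t : G) : ⁅x * y, t⁆ = x * ⁅y, t⁆ * x⁻¹ * ⁅x, t⁆ := by
  simp only [commutatorElement_def]; group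

theorem comm_self_left (g x : G) : g * x * g⁻¹ = ⁅g, x⁆ * x := by
  simp only [commutatorElement_def]; group

/-! ### The upper central series in the ambient group -/

/-- A term of the upper central series of a subgroup. -/
def ucs (P : Subgroup G) (k : ℕ) : Subgroup G := (Subgroup.upperCentralSeries ↥P k).map P.subtype

theorem ucs_le (P : Subgroup G) (k : ℕ) : ucs P k ≤ P := map_subtype_le _

theorem ucs_zero (P : Subgroup G) : ucs P 0 = ⊥ := by
  rw [ucs, Subgroup.upperCentralSeries_zero, Subgroup.map_bot]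

theorem mem_ucs_succ {P : Subgroup G} {k : ℕ} {x : G} :
    x ∈ ucs P (k + 1) ↔ x ∈ P ∧ ∀ y ∈ P, ⁅x, y⁆ ∈ ucs P k := by
  constructor
  · rintro ⟨x, hx, rfl⟩
    refine ⟨x.2, fun y hy => ⟨⁅x, ⟨y, hy⟩⁆, ?_, rfl⟩⟩
    exact Subgroup.mem_upperCentralSeries_succ_iff.1 hx ⟨y, hy⟩
  · rintro ⟨hx, h⟩
    refine ⟨⟨x, hx⟩, Subgroup.mem_upperCentralSeries_succ_iff.2 fun y => ?_, rfl⟩
    obtain ⟨z, hz, e⟩ := h y y.2
    rwa [show z = ⁅(⟨x, hx⟩ : ↥P), y⁆ from Subtype.ext e] at hz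

theorem ucs_comm {P : Subgroup G} {k : ℕ} {x y : G} (hx : x ∈ ucs P (k + 1)) (hy : y ∈ P) :
    ⁅x, y⁆ ∈ ucs P k := (mem_ucs_succ.1 hx).2 y hy

theorem ucs_comm' {P : Subgroup G} {k : ℕ} {x y : G} (hx : x ∈ ucs P (k + 1)) (hy : y ∈ P) :
    ⁅y, x⁆ ∈ ucs P k := by
  rw [← commutatorElement_inv]
  exact inv_mem (ucs_comm hx hy)

theorem ucs_conj [Finite G] {P : Subgroup G} :
    ∀ k, normalizer (P : Set G) ≤ normalizer (ucs P k : Set G) := by
  intro k
  induction k with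
  | zero =>
    intro g _
    refine mem_norm fun x hx => ?_
    rw [ucs_zero, mem_bot] at hx ⊢
    rw [hx, mul_one, mul_inv_cancel]
  | succ k ih =>
    intro g hg
    refine mem_norm fun x hx => ?_
    rw [mem_ucs_succ] at hx ⊢
    refine ⟨norm_conj hg hx.1, fun y hy => ?_⟩
    have h := norm_conj (ih hg) (hx.2 _ (norm_conj' hg hy))
    rwa [show g * ⁅x, g⁻¹ * y * g⁆ * g⁻¹ = ⁅g * x * g⁻¹, y⁆ by
      simp only [commutatorElement_def]; group] at h

theorem ucs_norm [Finite G] {P : Subgroup G} (k : ℕ) : P ≤ normalizer (ucs P k : Set G) :=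
  Subgroup.le_normalizer.trans (ucs_conj k)

theorem ucs_mono [Finite G] (P : Subgroup G) (k : ℕ) : ucs P k ≤ ucs P (k + 1) := fun x hx =>
  mem_ucs_succ.2 ⟨ucs_le P k hx, fun y hy => by
    rw [commutatorElement_def, mul_assoc, mul_assoc]
    refine mul_mem hx ?_
    rw [← mul_assoc]
    exact norm_conj (ucs_norm k hy) (inv_mem hx)⟩

theorem ucs_one (P : Subgroup G) : ucs P 1 = P ⊓ centralizer (P : Set G) := by
  ext x
  rw [mem_ucs_succ, ucs_zero, mem_inf, mem_centralizer_iff]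
  refine and_congr_right fun _ => forall₂_congr fun y _ => ?_
  rw [mem_bot, commutatorElement_eq_one_iff_mul_comm]
  exact eq_comm

variable {p : ℕ} [Fact p.Prime]

theorem exists_ucs_eq [Finite G] {P : Subgroup G} (hP : IsPGroup p P) : ∃ k, ucs P k = P := by
  haveI := hP.isNilpotent
  refine ⟨Group.nilpotencyClass ↥P, ?_⟩
  rw [ucs, Subgroup.upperCentralSeries_nilpotencyClass, ← MonoidHom.range_eq_map, range_subtype]

/-- Iterated commutators with an element of a `p`-group end at `1`. -/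
theorem exists_iterate_eq_one [Finite G] {P : Subgroup G} (hP : IsPGroup p P) {t w : G} (ht : t ∈ P)
    (hw : w ∈ P) : ∃ n, (fun u => ⁅t, u⁆)^[n] w = 1 := by
  obtain ⟨k, hk⟩ := exists_ucs_eq hP
  have key : ∀ k, ∀ w ∈ ucs P k, (fun u => ⁅t, u⁆)^[k] w = 1 := by
    intro k
    induction k with
    | zero => intro w hw; rwa [ucs_zero, mem_bot] at hw
    | succ k ih =>
      intro w hw
      rw [Function.iterate_succ_apply]
      exact ih _ (ucs_comm' hw ht)
  exact ⟨k, key k w (hk.ge hw)⟩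

/-! ### Stabilizers of a section -/

/-- The elements normalizing `E` and centralizing it modulo `V`. -/
def kmod (V E : Subgroup G) [V.Normal] : Subgroup G where
  carrier := {h | h ∈ normalizer (E : Set G) ∧ ∀ e ∈ E, ⁅h, e⁆ ∈ V}
  one_mem' := ⟨one_mem _, fun e _ => by simp⟩
  mul_mem' := fun {h k} hh hk => ⟨mul_mem hh.1 hk.1, fun e he => by
    rw [show ⁅h * k, e⁆ = ⁅h, k * e * k⁻¹⁆ * ⁅k, e⁆ by simp only [commutatorElement_def]; group]
    exact mul_mem (hh.2 _ (norm_conj hk.1 he)) (hk.2 e he)⟩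
  inv_mem' := fun {h} hh => ⟨inv_mem hh.1, fun e he => by
    have h1 := inv_mem (hh.2 _ (norm_conj' hh.1 he))
    rwa [show ⁅h, h⁻¹ * e * h⁆⁻¹ = ⁅h⁻¹, e⁆ by simp only [commutatorElement_def]; group] at h1⟩

theorem mem_kmod {V E : Subgroup G} [V.Normal] {h : G} :
    h ∈ kmod V E ↔ h ∈ normalizer (E : Set G) ∧ ∀ e ∈ E, ⁅h, e⁆ ∈ V := Iff.rfl

theorem mem_kmod_of [Finite G] {V E : Subgroup G} [V.Normal] (hVE : V ≤ E) {h : G}
    (hc : ∀ e ∈ E, ⁅h, e⁆ ∈ V) : h ∈ kmod V E := by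
  refine ⟨mem_norm fun e he => ?_, hc⟩
  rw [comm_self_left]
  exact mul_mem (hVE (hc e he)) he

theorem kmod_conj {V E : Subgroup G} [hV : V.Normal] {g h : G} (hg : g ∈ normalizer (E : Set G))
    (hh : h ∈ kmod V E) : g * h * g⁻¹ ∈ kmod V E := by
  refine ⟨mul_mem (mul_mem hg hh.1) (inv_mem hg), fun e he => ?_⟩
  have h1 := hV.conj_mem _ (hh.2 _ (norm_conj' hg he)) g
  rwa [show g * ⁅h, g⁻¹ * e * g⁆ * g⁻¹ = ⁅g * h * g⁻¹, e⁆ by
    simp only [commutatorElement_def]; group] at h1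

/-! ### The trick with a conjugate -/

/-- An element moved by `a` and fixed by a conjugate of `a` inside `⟨a, b⟩` is fixed. -/
theorem trick {a b g x y : G} (hg : g ∈ closure {a, b}) (hb : b = g * a * g⁻¹)
    (hay : Commute a y) (hby : Commute b y) (hbx : b * x * b⁻¹ = x) (hax : a * x * a⁻¹ = y * x) :
    y = 1 := by
  obtain ⟨K, hK⟩ : ∃ K : Subgroup G, ∀ h, h ∈ K ↔ Commute h y ∧ ∃ i : ℤ, h * x * h⁻¹ = y ^ i * x := by
    refine ⟨{ carrier := {h | Commute h y ∧ ∃ i : ℤ, h * x * h⁻¹ = y ^ i * x}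
              one_mem' := ⟨Commute.one_left y, 0, by simp⟩
              mul_mem' := ?_
              inv_mem' := ?_ }, fun h => Iff.rfl⟩
    · rintro h k ⟨hy, i, hi⟩ ⟨ky, j, hj⟩
      refine ⟨hy.mul_left ky, j + i, ?_⟩
      calc h * k * x * (h * k)⁻¹ = h * (k * x * k⁻¹) * h⁻¹ := by group
        _ = (h * y ^ j) * x * h⁻¹ := by rw [hj]; group
        _ = y ^ j * (h * x * h⁻¹) := by rw [(hy.zpow_right j).eq]; group
        _ = _ := by rw [hi, zpow_add]; group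
    · rintro h ⟨hy, i, hi⟩
      refine ⟨hy.inv_left, -i, ?_⟩
      calc h⁻¹ * x * (h⁻¹)⁻¹ = h⁻¹ * (y ^ (-i) * (y ^ i * x)) * h := by group
        _ = h⁻¹ * (y ^ (-i) * (h * x * h⁻¹)) * h := by rw [hi]
        _ = (h⁻¹ * y ^ (-i)) * h * x := by group
        _ = (y ^ (-i) * h⁻¹) * h * x := by rw [(hy.inv_left.zpow_right (-i)).eq]
        _ = _ := by group
  have hle : closure {a, b} ≤ K := by
    rw [closure_le]
    rintro _ (rfl | rfl)
    · exact (hK _).2 ⟨hay, 1, by rw [zpow_one, hax]⟩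
    · exact (hK _).2 ⟨hby, 0, by rw [zpow_zero, one_mul, hbx]⟩
  obtain ⟨hgy, i, hi⟩ := (hK g).1 (hle hg)
  have hgi : g⁻¹ * x * g = y ^ (-i) * x := by
    calc g⁻¹ * x * g = g⁻¹ * (y ^ (-i) * (y ^ i * x)) * g := by group
      _ = g⁻¹ * (y ^ (-i) * (g * x * g⁻¹)) * g := by rw [hi]
      _ = (g⁻¹ * y ^ (-i)) * g * x := by group
      _ = (y ^ (-i) * g⁻¹) * g * x := by rw [(hgy.inv_left.zpow_right (-i)).eq]
      _ = _ := by group
  have h2 : b * x * b⁻¹ = y * x := by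
    calc b * x * b⁻¹ = g * (a * (g⁻¹ * x * g) * a⁻¹) * g⁻¹ := by rw [hb]; group
      _ = g * ((a * y ^ (-i)) * x * a⁻¹) * g⁻¹ := by rw [hgi]; group
      _ = g * (y ^ (-i) * (a * x * a⁻¹)) * g⁻¹ := by rw [(hay.zpow_right (-i)).eq]; group
      _ = (g * y ^ (-i + 1)) * x * g⁻¹ := by rw [hax]; group
      _ = y ^ (-i + 1) * (g * x * g⁻¹) := by rw [(hgy.zpow_right (-i + 1)).eq]; group
      _ = _ := by rw [hi]; group
  exact mul_eq_right.1 (h2.symm.trans hbx)

/-- The trick modulo a subgroup. -/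
theorem trick_rel {N : Subgroup G} {a b g x : G} (ha : a ∈ normalizer (N : Set G))
    (hb : b ∈ normalizer (N : Set G)) (hx : x ∈ normalizer (N : Set G)) (hg : g ∈ closure {a, b})
    (hbg : b = g * a * g⁻¹) (haax : ⁅a, ⁅a, x⁆⁆ ∈ N) (hbax : ⁅b, ⁅a, x⁆⁆ ∈ N) (hbx : ⁅b, x⁆ ∈ N) :
    ⁅a, x⁆ ∈ N := by
  obtain ⟨H₀, hH₀⟩ : ∃ H₀, H₀ = normalizer (N : Set G) := ⟨_, rfl⟩
  rw [← hH₀] at ha hb hx
  have hNH : N ≤ H₀ := hH₀ ▸ Subgroup.le_normalizer
  haveI : (N.subgroupOf H₀).Normal := (normal_subgroupOf_iff_le_normalizer hNH).2 hH₀.le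
  have hgH : g ∈ H₀ := (closure_le H₀).2 (by rintro _ (rfl | rfl) <;> assumption) hg
  let π := QuotientGroup.mk' (N.subgroupOf H₀)
  have hπ : ∀ (u v : ↥H₀), ⁅(u : G), (v : G)⁆ ∈ N → ⁅π u, π v⁆ = 1 := fun u v h => by
    rw [← map_commutatorElement]
    exact (QuotientGroup.eq_one_iff _).2 h
  have hgc : (⟨g, hgH⟩ : ↥H₀) ∈ closure ({⟨a, ha⟩, ⟨b, hb⟩} : Set ↥H₀) := by
    refine (mem_map_iff_mem H₀.subtype_injective).1 ?_
    rw [MonoidHom.map_closure, Set.image_pair]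
    exact hg
  have h1 : π ⁅(⟨a, ha⟩ : ↥H₀), ⟨x, hx⟩⁆ = 1 := by
    refine trick (g := π ⟨g, hgH⟩) (a := π ⟨a, ha⟩) (b := π ⟨b, hb⟩) (x := π ⟨x, hx⟩) ?_ ?_ ?_ ?_ ?_ ?_
    · have := mem_map_of_mem π hgc
      rwa [MonoidHom.map_closure, Set.image_pair] at this
    · rw [← map_inv, ← map_mul, ← map_mul]
      exact congrArg π (Subtype.ext hbg)
    · exact commutatorElement_eq_one_iff_commute.1 (hπ _ _ haax)
    · exact commutatorElement_eq_one_iff_commute.1 (hπ _ _ hbax)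
    · rw [mul_inv_eq_iff_eq_mul]
      exact (commutatorElement_eq_one_iff_commute.1 (hπ _ _ hbx)).eq
    · rw [map_commutatorElement, comm_self_left]
  exact mem_subgroupOf.1 ((QuotientGroup.eq_one_iff _).1 h1 : ⁅(⟨a, ha⟩ : ↥H₀), (⟨x, hx⟩ : ↥H₀)⁆ ∈ N.subgroupOf H₀)

/-! ### Chief factors inside a normal `p`-subgroup -/

/-- A normal `p`-subgroup centralizes every chief factor inside it. -/
theorem chief_central [Finite G] {Q U W : Subgroup G} [hQ : Q.Normal] (hQp : IsPGroup p Q)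
    (hc : Cfsg.IsChiefFactor U W) (hU : U ≤ Q) : ∀ u ∈ U, ∀ q ∈ Q, ⁅u, q⁆ ∈ W := by
  obtain ⟨hlt, hUn, hWn, hmax⟩ := hc
  obtain ⟨C, hC⟩ : ∃ C : Subgroup G, ∀ u, u ∈ C ↔ u ∈ U ∧ ∀ q ∈ Q, ⁅u, q⁆ ∈ W := by
    refine ⟨{ carrier := {u | u ∈ U ∧ ∀ q ∈ Q, ⁅u, q⁆ ∈ W}
              one_mem' := ⟨one_mem U, fun q _ => by simp⟩
              mul_mem' := fun {u v} hu hv => ⟨mul_mem hu.1 hv.1, fun q hq => by
                rw [comm_mul_left]
                exact mul_mem (hWn.conj_mem _ (hv.2 q hq) u) (hu.2 q hq)⟩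
              inv_mem' := fun {u} hu => ⟨inv_mem hu.1, fun q hq => by
                have h1 := hWn.conj_mem _ (inv_mem (hu.2 q hq)) u⁻¹
                rwa [show u⁻¹ * ⁅u, q⁆⁻¹ * (u⁻¹)⁻¹ = ⁅u⁻¹, q⁆ by
                  simp only [commutatorElement_def]; group] at h1⟩ }, fun u => Iff.rfl⟩
  have hCn : C.Normal := ⟨fun u hu g => by
    rw [hC] at hu ⊢
    refine ⟨hUn.conj_mem u hu.1 g, fun q hq => ?_⟩
    have h1 := hWn.conj_mem _ (hu.2 (g⁻¹ * q * g) (by simpa using hQ.conj_mem q hq g⁻¹)) g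
    rwa [show g * ⁅u, g⁻¹ * q * g⁆ * g⁻¹ = ⁅g * u * g⁻¹, q⁆ by
      simp only [commutatorElement_def]; group] at h1⟩
  have hWC : W ≤ C := fun w hw => (hC w).2 ⟨hlt.le hw, fun q _ => by
    rw [commutatorElement_def, mul_assoc, mul_assoc, ← mul_assoc q]
    exact mul_mem hw (hWn.conj_mem _ (inv_mem hw) q)⟩
  rcases hmax C hCn hWC (fun u hu => ((hC u).1 hu).1) with h | h
  · exfalso
    obtain ⟨k, hk⟩ := exists_ucs_eq hQp
    have key : ∀ k, U ⊓ ucs Q k ≤ W := by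
      intro k
      induction k with
      | zero =>
        rw [ucs_zero, inf_bot_eq]
        exact bot_le
      | succ k ih =>
        refine fun u hu => h.le ((hC u).2 ⟨hu.1, fun q hq => ih ⟨?_, ucs_comm hu.2 hq⟩⟩)
        rw [commutatorElement_def, mul_assoc, mul_assoc, ← mul_assoc q]
        exact mul_mem hu.1 (hUn.conj_mem _ (inv_mem hu.1) q)
    exact hlt.not_ge fun u hu => key k ⟨hu, hk.ge (hU hu)⟩
  · exact fun u hu => ((hC u).1 (h.ge hu)).2

/-- `a` acts quadratically on the chief factors meeting `R` outside. -/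
def QGood (p : ℕ) (a : G) (R : Subgroup G) : Prop :=
  ∀ U W : Subgroup G, Cfsg.IsChiefFactor U W → U ≤ Cfsg.pCore p G → ¬ U ⊓ R ≤ W →
    ∀ u ∈ U, ⁅a, ⁅a, u⁆⁆ ∈ W

/-- One layer. -/
theorem good_step [Finite G] {a : G} {R R' L : Subgroup G} (hL : L ⊔ Cfsg.pCore p G = ⊤)
    (hLR : L ≤ normalizer (R : Set G)) (hsub : ∀ x ∈ R, ⁅a, ⁅a, x⁆⁆ ∈ R') (hR' : QGood p a R') :
    QGood p a R := by
  intro U W hc hU hR u hu
  haveI := hc.2.1
  haveI hWn := hc.2.2.1
  haveI := CfsgLib.PushUp.pCore_normal p G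
  have hUn := hc.2.1
  by_cases h' : U ⊓ R' ≤ W
  · have hX : U ⊓ R ⊔ W = U := by
      have hXn : (U ⊓ R ⊔ W).Normal := by
        rw [← normalizer_eq_top_iff, ← top_le_iff, ← hL]
        refine sup_le ?_ ?_
        · refine CfsgLib.PushAmalgam.le_normalizer_sup
            (CfsgLib.PushAmalgam.le_normalizer_inf ?_ hLR) ?_ <;>
          exact le_top.trans (normalizer_eq_top_iff.2 inferInstance).ge
        · intro q hq
          refine mem_norm fun x hx => ?_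
          have hxU : x ∈ U := (sup_le inf_le_left hc.1.le : U ⊓ R ⊔ W ≤ U) hx
          have h1 := chief_central (CfsgLib.Coprime.pCore_isPGroup p) hc hU x hxU q hq
          rw [comm_self_left, ← commutatorElement_inv]
          exact mul_mem (mem_sup_right (inv_mem h1)) hx
      rcases hc.2.2.2 _ hXn le_sup_right (sup_le inf_le_left hc.1.le) with h | h
      · exact absurd (le_sup_left.trans h.le) hR
      · exact h
    rw [← hX, ← SetLike.mem_coe, Subgroup.mul_normal] at hu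
    obtain ⟨r, hr, w, hw, rfl⟩ := hu
    obtain ⟨hrU, hrR⟩ := mem_inf.1 hr
    have hd : ∀ (y n : G), n ∈ W → ∃ m ∈ W, ⁅a, y * n⁆ = ⁅a, y⁆ * m := fun y n hn =>
      ⟨y * ⁅a, n⁆ * y⁻¹, hWn.conj_mem _ (by
        rw [commutatorElement_def]
        exact mul_mem (hWn.conj_mem n hn a) (inv_mem hn)) y, comm_mul_right a y n⟩
    obtain ⟨m, hm, e⟩ := hd r w hw
    obtain ⟨m', hm', e'⟩ := hd ⁅a, r⁆ m hm
    rw [e, e']
    refine mul_mem (h' ⟨?_, hsub r hrR⟩) hm'
    have hcl : ∀ y ∈ U, ⁅a, y⁆ ∈ U := fun y hy => by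
      rw [commutatorElement_def]
      exact mul_mem (hUn.conj_mem y hy a) (inv_mem hy)
    exact hcl _ (hcl _ hrU)
  · exact hR' U W hc hU h' u hu

/-- From one element to the cyclic group it generates. -/
theorem iter_le [Finite G] {U W : Subgroup G} [hUn : U.Normal] [hWn : W.Normal] {a : G}
    (h : ∀ u ∈ U, ⁅a, ⁅a, u⁆⁆ ∈ W) : Cfsg.iterCommutator U (zpowers a) 2 ≤ W := by
  obtain ⟨K, hK⟩ : ∃ K : Subgroup G, ∀ y, y ∈ K ↔ y ∈ U ∧ ⁅a, y⁆ ∈ W := by
    refine ⟨{ carrier := {y | y ∈ U ∧ ⁅a, y⁆ ∈ W}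
              one_mem' := ⟨one_mem U, by simp⟩
              mul_mem' := fun {y z} hy hz => ⟨mul_mem hy.1 hz.1, by
                rw [comm_mul_right]; exact mul_mem hy.2 (hWn.conj_mem _ hz.2 y)⟩
              inv_mem' := fun {y} hy => ⟨inv_mem hy.1, by
                have h1 := hWn.conj_mem _ (inv_mem hy.2) y⁻¹
                rwa [show y⁻¹ * ⁅a, y⁆⁻¹ * (y⁻¹)⁻¹ = ⁅a, y⁻¹⁆ by
                  simp only [commutatorElement_def]; group] at h1⟩ }, fun y => Iff.rfl⟩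
  have haK : a ∈ normalizer (K : Set G) := mem_norm fun y hy => by
    rw [hK] at hy ⊢
    refine ⟨hUn.conj_mem y hy.1 a, ?_⟩
    have h1 := hWn.conj_mem _ hy.2 a
    rwa [show a * ⁅a, y⁆ * a⁻¹ = ⁅a, a * y * a⁻¹⁆ by simp only [commutatorElement_def]; group] at h1
  have hpowK : ∀ n : ℕ, ∀ u ∈ U, ⁅a ^ n, u⁆ ∈ K := by
    intro n
    induction n with
    | zero => intro u _; simp
    | succ n ih =>
      intro u hu
      have hau : ⁅a, u⁆ ∈ K := (hK _).2 ⟨by
        rw [commutatorElement_def]; exact mul_mem (hUn.conj_mem u hu a) (inv_mem hu), h u hu⟩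
      rw [pow_succ', comm_mul_left]
      exact mul_mem (norm_conj haK (ih u hu)) hau
  have hpowW : ∀ n : ℕ, ∀ y ∈ K, ⁅a ^ n, y⁆ ∈ W := by
    intro n
    induction n with
    | zero => intro y _; simp
    | succ n ih =>
      intro y hy
      rw [pow_succ', comm_mul_left]
      exact mul_mem (hWn.conj_mem _ (ih y hy) a) ((hK y).1 hy).2
  have hnat : ∀ t ∈ zpowers a, ∃ n : ℕ, a ^ n = t := fun t ht =>
    Submonoid.mem_powers_iff _ _ |>.1 (mem_powers_iff_mem_zpowers.2 ht)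
  have h1 : ⁅U, zpowers a⁆ ≤ K := commutator_le.2 fun u hu t ht => by
    obtain ⟨n, rfl⟩ := hnat t ht
    rw [← commutatorElement_inv]
    exact inv_mem (hpowK n u hu)
  show ⁅⁅U, zpowers a⁆, zpowers a⁆ ≤ W
  refine (commutator_mono h1 le_rfl).trans (commutator_le.2 fun y hy t ht => ?_)
  obtain ⟨n, rfl⟩ := hnat t ht
  rw [← commutatorElement_inv]
  exact inv_mem (hpowW n y hy)

end CfsgLib.FocalThree
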