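import Cfsg.Agent.Lib.PushUp.Center
import Cfsg.Agent.Lib.PushUp.CentrallyLarge
import Cfsg.Agent.Lib.CFun.FocalThree.QuadraticLayers

/-!
# An offender acts quadratically on the chief factors inside `O_p(G)`

In the pushing-up situation with `Z(S)` not normal let `A` be an abelian subgroup of largest order of `S`
outside `Q = O_p(G)` with `|A|²` the largest value of `|X| |C_S(X)|`. Then every `a ∈ A ∖ Q` acts
quadratically on each chief factor of `G` inside `Q`.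
-/

set_option autoImplicit false
set_option linter.style.haveILetI false
set_option linter.unusedSectionVars false

open Subgroup
open scoped commutatorElement
open CfsgLib.PushUp (MA cj Sit Off mem_cj conj_mem_cj cj_mono card_cj)
open CfsgLib.PushAmalgam (cent_subgroupOf card_subgroupOf measure_eq)

namespace CfsgLib.FocalThree

universe u

variable {G : Type u} [Group G]

/-- Two subgroups of largest measure in `S`. -/
theorem large_lat [Finite G] {S X Y : Subgroup G} {n : ℕ}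
    (hmax : ∀ X : Subgroup G, X ≤ S → Nat.card X * Nat.card ↥(S ⊓ centralizer (X : Set G)) ≤ n)
    (hX : X ≤ S) (hXn : n ≤ Nat.card X * Nat.card ↥(S ⊓ centralizer (X : Set G)))
    (hY : Y ≤ S) (hYn : n ≤ Nat.card Y * Nat.card ↥(S ⊓ centralizer (Y : Set G))) :
    (∀ t ∈ X ⊔ Y, ∃ x ∈ X, ∃ y ∈ Y, t = x * y) ∧
    n ≤ Nat.card ↥(X ⊓ Y) * Nat.card ↥(S ⊓ centralizer ((X ⊓ Y : Subgroup G) : Set G)) ∧
    (∀ t ∈ S, t ∈ centralizer ((X ⊓ Y : Subgroup G) : Set G) →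
      ∃ c ∈ S ⊓ centralizer (X : Set G), ∃ d ∈ S ⊓ centralizer (Y : Set G), t = c * d) := by
  have hle : Cfsg.maxCentralizerProduct ↥S ≤ n := by
    obtain ⟨R, hR⟩ := CfsgLib.CDLat.exists_large (G := ↥S)
    have e : (R.map S.subtype).subgroupOf S = R := comap_map_eq_self_of_injective S.subtype_injective R
    have h1 := measure_eq (map_subtype_le R)
    rw [e] at h1
    exact hR.ge.trans (h1.le.trans (hmax _ (map_subtype_le R)))
  have large : ∀ {Z : Subgroup G}, Z ≤ S →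
      n ≤ Nat.card Z * Nat.card ↥(S ⊓ centralizer (Z : Set G)) →
      Cfsg.IsCentralizerLarge (Z.subgroupOf S) := fun hZ hZn =>
    CfsgLib.CDLat.large_iff.2 (by rw [measure_eq hZ]; exact hle.trans hZn)
  obtain ⟨h1, -, h3, h4⟩ := CfsgLib.CDLat.large_pair (large hX hXn) (large hY hYn)
  have hXY : X ⊓ Y ≤ S := inf_le_left.trans hX
  rw [cent_subgroupOf hX, cent_subgroupOf hY,
    show X.subgroupOf S ⊓ Y.subgroupOf S = (X ⊓ Y).subgroupOf S from rfl, cent_subgroupOf hXY] at h4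
  rw [(subgroupOf_sup hX hY).symm] at h1
  refine ⟨fun t ht => ?_, ?_, fun t ht hc => ?_⟩
  · have hm : (⟨t, sup_le hX hY ht⟩ : ↥S) ∈ (((X ⊔ Y).subgroupOf S : Subgroup ↥S) : Set ↥S) := ht
    rw [h1] at hm
    obtain ⟨x, hx, y, hy, e⟩ := hm
    exact ⟨x, hx, y, hy, (congrArg Subtype.val e).symm⟩
  · have h5 : CfsgLib.CDLat.measure ((X ⊓ Y).subgroupOf S) = Cfsg.maxCentralizerProduct ↥S := h3
    rw [measure_eq hXY] at h5
    rw [h5]
    have := CfsgLib.CDLat.measure_le (X.subgroupOf S)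
    rw [measure_eq hX] at this
    exact hXn.trans this
  · have hm : (⟨t, ht⟩ : ↥S) ∈
        (((S ⊓ centralizer ((X ⊓ Y : Subgroup G) : Set G)).subgroupOf S : Subgroup ↥S) : Set ↥S) :=
      ⟨ht, hc⟩
    rw [h4] at hm
    obtain ⟨c, hc, d, hd, e⟩ := hm
    exact ⟨c, hc, d, hd, (congrArg Subtype.val e).symm⟩

variable {p : ℕ} [Fact p.Prime]

/-- The layers of `Γ = B B'`. -/
theorem layers [Finite G] {a b g : G} {V B B' Γ : Subgroup G} (hg : g ∈ closure {a, b})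
    (hbg : b = g * a * g⁻¹) (haΓ : a ∈ normalizer (Γ : Set G)) (hbΓ : b ∈ normalizer (Γ : Set G))
    (hJ : ∃ J : Subgroup G, IsPGroup p J ∧ b ∈ J ∧ Γ ≤ J)
    (hBΓ : B ≤ Γ) (hB'Γ : B' ≤ Γ) (hprod : ∀ z ∈ Γ, ∃ f ∈ B, ∃ x ∈ B', z = f * x)
    (hBc : ∀ x ∈ B, ∀ y ∈ B, Commute x y) (hB'c : ∀ x ∈ B', ∀ y ∈ B', Commute x y)
    (haB : ∀ f ∈ B, ⁅a, f⁆ ∈ V) (hbB' : ∀ x ∈ B', ⁅b, x⁆ ∈ V) (hVB : V ≤ B) (hV1 : V ≤ ucs Γ 1)
    (base : ∀ z ∈ ucs Γ 1, ⁅a, ⁅a, z⁆⁆ = 1 ∧ (⁅b, ⁅a, z⁆⁆ = 1 → ⁅a, z⁆ = 1)) :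
    ∀ k, ∀ z ∈ ucs Γ (k + 1), ⁅a, ⁅a, z⁆⁆ ∈ ucs Γ k := by
  have han : ∀ j, a ∈ normalizer (ucs Γ j : Set G) := fun j => ucs_conj j haΓ
  have hbn : ∀ j, b ∈ normalizer (ucs Γ j : Set G) := fun j => ucs_conj j hbΓ
  have hcl : ∀ {t : G} {j : ℕ}, t ∈ normalizer (ucs Γ j : Set G) → ∀ w ∈ ucs Γ j, ⁅t, w⁆ ∈ ucs Γ j :=
    fun ht w hw => by
      rw [commutatorElement_def]
      exact mul_mem (norm_conj ht hw) (inv_mem hw)
  have hV : ∀ j, V ≤ ucs Γ (j + 1) := by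
    intro j
    induction j with
    | zero => exact hV1
    | succ j ih => exact ih.trans (ucs_mono Γ _)
  have hdec : ∀ j, ∀ z ∈ ucs Γ (j + 1), ∃ f ∈ B, ∃ x ∈ B', z = f * x ∧
      f ∈ ucs Γ (j + 1) ∧ x ∈ ucs Γ (j + 1) := by
    intro j z hz
    obtain ⟨f, hf, x, hx, rfl⟩ := hprod z (ucs_le _ _ hz)
    have hx1 : x ∈ ucs Γ (j + 1) := by
      refine mem_ucs_succ.2 ⟨hB'Γ hx, fun y hy => ?_⟩
      obtain ⟨y1, hy1, y2, hy2, rfl⟩ := hprod y hy
      rw [comm_mul_right, commutatorElement_eq_one_iff_commute.2 (hB'c x hx y2 hy2), mul_one,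
        mul_inv_cancel, mul_one]
      have h1 := norm_conj' (ucs_norm j (hBΓ hf)) (ucs_comm hz (hBΓ hy1))
      rwa [comm_mul_left, commutatorElement_eq_one_iff_commute.2 (hBc f hf y1 hy1), mul_one,
        show f⁻¹ * (f * ⁅x, y1⁆ * f⁻¹) * f = ⁅x, y1⁆ by group] at h1
    have hf1 : f ∈ ucs Γ (j + 1) := by
      have := mul_mem hz (inv_mem hx1)
      rwa [mul_inv_cancel_right] at this
    exact ⟨f, hf, x, hx, rfl, hf1, hx1⟩
  intro k
  suffices h : (∀ z ∈ ucs Γ (k + 1), ⁅a, ⁅a, z⁆⁆ ∈ ucs Γ k) ∧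
      ∀ z ∈ ucs Γ (k + 1), ⁅b, ⁅a, z⁆⁆ ∈ ucs Γ k → ⁅a, z⁆ ∈ ucs Γ k from h.1
  induction k with
  | zero =>
    refine ⟨fun z hz => ?_, fun z hz h => ?_⟩
    · rw [ucs_zero, mem_bot]; exact (base z hz).1
    · rw [ucs_zero, mem_bot] at h ⊢; exact (base z hz).2 h
  | succ k ih =>
    obtain ⟨ihQ, ihS⟩ := ih
    have hQ : ∀ z ∈ ucs Γ (k + 1 + 1), ⁅a, ⁅a, z⁆⁆ ∈ ucs Γ (k + 1) := by
      intro z hz
      obtain ⟨f, hf, x, hx, rfl, hf2, hx2⟩ := hdec (k + 1) z hz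
      obtain ⟨f1, hf1, x1, hx1, e1, hf12, hx12⟩ := hdec (k + 1) _ (hcl (han _) x hx2)
      have hgen : ∀ f0 ∈ B, ∃ zz ∈ ucs Γ (k + 1), ⁅x1, f0⁆ * ⁅a, zz⁆⁻¹ ∈ ucs Γ k := by
        intro f0 hf0
        refine ⟨⁅x, f0⁆, ucs_comm hx2 (hBΓ hf0), ?_⟩
        obtain ⟨θ, hθ⟩ : ∃ θ, θ = ⁅x1, f0⁆ := ⟨_, rfl⟩
        obtain ⟨z0, hz0⟩ : ∃ z0, z0 = ⁅x, f0⁆ := ⟨_, rfl⟩
        have hθ1 : θ ∈ ucs Γ (k + 1) := hθ ▸ ucs_comm hx12 (hBΓ hf0)
        have hz01 : z0 ∈ ucs Γ (k + 1) := hz0 ▸ ucs_comm hx2 (hBΓ hf0)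
        have hdxΓ : ⁅a, x⁆ ∈ Γ := ucs_le _ _ (hcl (han _) x hx2)
        obtain ⟨v, hvdef⟩ : ∃ v, v = ⁅a, f0⁆ := ⟨_, rfl⟩
        have hv : v ∈ ucs Γ 1 := hvdef ▸ hV1 (haB f0 hf0)
        have hvc : Commute (⁅a, x⁆ * x) v := by
          rw [ucs_one] at hv
          exact mem_centralizer_iff.1 hv.2 _ (mul_mem hdxΓ (hB'Γ hx))
        have hff : Commute f1 f0 := hBc f1 hf1 f0 hf0
        have e2 : ⁅⁅a, x⁆, f0⁆ = f1 * θ * f1⁻¹ := by
          rw [e1, comm_mul_left, ← hθ, commutatorElement_eq_one_iff_commute.2 hff, mul_one]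
        have e3 : a * z0 * a⁻¹ = ⁅a, x⁆ * z0 * ⁅a, x⁆⁻¹ * (f1 * θ * f1⁻¹) := by
          calc a * z0 * a⁻¹ = ⁅a * x * a⁻¹, a * f0 * a⁻¹⁆ := by
                rw [hz0]; simp only [commutatorElement_def]; group
            _ = ⁅⁅a, x⁆ * x, v * f0⁆ := by rw [hvdef, comm_self_left, comm_self_left]
            _ = v * ⁅⁅a, x⁆ * x, f0⁆ * v⁻¹ := by
              rw [comm_mul_right, commutatorElement_eq_one_iff_commute.2 hvc, one_mul]
            _ = ⁅⁅a, x⁆ * x, f0⁆ := by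
              have hm : ⁅⁅a, x⁆ * x, f0⁆ ∈ Γ := by
                rw [commutatorElement_def]
                exact mul_mem (mul_mem (mul_mem (mul_mem hdxΓ (hB'Γ hx)) (hBΓ hf0))
                  (inv_mem (mul_mem hdxΓ (hB'Γ hx)))) (inv_mem (hBΓ hf0))
              rw [ucs_one] at hv
              rw [← mem_centralizer_iff.1 hv.2 _ hm, mul_inv_cancel_right]
            _ = _ := by rw [comm_mul_left, e2, hz0]
        rw [← hθ, ← hz0, show θ * ⁅a, z0⁆⁻¹ = ⁅θ, z0⁆ * (z0 * ⁅θ, f1⁆ * z0⁻¹) * ⁅z0, ⁅a, x⁆⁆ by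
          rw [show ⁅a, z0⁆ = a * z0 * a⁻¹ * z0⁻¹ from rfl, e3]
          simp only [commutatorElement_def]; group]
        refine mul_mem (mul_mem (ucs_comm hθ1 (ucs_le _ _ hz01))
          (norm_conj (ucs_norm k (ucs_le _ _ hz01)) (ucs_comm hθ1 (hBΓ hf1)))) (ucs_comm hz01 hdxΓ)
      obtain ⟨I, hI⟩ : ∃ I, I = closure ((ucs Γ k : Set G) ∪ ((fun f0 => ⁅x1, f0⁆) '' (B : Set G))) :=
        ⟨_, rfl⟩
      have hIP : I ≤ ucs Γ (k + 1) := by
        rw [hI, closure_le]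
        rintro w (hw | ⟨f0, hf0, rfl⟩)
        · exact ucs_mono Γ k hw
        · exact ucs_comm hx12 (hBΓ hf0)
      have hIb : b ∈ normalizer (I : Set G) := by
        have hmap : I.map (MulAut.conj b).toMonoidHom ≤ I := by
          rw [hI, map_le_iff_le_comap, closure_le]
          rintro w (hw | ⟨f0, hf0, rfl⟩)
          · exact subset_closure (Or.inl (norm_conj (hbn k) hw))
          · obtain ⟨b1, hb1, b2, hb2, e⟩ := hprod _ (norm_conj hbΓ (hBΓ hf0))
            refine subset_closure (Or.inr ⟨b1, hb1, ?_⟩)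
            show ⁅x1, b1⁆ = b * ⁅x1, f0⁆ * b⁻¹
            obtain ⟨v, hvdef⟩ : ∃ v, v = ⁅b, x1⁆ := ⟨_, rfl⟩
            have hv : v ∈ ucs Γ 1 := hvdef ▸ hV1 (hbB' x1 hx1)
            have hm : b * f0 * b⁻¹ ∈ Γ := norm_conj hbΓ (hBΓ hf0)
            have hx1m : ⁅x1, b * f0 * b⁻¹⁆ ∈ Γ := by
              rw [commutatorElement_def]
              exact mul_mem (mul_mem (mul_mem (hB'Γ hx1) hm) (inv_mem (hB'Γ hx1))) (inv_mem hm)
            rw [ucs_one] at hv
            calc ⁅x1, b1⁆ = ⁅x1, b * f0 * b⁻¹⁆ := by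
                  rw [e, comm_mul_right, commutatorElement_eq_one_iff_commute.2 (hB'c x1 hx1 b2 hb2),
                    mul_one, mul_inv_cancel, mul_one]
              _ = v * ⁅x1, b * f0 * b⁻¹⁆ * v⁻¹ := by
                  rw [← mem_centralizer_iff.1 hv.2 _ hx1m, mul_inv_cancel_right]
              _ = ⁅v * x1, b * f0 * b⁻¹⁆ := by
                  rw [comm_mul_left, commutatorElement_eq_one_iff_commute.2
                    (Commute.symm (mem_centralizer_iff.1 hv.2 _ hm)), mul_one]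
              _ = _ := by
                  rw [hvdef, ← comm_self_left]; simp only [commutatorElement_def]; group
        exact mem_norm fun w hw => hmap ⟨w, hw, rfl⟩
      have hIim : ∀ w ∈ I, ∃ zz ∈ ucs Γ (k + 1), w * ⁅a, zz⁆⁻¹ ∈ ucs Γ k := by
        intro w hw
        rw [hI, ← Subgroup.mem_toSubmonoid, Subgroup.closure_toSubmonoid_of_finite] at hw
        induction hw using Submonoid.closure_induction with
        | mem w hw =>
          rcases hw with hw | ⟨f0, hf0, rfl⟩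
          · exact ⟨1, one_mem _, by simpa using hw⟩
          · exact hgen f0 hf0
        | one => exact ⟨1, one_mem _, by simp⟩
        | mul w1 w2 _ _ h1 h2 =>
          obtain ⟨z1, hz1, hn1⟩ := h1
          obtain ⟨z2, hz2, hn2⟩ := h2
          refine ⟨z1 * z2, mul_mem hz1 hz2, ?_⟩
          have hd1 : ⁅a, z1⁆ ∈ Γ := ucs_le _ _ (hcl (han _) z1 hz1)
          have hd2 : ⁅a, z2⁆ ∈ Γ := ucs_le _ _ (hcl (han _) z2 hz2)
          rw [show w1 * w2 * ⁅a, z1 * z2⁆⁻¹ = (w1 * ⁅a, z1⁆⁻¹) *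
              (⁅a, z1⁆ * ((w2 * ⁅a, z2⁆⁻¹) * ⁅z1, ⁅a, z2⁆⁆⁻¹) * ⁅a, z1⁆⁻¹) by
            simp only [commutatorElement_def]; group]
          exact mul_mem hn1 (norm_conj (ucs_norm k hd1) (mul_mem hn2 (inv_mem (ucs_comm hz1 hd2))))
      have hdesc : ∀ n, ∀ w ∈ I, (fun u => ⁅b, u⁆)^[n] w ∈ ucs Γ k → w ∈ ucs Γ k := by
        intro n
        induction n with
        | zero => exact fun w _ h => h
        | succ n ihn =>
          intro w hw h
          rw [Function.iterate_succ_apply] at h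
          have hbw : ⁅b, w⁆ ∈ ucs Γ k := ihn _ (by
            rw [commutatorElement_def]
            exact mul_mem (norm_conj hIb hw) (inv_mem hw)) h
          obtain ⟨zz, hzz, hn⟩ := hIim w hw
          obtain ⟨m, hm⟩ : ∃ m, m = w * ⁅a, zz⁆⁻¹ := ⟨_, rfl⟩
          rw [← hm] at hn
          have ew : w = m * ⁅a, zz⁆ := by rw [hm, inv_mul_cancel_right]
          have hd : ⁅b, ⁅a, zz⁆⁆ ∈ ucs Γ k := by
            rw [ew, comm_mul_right] at hbw
            have h1 := (mul_mem_cancel_left (hcl (hbn k) m hn)).1 hbw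
            have h2 := norm_conj' (ucs_norm k (ucs_le _ _ hn)) h1
            rwa [show m⁻¹ * (m * ⁅b, ⁅a, zz⁆⁆ * m⁻¹) * m = ⁅b, ⁅a, zz⁆⁆ by group] at h2
          rw [ew]
          exact mul_mem hn (ihS zz hzz hd)
      have hx1P : x1 ∈ ucs Γ (k + 1) := by
        refine mem_ucs_succ.2 ⟨hB'Γ hx1, fun y hy => ?_⟩
        obtain ⟨y1, hy1, y2, hy2, rfl⟩ := hprod y hy
        rw [comm_mul_right, commutatorElement_eq_one_iff_commute.2 (hB'c x1 hx1 y2 hy2), mul_one,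
          mul_inv_cancel, mul_one]
        have hwI : ⁅x1, y1⁆ ∈ I := hI ▸ subset_closure (Or.inr ⟨y1, hy1, rfl⟩)
        obtain ⟨J, hJp, hbJ, hΓJ⟩ := hJ
        obtain ⟨n, hn⟩ := exists_iterate_eq_one hJp hbJ (hΓJ (ucs_le _ _ (hIP hwI)))
        exact hdesc n _ hwI (hn ▸ one_mem _)
      have hvf : ⁅a, f⁆ * f1 ∈ B := mul_mem (hVB (haB f hf)) hf1
      rw [show ⁅a, f * x⁆ = (⁅a, f⁆ * f1) * (f * x1 * f⁻¹) by
        rw [comm_mul_right, e1,
          show f * (f1 * x1) * f⁻¹ = (f * f1) * x1 * f⁻¹ by group, (hBc f hf f1 hf1).eq]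
        group, comm_mul_right]
      refine mul_mem (hV k (haB _ hvf)) (norm_conj (ucs_norm _ (hBΓ hvf)) ?_)
      exact hcl (han _) _ (norm_conj (ucs_norm _ (hBΓ hf)) hx1P)
    refine ⟨hQ, fun z hz h => ?_⟩
    obtain ⟨f, hf, x, hx, rfl, hf2, hx2⟩ := hdec (k + 1) z hz
    have hdxΓ : ⁅a, x⁆ ∈ Γ := ucs_le _ _ (hcl (han _) x hx2)
    obtain ⟨m, hm⟩ : ∃ m, m = ⁅a, f⁆ * ⁅f, ⁅a, x⁆⁆ := ⟨_, rfl⟩
    have hmP : m ∈ ucs Γ (k + 1) := hm ▸ mul_mem (hV k (haB f hf)) (ucs_comm hf2 hdxΓ)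
    have ey : ⁅a, f * x⁆ = m * ⁅a, x⁆ := by
      rw [hm, comm_mul_right, comm_self_left, mul_assoc]
    rw [ey] at h ⊢
    refine mul_mem hmP (trick_rel (han _) (hbn _) (ucs_norm _ (hB'Γ hx)) hg hbg (hQ x hx2) ?_
      (hV k (hbB' x hx)))
    rw [comm_mul_right] at h
    have h1 := (mul_mem_cancel_left (hcl (hbn _) m hmP)).1 h
    have h2 := norm_conj' (ucs_norm _ (ucs_le _ _ hmP)) h1
    rwa [show m⁻¹ * (m * ⁅b, ⁅a, x⁆⁆ * m⁻¹) * m = ⁅b, ⁅a, x⁆⁆ by group] at h2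

/-- An offender acts quadratically on the chief factors inside `O_p(G)`. -/
theorem quadratic_on_chief {G : Type u} [Group G] [Finite G] {p : ℕ} [Fact p.Prime] {S : Subgroup G}
    (sit : Sit p S) (hn : ¬ (S ⊓ centralizer (S : Set G)).Normal)
    {A : Subgroup G} (hA : MA S A) (hAQ : ¬ A ≤ Cfsg.pCore p G)
    (hmax : ∀ X : Subgroup G, X ≤ S →
      Nat.card X * Nat.card ↥(S ⊓ centralizer (X : Set G)) ≤ Nat.card A * Nat.card A)
    {a : G} (ha : a ∈ A) (haQ : a ∉ Cfsg.pCore p G)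
    {U W : Subgroup G} (hc : Cfsg.IsChiefFactor U W) (hU : U ≤ Cfsg.pCore p G) :
    Cfsg.iterCommutator U (zpowers a) 2 ≤ W := by
  haveI := CfsgLib.PushUp.pCore_normal p G
  obtain ⟨Q, hQ⟩ : ∃ Q, Q = Cfsg.pCore p G := ⟨_, rfl⟩
  haveI hQn : Q.Normal := hQ ▸ CfsgLib.PushUp.pCore_normal p G
  have hQS : Q ≤ S := hQ ▸ sit.pCore_le
  obtain ⟨Z, hZ⟩ : ∃ Z, Z = S ⊓ centralizer (S : Set G) := ⟨_, rfl⟩
  obtain ⟨V, hV⟩ : ∃ V, V = normalClosure ((S ⊓ centralizer (S : Set G) : Subgroup G) : Set G) :=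
    ⟨_, rfl⟩
  have o : Off p S V := hV ▸ sit.off le_rfl hn hA hAQ
  haveI hVn := o.normal
  haveI := o.comm
  have hVQ : V ≤ Q := hQ ▸ o.le
  have hVS : V ≤ S := hVQ.trans hQS
  have hQV : Q ≤ centralizer (V : Set G) := hQ ▸ o.cent
  have hVc : ∀ x ∈ V, ∀ y ∈ V, Commute x y := fun x hx y hy =>
    mem_centralizer_iff.1 (le_centralizer V hy) x hx
  have hZV : Z ≤ V := by rw [hV, hZ]; exact subset_normalClosure
  have hVZ : V ⊓ centralizer (S : Set G) = Z :=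
    le_antisymm (hZ ▸ inf_le_inf_right _ hVS) (le_inf hZV (hZ ▸ inf_le_right))
  -- the maximal subgroup over `S`
  obtain ⟨M, ⟨hM, hSM⟩, huniq⟩ := sit.uniq
  have hNZ : normalizer (Z : Set G) ≤ M := by
    have hS : S ≤ normalizer (Z : Set G) := by
      rw [hZ]
      exact CfsgLib.PushAmalgam.le_normalizer_inf Subgroup.le_normalizer
        ((le_centralizer_iff.1 le_rfl).trans (Subgroup.centralizer_le_normalizer _))
    obtain ⟨N', hN', hle⟩ := (eq_top_or_exists_le_coatom (normalizer (Z : Set G))).resolve_left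
      fun e => hn (hZ ▸ normalizer_eq_top_iff.1 e)
    rw [← huniq N' ⟨hN', hS.trans hle⟩]
    exact hle
  have haS : a ∈ S := hA.1 ha
  have hout : ∀ g : G, g ∉ M → g * a * g⁻¹ ∉ M := by
    intro g hg hgM
    obtain ⟨P, hP⟩ := sit.sylow
    obtain ⟨j, hj⟩ := sit.isPGroup ⟨a, haS⟩
    have hj' : a ^ p ^ j = 1 := congrArg Subtype.val hj
    have hp' : IsPGroup p (zpowers (⟨g * a * g⁻¹, hgM⟩ : ↥M)) := fun ⟨y, hy⟩ => by
      obtain ⟨i, rfl⟩ := mem_zpowers_iff.1 hy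
      refine ⟨j, Subtype.ext (Subtype.ext ?_)⟩
      show ((g * a * g⁻¹) ^ i) ^ p ^ j = 1
      rw [← zpow_natCast, ← zpow_mul, mul_comm i, zpow_mul, zpow_natCast, conj_pow, hj']
      simp
    obtain ⟨R, hR⟩ := hp'.exists_le_sylow
    have hPM : (P : Subgroup G) ≤ M := hP ▸ hSM
    obtain ⟨m, hm⟩ := MulAction.exists_smul_eq ↥M R (P.subtype hPM)
    have hmem : (m : G) * (g * a * g⁻¹) * (m : G)⁻¹ ∈ S := by
      have h1 : m * ⟨g * a * g⁻¹, hgM⟩ * m⁻¹ ∈ ((m • R : Sylow p ↥M) : Subgroup ↥M) := by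
        rw [Sylow.coe_subgroup_smul]
        exact ⟨_, hR (mem_zpowers _), rfl⟩
      rw [hm, Sylow.coe_subtype] at h1
      exact hP ▸ (mem_subgroupOf.1 h1)
    obtain ⟨h, hh⟩ : ∃ h, h = (m : G) * g := ⟨_, rfl⟩
    obtain ⟨b, hb⟩ : ∃ b, b = h * a * h⁻¹ := ⟨_, rfl⟩
    have hbS : b ∈ S := by
      rwa [hb, hh, show (m : G) * g * a * ((m : G) * g)⁻¹ = (m : G) * (g * a * g⁻¹) * (m : G)⁻¹ by
        group]
    have hbQ : b ∉ Q := fun hbQ => haQ (by
      have := hQn.conj_mem b hbQ h⁻¹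
      rw [hb, inv_inv, show h⁻¹ * (h * a * h⁻¹) * h = a by group] at this
      exact hQ ▸ this)
    have hfa := o.fix a haS haQ
    have hfb := o.fix b hbS (hQ ▸ hbQ)
    rw [hVZ] at hfa hfb
    have hN : h ∈ normalizer (Z : Set G) := mem_norm fun z hz => by
      rw [← hfa] at hz
      rw [← hfb]
      refine mem_inf.2 ⟨hVn.conj_mem z (mem_inf.1 hz).1 h, mem_centralizer_singleton_iff.2 ?_⟩
      have hza := mem_centralizer_singleton_iff.1 (mem_inf.1 hz).2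
      rw [hb]
      calc h * z * h⁻¹ * (h * a * h⁻¹) = h * (z * a) * h⁻¹ := by group
        _ = h * (a * z) * h⁻¹ := by rw [hza]
        _ = _ := by group
    have hgM' : g ∈ M := by
      have := mul_mem (inv_mem m.2) (hNZ hN : h ∈ M)
      rwa [hh, inv_mul_cancel_left] at this
    exact hg hgM'
  -- the minimal pair
  obtain ⟨g0, hg0⟩ : ∃ g, g ∉ M := by
    by_contra! h
    exact hM.1 (eq_top_iff.2 fun x _ => h x)
  obtain ⟨g1, hg1, hmin⟩ := Set.exists_min_image {g : G | g ∉ M}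
    (fun g => Nat.card ↥(closure {a, g * a * g⁻¹})) (Set.toFinite _) ⟨g0, hg0⟩
  obtain ⟨g, hgD, hgM⟩ : ∃ g ∈ closure {a, g1 * a * g1⁻¹}, g ∉ M := by
    by_contra! h
    exact hout g1 hg1 (h _ (subset_closure (Or.inr rfl)))
  obtain ⟨b, hb⟩ : ∃ b, b = g * a * g⁻¹ := ⟨_, rfl⟩
  have hg : g ∈ closure {a, b} := by
    have hle : closure {a, b} ≤ closure {a, g1 * a * g1⁻¹} := by
      rw [closure_le]
      rintro _ (rfl | rfl)
      · exact subset_closure (Or.inl rfl)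
      · rw [hb]
        exact mul_mem (mul_mem hgD (subset_closure (Or.inl rfl))) (inv_mem hgD)
    rw [eq_of_le_of_card_ge hle (hb ▸ hmin g hgM)]
    exact hgD
  -- the two halves
  obtain ⟨A', hA'⟩ : ∃ A', A' = cj g A := ⟨_, rfl⟩
  obtain ⟨L, hL⟩ : ∃ L, L = A ⊔ A' := ⟨_, rfl⟩
  have haL : a ∈ L := hL ▸ mem_sup_left ha
  have hbA' : b ∈ A' := hA' ▸ hb ▸ conj_mem_cj ha
  have hbL : b ∈ L := hL ▸ mem_sup_right hbA'
  have hgS : S ⊔ cj g S = ⊤ := by
    by_contra hne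
    obtain ⟨W', hW', hle⟩ := (eq_top_or_exists_le_coatom _).resolve_left hne
    have hWM := huniq W' ⟨hW', le_sup_left.trans hle⟩
    exact hgM (CfsgLib.PushAmalgam.Sit.mem_of_cj_le sit hM hSM (hWM ▸ le_sup_right.trans hle))
  have hAQS : A ⊔ Q = S := hQ ▸ o.sup A hA (by exact hAQ)
  have hA'QS : A' ⊔ Q = cj g S := by
    rw [← hAQS, hA', CfsgLib.PushAmalgam.cj_sup, CfsgLib.PushUp.cj_normal g Q]
  have hLQ : L ⊔ Q = ⊤ := by
    rw [← top_le_iff, ← hgS, ← hAQS, CfsgLib.PushAmalgam.cj_sup, ← hA',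
      CfsgLib.PushUp.cj_normal g Q, hL]
    exact sup_le (sup_le (le_sup_left.trans le_sup_left) le_sup_right)
      (sup_le (le_sup_right.trans le_sup_left) le_sup_right)
  obtain ⟨B, hB⟩ : ∃ B, B = A ⊓ Q ⊔ V := ⟨_, rfl⟩
  have hBma : MA S B := hB ▸ hQ ▸ o.replace_ma A hA hAQ
  have hBQ : B ≤ Q := hB ▸ sup_le inf_le_right hVQ
  obtain ⟨B', hB'⟩ : ∃ B', B' = cj g B := ⟨_, rfl⟩
  have hB'Q : B' ≤ Q := hB' ▸ (cj_mono hBQ).trans (CfsgLib.PushUp.cj_normal g Q).le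
  have hB'ma : MA S B' := hB' ▸ CfsgLib.PushUp.ma_cj hBma (hB' ▸ hB'Q.trans hQS)
  have hVB : V ≤ B := hB ▸ le_sup_right
  have hVB' : V ≤ B' := hB' ▸ (CfsgLib.PushUp.cj_normal g V).ge.trans (cj_mono hVB)
  have hsplit : ∀ e ∈ B, ∃ f ∈ A ⊓ Q, ∃ v ∈ V, e = f * v := by
    intro e he
    rw [hB, ← SetLike.mem_coe, Subgroup.mul_normal] at he
    obtain ⟨f, hf, v, hv, rfl⟩ := he
    exact ⟨f, hf, v, hv, rfl⟩
  have hAB : ∀ t ∈ A, ∀ e ∈ B, ⁅t, e⁆ ∈ V := by
    intro t ht e he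
    obtain ⟨f, hf, v, hv, rfl⟩ := hsplit e he
    haveI := hA.2.1
    rw [comm_mul_right, commutatorElement_eq_one_iff_commute.2
      (mem_centralizer_iff.1 (le_centralizer A hf.1) t ht), one_mul]
    refine hVn.conj_mem _ ?_ f
    rw [commutatorElement_def]
    exact mul_mem (hVn.conj_mem v hv t) (inv_mem hv)
  have hA'B' : ∀ t ∈ A', ∀ e ∈ B', ⁅t, e⁆ ∈ V := by
    intro t ht e he
    rw [hA'] at ht
    rw [hB'] at he
    obtain ⟨t0, ht0, rfl⟩ := ht
    obtain ⟨e0, he0, rfl⟩ := he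
    rw [← map_commutatorElement]
    exact hVn.conj_mem _ (hAB t0 ht0 e0 he0) g
  have macent : ∀ X, MA S X → S ⊓ centralizer (X : Set G) = X := fun X hX =>
    le_antisymm hX.centralizer_le (le_inf hX.1 (by haveI := hX.2.1; exact le_centralizer X))
  have hcard : ∀ X, MA S X → Nat.card A * Nat.card A ≤
      Nat.card X * Nat.card ↥(S ⊓ centralizer (X : Set G)) := fun X hX => by
    rw [macent X hX, le_antisymm (hA.2.2 X hX.1 hX.2.1) (hX.2.2 A hA.1 hA.2.1)]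
  obtain ⟨hprod, hEn, hEc⟩ := large_lat hmax hBma.1 (hcard B hBma) hB'ma.1 (hcard B' hB'ma)
  obtain ⟨Γ, hΓ⟩ : ∃ Γ, Γ = B ⊔ B' := ⟨_, rfl⟩
  obtain ⟨E, hE⟩ : ∃ E, E = B ⊓ B' := ⟨_, rfl⟩
  rw [← hE] at hEn hEc
  have hΓQ : Γ ≤ Q := hΓ ▸ sup_le hBQ hB'Q
  have hΓS : Γ ≤ S := hΓQ.trans hQS
  have hBc : ∀ x ∈ B, ∀ y ∈ B, Commute x y := fun x hx y hy => by
    haveI := hBma.2.1; exact mem_centralizer_iff.1 (le_centralizer B hy) x hx
  have hB'c : ∀ x ∈ B', ∀ y ∈ B', Commute x y := fun x hx y hy => by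
    haveI := hB'ma.2.1; exact mem_centralizer_iff.1 (le_centralizer B' hy) x hx
  have hCE : S ⊓ centralizer (E : Set G) = Γ := by
    refine le_antisymm (fun t ht => ?_) (le_inf hΓS ?_)
    · obtain ⟨c, hc', d, hd, rfl⟩ := hEc t ht.1 ht.2
      rw [macent B hBma] at hc'
      rw [macent B' hB'ma] at hd
      exact hΓ ▸ mul_mem (mem_sup_left hc') (mem_sup_right hd)
    · rw [hΓ, hE]
      exact sup_le (fun x hx => mem_centralizer_iff.2 fun y hy => (hBc y hy.1 x hx).eq)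
        fun x hx => mem_centralizer_iff.2 fun y hy => (hB'c y hy.2 x hx).eq
  have hEucs : ucs Γ 1 = E := by
    rw [ucs_one]
    refine le_antisymm (fun x hx => ?_) (le_inf ?_ ?_)
    · obtain ⟨hxΓ, hxc⟩ := mem_inf.1 hx
      have hcB : x ∈ centralizer (B : Set G) :=
        centralizer_le (SetLike.coe_subset_coe.2 (le_sup_left.trans hΓ.ge)) hxc
      have hcB' : x ∈ centralizer (B' : Set G) :=
        centralizer_le (SetLike.coe_subset_coe.2 (le_sup_right.trans hΓ.ge)) hxc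
      rw [hE]
      exact mem_inf.2 ⟨(macent B hBma).le (mem_inf.2 ⟨hΓS hxΓ, hcB⟩),
        (macent B' hB'ma).le (mem_inf.2 ⟨hΓS hxΓ, hcB'⟩)⟩
    · rw [hE, hΓ]
      exact inf_le_left.trans le_sup_left
    · rw [← hCE]
      exact le_centralizer_iff.1 inf_le_right
  have hVE : V ≤ E := hE ▸ le_inf hVB hVB'
  have hEB : E ≤ B := hE ▸ inf_le_left
  have hLk : L ≤ kmod V E := by
    rw [hL]
    exact sup_le (fun t ht => mem_kmod_of hVE fun e he => hAB t ht e (hEB he))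
      (fun t ht => mem_kmod_of hVE fun e he => hA'B' t ht e (hE.le he).2)
  have hLΓ : L ≤ normalizer (Γ : Set G) := fun t ht => by
    refine mem_norm fun x hx => ?_
    rw [← hCE] at hx
    obtain ⟨hxS, hxE⟩ := mem_inf.1 hx
    rw [← hCE]
    refine mem_inf.2 ⟨hQS (hQn.conj_mem x (hΓQ (hCE.le ⟨hxS, hxE⟩)) t),
      mem_centralizer_iff.2 fun e he => ?_⟩
    have h := mem_centralizer_iff.1 hxE _ (norm_conj' (hLk ht).1 he)
    calc e * (t * x * t⁻¹) = t * ((t⁻¹ * e * t) * x) * t⁻¹ := by group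
      _ = t * (x * (t⁻¹ * e * t)) * t⁻¹ := by rw [h]
      _ = _ := by group
  -- the base layer
  have haZ : ∀ v ∈ V, ⁅a, v⁆ ∈ Z := fun v hv => hVZ.le (o.quad v hv a haS)
  have base : ∀ z ∈ ucs Γ 1, ⁅a, ⁅a, z⁆⁆ = 1 ∧ (⁅b, ⁅a, z⁆⁆ = 1 → ⁅a, z⁆ = 1) := by
    intro z hz
    obtain ⟨f, hf, v, hv, rfl⟩ := hsplit z (hEB (hEucs.le hz))
    have hy : ⁅a, f * v⁆ = ⁅a, v⁆ := by
      haveI := hA.2.1
      rw [comm_mul_right, commutatorElement_eq_one_iff_commute.2
        (mem_centralizer_iff.1 (le_centralizer A hf.1) a ha), one_mul,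
        ← mem_centralizer_iff.1 (hQV hf.2) _ (hZV (haZ v hv)), mul_inv_cancel_right]
    have hzS : ∀ y ∈ Z, Commute a y := fun y hy' => mem_centralizer_iff.1 (hZ.le hy').2 a haS
    rw [hy]
    refine ⟨commutatorElement_eq_one_iff_commute.2 (hzS _ (haZ v hv)), fun hby => ?_⟩
    have hsup : V ⊓ centralizer (S : Set G) ⊔ cj g (V ⊓ centralizer (S : Set G)) = V :=
      o.eq_sup hV inf_le_right hgS
    rw [hVZ] at hsup
    have hv' : v ∈ ((Z ⊔ cj g Z : Subgroup G) : Set G) := hsup.ge hv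
    rw [coe_mul_of_left_le_normalizer_right _ _ ?_] at hv'
    swap
    · refine fun y hy' => Subgroup.centralizer_le_normalizer _ (mem_centralizer_iff.2 fun w hw => ?_)
      exact hVc w (hsup.le (mem_sup_right hw)) y (hZV hy')
    obtain ⟨z0, hz0, z', hz', rfl⟩ := hv'
    obtain ⟨w, hw, ew⟩ := hz'
    have hz'V : z' ∈ V := hsup.le (mem_sup_right ⟨w, hw, ew⟩)
    have hy2 : ⁅a, z0 * z'⁆ = ⁅a, z'⁆ := by
      rw [comm_mul_right, commutatorElement_eq_one_iff_commute.2 (hzS z0 hz0), one_mul,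
        (hVc z0 (hZV hz0) _ (hZV (haZ z' hz'V))).eq, mul_inv_cancel_right]
    rw [hy2] at hby ⊢
    refine trick hg hb (hzS _ (haZ z' hz'V)) (commutatorElement_eq_one_iff_commute.1 hby) ?_
      (comm_self_left a z')
    have hwa : Commute a w := hzS w hw
    rw [← ew, hb]
    show g * a * g⁻¹ * (g * w * g⁻¹) * (g * a * g⁻¹)⁻¹ = g * w * g⁻¹
    calc g * a * g⁻¹ * (g * w * g⁻¹) * (g * a * g⁻¹)⁻¹ = g * (a * w) * a⁻¹ * g⁻¹ := by group
      _ = g * (w * a) * a⁻¹ * g⁻¹ := by rw [hwa.eq]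
      _ = _ := by group
  have hlayer : ∀ k, ∀ z ∈ ucs Γ (k + 1), ⁅a, ⁅a, z⁆⁆ ∈ ucs Γ k :=
    layers (V := V) (B := B) (B' := B') (p := p) hg hb (hLΓ haL) (hLΓ hbL)
      ⟨cj g S, sit.isPGroup.map _, hb ▸ conj_mem_cj haS,
        hΓQ.trans (le_sup_right.trans hA'QS.le)⟩
      (hΓ ▸ le_sup_left) (hΓ ▸ le_sup_right) (fun z hz => hprod z (hΓ ▸ hz)) hBc hB'c
      (hAB a ha) (hA'B' b hbA') hVB (hEucs ▸ hVE) base
  have hLQ' : L ⊔ Cfsg.pCore p G = ⊤ := hQ ▸ hLQ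
  have hgoodΓ : QGood p a Γ := by
    have key : ∀ k, QGood p a (ucs Γ k) := by
      intro k
      induction k with
      | zero =>
        intro U' W' _ _ h
        exact absurd (by rw [ucs_zero, inf_bot_eq]; exact bot_le) h
      | succ k ih => exact good_step hLQ' (hLΓ.trans (ucs_conj _)) (hlayer k) ih
    obtain ⟨k, hk⟩ := exists_ucs_eq (sit.isPGroup.to_le hΓS)
    exact hk ▸ key k
  -- above `Γ`
  have top : ∀ n, ∀ X : Subgroup G, Nat.card X = n → Γ ≤ X → X ≤ Q → L ≤ normalizer (X : Set G) →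
      QGood p a X := by
    intro n
    induction n using Nat.strong_induction_on with
    | _ n ih =>
      intro X hXn hΓX hXQ hLX
      rcases hΓX.eq_or_lt with rfl | hlt
      · exact hgoodΓ
      have hXS : X ≤ S := hXQ.trans hQS
      obtain ⟨E', hE'⟩ : ∃ E' : Subgroup G, E' = ⨅ x : ↥X, cj (x : G) E := ⟨_, rfl⟩
      have hmemE : ∀ e, e ∈ E' ↔ ∀ x ∈ X, x⁻¹ * e * x ∈ E := fun e => by
        simp only [hE', mem_iInf, mem_cj, Subtype.forall]
      have hE'E : E' ≤ E := fun e he => by simpa using (hmemE e).1 he 1 (one_mem X)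
      have hVE' : V ≤ E' := fun v hv => (hmemE v).2 fun x _ => by
        simpa using hVE (hVn.conj_mem v hv x⁻¹)
      have hXE' : X ≤ normalizer (E' : Set G) := fun h hh => mem_norm fun e he => (hmemE _).2
        fun x hx => by
          have := (hmemE e).1 he (h⁻¹ * x) (mul_mem (inv_mem hh) hx)
          rwa [mul_inv_rev, inv_inv, show x⁻¹ * h * e * (h⁻¹ * x) = x⁻¹ * (h * e * h⁻¹) * x by
            group] at this
      have hLE' : L ≤ kmod V E' := fun t ht => by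
        obtain ⟨htE, htc⟩ := mem_kmod.1 (hLk ht)
        exact mem_kmod_of hVE' fun e he => htc e (hE'E he)
      obtain ⟨X1, hX1⟩ : ∃ X1, X1 = X ⊓ kmod V E' := ⟨_, rfl⟩
      obtain ⟨X0, hX0⟩ : ∃ X0, X0 = X ⊓ centralizer (E' : Set G) := ⟨_, rfl⟩
      have hLX1 : L ≤ normalizer (X1 : Set G) := fun t ht => mem_norm fun x hx => by
        rw [hX1] at hx ⊢
        exact ⟨norm_conj (hLX ht) hx.1, kmod_conj (hLE' ht).1 hx.2⟩
      have hLX0 : L ≤ normalizer (X0 : Set G) := fun t ht => mem_norm fun x hx => by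
        rw [hX0] at hx ⊢
        obtain ⟨hxX, hxE⟩ := mem_inf.1 hx
        refine mem_inf.2 ⟨norm_conj (hLX ht) hxX, mem_centralizer_iff.2 fun e he => ?_⟩
        have h := mem_centralizer_iff.1 hxE _ (norm_conj' (hLE' ht).1 he)
        calc e * (t * x * t⁻¹) = t * ((t⁻¹ * e * t) * x) * t⁻¹ := by group
          _ = t * (x * (t⁻¹ * e * t)) * t⁻¹ := by rw [h]
          _ = _ := by group
      have hΓX0 : Γ ≤ X0 := hX0 ▸ le_inf hΓX
        ((hCE.ge.trans inf_le_right).trans (centralizer_le (SetLike.coe_subset_coe.2 hE'E)))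
      have hX0lt : X0 < X := by
        refine lt_of_le_of_ne (hX0 ▸ inf_le_left) fun heq => ?_
        have hXp : IsPGroup p X := sit.isPGroup.to_le hXS
        haveI := hXp.isNilpotent
        have hne : Γ.subgroupOf X ≠ ⊤ := fun h => hlt.ne (le_antisymm hΓX (subgroupOf_eq_top.1 h))
        obtain ⟨N0, hN0, hle0⟩ := (eq_top_or_exists_le_coatom (Γ.subgroupOf X)).resolve_left hne
        have hN0n : N0.Normal :=
          Subgroup.NormalizerCondition.normal_of_coatom N0 Group.normalizerCondition_of_isNilpotent hN0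
        obtain ⟨N1, hN1⟩ : ∃ N1, N1 = N0.map X.subtype := ⟨_, rfl⟩
        have hN1X : N1 ≤ X := hN1 ▸ map_subtype_le _
        have hΓN1 : Γ ≤ N1 := hN1 ▸ (map_subgroupOf_eq_of_le hΓX).ge.trans (map_mono hle0)
        have hconj : ∀ x ∈ X, ∀ y ∈ N1, x * y * x⁻¹ ∈ N1 := by
          rw [hN1]
          rintro x hx _ ⟨y, hy, rfl⟩
          exact ⟨_, hN0n.conj_mem y hy ⟨x, hx⟩, rfl⟩
        have hfam : ∀ s : Finset ↥X, Nat.card A * Nat.card A ≤
            Nat.card ↥(E ⊓ s.inf fun x => cj (x : G) E) *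
              Nat.card ↥(S ⊓ centralizer ((E ⊓ s.inf fun x => cj (x : G) E : Subgroup G) : Set G)) ∧
            S ⊓ centralizer ((E ⊓ s.inf fun x => cj (x : G) E : Subgroup G) : Set G) ≤ N1 := by
          classical
          intro s
          induction s using Finset.induction with
          | empty =>
            rw [Finset.inf_empty, inf_top_eq]
            exact ⟨hEn, hCE.le.trans hΓN1⟩
          | insert x s _ ihs =>
            rw [Finset.inf_insert, ← inf_assoc, inf_comm E (cj (x : G) E), inf_assoc]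
            have hxS : (x : G) ∈ S := hXS x.2
            have hES : E ≤ S := hEB.trans hBma.1
            have hcjS : cj (x : G) S = S :=
              CfsgLib.PushUp.cj_eq_of_mem_normalizer (Subgroup.le_normalizer hxS)
            have hxE : cj (x : G) E ≤ S := (cj_mono hES).trans hcjS.le
            have hcx : S ⊓ centralizer (cj (x : G) E : Set G) = cj (x : G) Γ := by
              rw [← hCE, CfsgLib.PushAmalgam.cj_inf, hcjS, CfsgLib.PushAmalgam.cj_centralizer]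
            have hxn : Nat.card A * Nat.card A ≤ Nat.card ↥(cj (x : G) E) *
                Nat.card ↥(S ⊓ centralizer (cj (x : G) E : Set G)) := by
              rw [hcx, card_cj, card_cj, ← hCE]
              exact hEn
            obtain ⟨-, h2, h3⟩ := large_lat hmax hxE hxn (inf_le_left.trans hES) ihs.1
            refine ⟨h2, fun t ht => ?_⟩
            obtain ⟨c, hc', d, hd, rfl⟩ := h3 t ht.1 ht.2
            refine mul_mem ?_ (ihs.2 hd)
            rw [hcx] at hc'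
            obtain ⟨y, hy, rfl⟩ := hc'
            exact hconj x x.2 y (hΓN1 hy)
        haveI : Fintype ↥X := Fintype.ofFinite _
        have hEinf : E ⊓ (Finset.univ : Finset ↥X).inf (fun x => cj (x : G) E) = E' := by
          rw [Finset.inf_univ_eq_iInf, ← hE']
          exact inf_eq_right.2 hE'E
        have hle1 := (hfam Finset.univ).2
        rw [hEinf] at hle1
        have hXN1 : X ≤ N1 := fun x hx => by
          have hx0 : x ∈ X0 := heq.symm ▸ hx
          rw [hX0] at hx0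
          exact hle1 ⟨hXS hx, hx0.2⟩
        exact hN0.1 ((map_injective X.subtype_injective) (by
          rw [← hN1, ← MonoidHom.range_eq_map, range_subtype]
          exact le_antisymm hN1X hXN1))
      have hg0 : QGood p a X0 :=
        ih (Nat.card X0) (hXn ▸ by
          by_contra hge
          exact hX0lt.ne (eq_of_le_of_card_ge hX0lt.le (Nat.le_of_not_lt hge))) X0 rfl hΓX0
          (hX0lt.le.trans hXQ) hLX0
      have hg1 : QGood p a X1 := by
        refine good_step hLQ' hLX1 (fun x hx => ?_) hg0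
        rw [hX1] at hx
        obtain ⟨hxX, hxk⟩ := mem_inf.1 hx
        have hdX : ∀ y ∈ X, ⁅a, y⁆ ∈ X := fun y hy => by
          rw [commutatorElement_def]
          exact mul_mem (norm_conj (hLX haL) hy) (inv_mem hy)
        rw [hX0]
        refine mem_inf.2 ⟨hdX _ (hdX x hxX), mem_centralizer_iff.2 fun e he => ?_⟩
        obtain ⟨hxN, hxc⟩ := mem_kmod.1 hxk
        obtain ⟨haN, hac⟩ := mem_kmod.1 (hLE' haL)
        -- the pairing with `e` is additive and commutes with `a`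
        have hd : ∀ y ∈ X, y ∈ kmod V E' → ⁅⁅a, y⁆, e⁆ = ⁅a, ⁅y, e⁆⁆ := by
          intro y hy hyk
          obtain ⟨-, hyc⟩ := mem_kmod.1 hyk
          obtain ⟨φ, hφ⟩ : ∃ φ, φ = ⁅y, e⁆ := ⟨_, rfl⟩
          have hφV : φ ∈ V := hφ ▸ hyc e he
          have hyV : ∀ v ∈ V, Commute y v := fun v hv =>
            (mem_centralizer_iff.1 (hQV (hXQ hy)) v hv).symm
          obtain ⟨e', he'⟩ : ∃ e', e' = a⁻¹ * e * a := ⟨_, rfl⟩
          have he'E : e' ∈ E' := he' ▸ norm_conj' haN he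
          obtain ⟨v, hv⟩ : ∃ v, v = e * e'⁻¹ := ⟨_, rfl⟩
          have hvV : v ∈ V := by
            have := hac e' he'E
            rwa [commutatorElement_def, he', show a * (a⁻¹ * e * a) * a⁻¹ * (a⁻¹ * e * a)⁻¹ =
              e * (a⁻¹ * e * a)⁻¹ by group, ← he', ← hv] at this
          have hEV : Commute v φ := hVc v hvV φ hφV
          have hye : ⁅y, e'⁆ = φ := by
            have e1 : e = v * e' := by rw [hv, inv_mul_cancel_right]
            have h2 : ⁅y, v⁆ = 1 := commutatorElement_eq_one_iff_commute.2 (hyV v hvV)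
            have h3 := hyc e' he'E
            rw [hφ, e1, comm_mul_right, h2, one_mul, (hVc v hvV _ h3).eq, mul_inv_cancel_right]
          have h1 : ⁅a * y * a⁻¹, e⁆ = a * φ * a⁻¹ := by
            rw [← hye, he']
            simp only [commutatorElement_def]; group
          have h2 : ⁅y⁻¹, e⁆ = φ⁻¹ := by
            have h2a : y * φ * y⁻¹ = φ := by rw [(hyV φ hφV).eq, mul_inv_cancel_right]
            have h2b : y⁻¹ * φ⁻¹ * y = φ⁻¹ := by
              have := (hyV φ hφV).inv_left.inv_right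
              rw [this.eq, mul_assoc, inv_mul_cancel, mul_one]
            rw [show ⁅y⁻¹, e⁆ = y⁻¹ * φ⁻¹ * y by rw [hφ]; simp only [commutatorElement_def]; group,
              h2b]
          rw [show ⁅a, y⁆ = a * y * a⁻¹ * y⁻¹ from rfl, comm_mul_left, h1, h2, ← hφ,
            show ⁅a, φ⁆ = a * φ * a⁻¹ * φ⁻¹ from rfl]
          have hayV : ∀ v ∈ V, Commute (a * y * a⁻¹) v := fun v hv =>
            (mem_centralizer_iff.1 (hQV (hQn.conj_mem y (hXQ hy) a)) v hv).symm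
          rw [(hayV _ (inv_mem hφV)).eq, mul_inv_cancel_right]
          exact (hVc _ (inv_mem hφV) _ (hVn.conj_mem φ hφV a)).eq
        have hk1 : ⁅a, x⁆ ∈ kmod V E' := by
          rw [commutatorElement_def]
          exact mul_mem (kmod_conj haN hxk) (inv_mem hxk)
        refine (commutatorElement_eq_one_iff_commute.1 ?_).symm.eq
        rw [hd _ (hdX x hxX) hk1, hd x hxX hxk]
        exact commutatorElement_eq_one_iff_commute.2
          (mem_centralizer_iff.1 (hZ.le (haZ _ (hxc e he))).2 a haS)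
      refine good_step hLQ' hLX (fun x hx => ?_) hg1
      rw [hX1]
      have hdk : ∀ y ∈ X, ⁅a, y⁆ ∈ X ⊓ kmod V E' := fun y hy => by
        refine mem_inf.2 ⟨?_, ?_⟩
        · rw [commutatorElement_def]
          exact mul_mem (norm_conj (hLX haL) hy) (inv_mem hy)
        · rw [show ⁅a, y⁆ = a * (y * a⁻¹ * y⁻¹) by rw [commutatorElement_def]; group]
          exact mul_mem (hLE' haL) (kmod_conj (hXE' hy) (inv_mem (hLE' haL)))
      exact hdk _ (mem_inf.1 (hdk x hx)).1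
  have hgood : QGood p a Q :=
    top _ Q rfl hΓQ le_rfl (le_top.trans (normalizer_eq_top_iff.2 hQn).ge)
  haveI := hc.2.1
  haveI := hc.2.2.1
  refine iter_le (hgood U W hc hU ?_)
  rw [inf_eq_left.2 (hQ ▸ hU)]
  exact hc.1.not_ge

end CfsgLib.FocalThree
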