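import Cfsg.Agent.Lib.CFun.FocalThree.Module
import Cfsg.Agent.Lib.CFun.FocalThree.Quadratic
import Cfsg.Agent.S2989

/-!
# No minimal failure for the centre and the Frattini join at the prime `3`
-/

set_option autoImplicit false
set_option linter.style.haveILetI false
set_option linter.unusedSectionVars false

open Subgroup
open CfsgLib.CFun
open CfsgLib.PushUp (MA)

namespace CfsgLib.FocalThree

universe u

variable {G : Type u} [Group G] [Finite G] {p : ℕ} [Fact p.Prime]

/-- In a minimal failure `S` centralizes `Z(J(S))`. -/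
theorem sylow_le_centralizer_Jz (hp : p ≠ 2) (h : MinFail (G := G) p (zkFam.{u} p)) (S : Sylow p G) :
    (S : Subgroup G) ≤ centralizer (Cfsg.centerThompsonAOf (S : Subgroup G) : Set G) := by
  have sit := sit_of_minFail hp h S
  set S₀ : Subgroup G := (S : Subgroup G) with hS₀
  obtain ⟨A, hA, hAQ⟩ := exists_ma_not_le h S
  have o := sit.off (le_refl (S₀ ⊓ centralizer (S₀ : Set G))) (center_not_normal h S) hA hAQ
  obtain ⟨N, Z₀, hN, -, -, hNQ, hZ₀W, hZ₀N, hQZ₀, hdec⟩ :=
    CfsgLib.PushUp.Off.center_decomp sit o rfl inf_le_right hA hAQ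
  haveI : Z₀.Normal := by
    rw [← normalizer_eq_top_iff, ← top_le_iff, ← hNQ]
    exact sup_le ((le_centralizer_iff.1 hZ₀N).trans (centralizer_le_normalizer _)) hQZ₀
  have hC : centralizer (Z₀ : Set G) = ⊤ :=
    closure_jT h S _ inferInstance (inf_le_right.trans (centralizer_le hZ₀W))
  intro s hs
  refine mem_centralizer_iff.2 fun z hz => ?_
  obtain ⟨c, hc, hzc⟩ := hdec z hz
  have h1 : z * c⁻¹ * s = s * (z * c⁻¹) := mem_centralizer_iff.1 (hC.symm ▸ mem_top s) _ hzc
  have h2 : s * c = c * s := mem_centralizer_iff.1 (mem_inf.1 hc).2 s hs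
  calc z * s = z * c⁻¹ * (c * s) := by group
    _ = z * c⁻¹ * (s * c) := by rw [h2]
    _ = z * c⁻¹ * s * c := by group
    _ = s * (z * c⁻¹) * c := by rw [h1]
    _ = s * z := by group

/-- There is no minimal failure. -/
theorem minFail_false {G : Type u} [Group G] [Finite G] (h : MinFail (G := G) 3 (zkFam.{u} 3)) : False := by
  classical
  obtain ⟨S⟩ := (inferInstance : Nonempty (Sylow 3 G))
  have hp : (3 : ℕ) ≠ 2 := by norm_num
  have sit := sit_of_minFail hp h S
  set S₀ : Subgroup G := (S : Subgroup G) with hS₀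
  have hJ := sylow_le_centralizer_Jz hp h S
  have hjS : jT S₀ = S₀ := inf_eq_left.2 hJ
  have hn := center_not_normal h S
  have hE : Cfsg.IsPushingUpSituation 3 S₀ :=
    ⟨fun e => h.sylow_ne_top S (le_antisymm le_top (e ▸ bot_le)), sit.sylow, sit.constr, sit.uniq, sit.psl⟩
  obtain ⟨hor, hbot'⟩ := Cfsg.Agent.S2989.result S₀ hE hJ
  have hbot : Cfsg.frattiniOfMinimalCLJoin 3 ↥S₀ = ⊥ := by
    by_contra hne
    refine induced_not_normal h S (W := kFun 3) (Or.inr rfl) ?_
    rw [induced_kFun, hjS]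
    have e : fFun 3 ↥S₀ = Cfsg.frattiniOfMinimalCLJoin 3 ↥S₀ := by
      unfold fFun
      exact if_neg hne
    show ((fFun 3 ↥S₀).map S₀.subtype).Normal
    rw [e]
    exact hor.resolve_left hn
  obtain ⟨hiff, -⟩ := hbot' hbot
  obtain ⟨A, hA, hAQ⟩ := exists_ma_not_le h S
  obtain ⟨a, ha, haQ⟩ := SetLike.not_le_iff_exists.1 hAQ
  -- `|A|²` is the largest measure
  have hmax : ∀ X : Subgroup G, X ≤ S₀ →
      Nat.card X * Nat.card ↥(S₀ ⊓ centralizer (X : Set G)) ≤ Nat.card A * Nat.card A := by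
    intro X hX
    obtain ⟨hAS, hA'⟩ := CfsgLib.PushUp.ma_iff.1 hA
    have hcl := ((hiff _).2 hA').1
    haveI := hA'.1
    have hcl' : Nat.card ↥(A.subgroupOf S₀) * Nat.card ↥(center ↥(A.subgroupOf S₀)) =
        Cfsg.maxCentralProduct ↥S₀ := hcl
    have hc : center ↥(A.subgroupOf S₀) = ⊤ := eq_top_iff.2 fun x _ => mem_center_iff.2 fun y =>
      (hA'.1).is_comm.comm y x
    rw [hc, card_top, CfsgLib.CDLat.maxCentralProduct_eq, Nat.card_congr (subgroupOfEquivOfLe hAS).toEquiv] at hcl'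
    rw [hcl', ← Nat.card_congr (subgroupOfEquivOfLe hX).toEquiv,
      show Nat.card ↥(S₀ ⊓ centralizer (X : Set G)) =
        Nat.card ↥(centralizer ((X.subgroupOf S₀ : Subgroup ↥S₀) : Set ↥S₀)) from ?_]
    · exact CfsgLib.CDLat.measure_le _
    · rw [← card_map_of_injective (K := centralizer ((X.subgroupOf S₀ : Subgroup ↥S₀) : Set ↥S₀))
        S₀.subtype_injective]
      congr 2
      ext x
      constructor
      · rintro ⟨hxS, hxX⟩
        exact ⟨⟨x, hxS⟩, mem_centralizer_iff.2 fun y hy => Subtype.ext (mem_centralizer_iff.1 hxX _ hy), rfl⟩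
      · rintro ⟨y, hy, rfl⟩
        exact ⟨y.2, mem_centralizer_iff.2 fun z hz =>
          congrArg Subtype.val (mem_centralizer_iff.1 hy ⟨z, hX hz⟩ hz)⟩
  obtain ⟨U, V, hc, hU, hnot⟩ := h.no_engel S (hA.1 ha) haQ
  exact hnot (quadratic_on_chief sit hn hA hAQ hmax ha haQ hc hU)

end CfsgLib.FocalThree
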