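import Cfsg.Agent.Lib.CFun.FocalThree.Setup

/-!
# A natural `SL₂` inside a group with offenders: coordinates
-/

set_option autoImplicit false
set_option linter.unusedSectionVars false
set_option linter.style.haveILetI false

open CfsgLib.Char.NatSL (OffData fixS mem_fixS fixS_mono)
open scoped MatrixGroups

namespace CfsgLib.FocalThree

universe u v

variable {H : Type u} [Group H] {U : Type v} [AddCommGroup U] [DistribMulAction H U]

/-- `U = F × F × C`, a group acting as `SL₂(F)` on the first two coordinates, the upper unipotent elements in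
`T` and not all lower ones in `M`. -/
structure Model (U : Type v) [AddCommGroup U] [DistribMulAction H U] (T M : Subgroup H) where
  F : Type
  [fld : Field F]
  [fin : Finite F]
  C : Type v
  [acg : AddCommGroup C]
  e : U ≃+ F × F × C
  ua : F → H
  la : F → H
  tor : Fˣ → H
  ua_e : ∀ (l : F) (u : U), e (ua l • u) = ((e u).1 + l * (e u).2.1, (e u).2.1, (e u).2.2)
  la_e : ∀ (l : F) (u : U), e (la l • u) = ((e u).1, (e u).2.1 + l * (e u).1, (e u).2.2)
  tor_e : ∀ (k : Fˣ) (u : U), e (tor k • u) = ((k : F) * (e u).1, ((k⁻¹ : Fˣ) : F) * (e u).2.1, (e u).2.2)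
  ua_mem : ∀ l, ua l ∈ T
  la_notMem : ∃ l, la l ∉ M

attribute [instance] Model.fld Model.fin Model.acg

namespace Model

variable {T M : Subgroup H}

/-- The vector with given coordinates. -/
def pt (m : Model U T M) (x y : m.F) (c : m.C) : U := m.e.symm (x, y, c)

variable (m : Model U T M)

theorem exists_pt (u : U) : ∃ x y c, u = m.pt x y c :=
  ⟨(m.e u).1, (m.e u).2.1, (m.e u).2.2, (m.e.symm_apply_apply u).symm⟩

@[simp] theorem e_pt (x y : m.F) (c : m.C) : m.e (m.pt x y c) = (x, y, c) := m.e.apply_symm_apply _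

theorem pt_inj {x y x' y' : m.F} {c c' : m.C} :
    m.pt x y c = m.pt x' y' c' ↔ x = x' ∧ y = y' ∧ c = c' := by
  refine ⟨fun h => ?_, fun ⟨h1, h2, h3⟩ => by rw [h1, h2, h3]⟩
  have := congrArg m.e h
  simpa using this

theorem pt_add (x y x' y' : m.F) (c c' : m.C) :
    m.pt x y c + m.pt x' y' c' = m.pt (x + x') (y + y') (c + c') := m.e.injective (by simp)

theorem pt_sub (x y x' y' : m.F) (c c' : m.C) :
    m.pt x y c - m.pt x' y' c' = m.pt (x - x') (y - y') (c - c') := m.e.injective (by simp)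

theorem pt_neg (x y : m.F) (c : m.C) : -m.pt x y c = m.pt (-x) (-y) (-c) := m.e.injective (by simp)

@[simp] theorem pt_zero : m.pt 0 0 0 = 0 := m.e.injective (by simp)

@[simp] theorem ua_pt (l x y : m.F) (c : m.C) : m.ua l • m.pt x y c = m.pt (x + l * y) y c :=
  m.e.injective (by rw [m.ua_e]; simp)

@[simp] theorem la_pt (l x y : m.F) (c : m.C) : m.la l • m.pt x y c = m.pt x (y + l * x) c :=
  m.e.injective (by rw [m.la_e]; simp)

@[simp] theorem tor_pt (k : m.Fˣ) (x y : m.F) (c : m.C) :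
    m.tor k • m.pt x y c = m.pt ((k : m.F) * x) (((k⁻¹ : m.Fˣ) : m.F) * y) c :=
  m.e.injective (by rw [m.tor_e]; simp)

/-- An element is determined by its effect. -/
theorem ext_pt (faith : ∀ g : H, (∀ u : U, g • u = u) → g = 1) {g h : H}
    (hgh : ∀ x y c, g • m.pt x y c = h • m.pt x y c) : g = h := by
  refine mul_inv_eq_one.1 (faith _ fun u => ?_)
  obtain ⟨x, y, c, hu⟩ := m.exists_pt (h⁻¹ • u)
  rw [mul_smul, hu, hgh, ← hu, smul_inv_smul]

theorem ua_add (faith : ∀ g : H, (∀ u : U, g • u = u) → g = 1) (a b : m.F) :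
    m.ua (a + b) = m.ua a * m.ua b :=
  m.ext_pt faith fun x y c => by rw [mul_smul, ua_pt, ua_pt, ua_pt]; congr 1; ring

theorem ua_zero (faith : ∀ g : H, (∀ u : U, g • u = u) → g = 1) : m.ua 0 = 1 :=
  m.ext_pt faith fun x y c => by rw [ua_pt, one_smul, zero_mul, add_zero]

theorem ua_neg (faith : ∀ g : H, (∀ u : U, g • u = u) → g = 1) (a : m.F) : m.ua (-a) = (m.ua a)⁻¹ :=
  eq_inv_of_mul_eq_one_left (by rw [← m.ua_add faith, neg_add_cancel, m.ua_zero faith])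

theorem ua_injective : Function.Injective m.ua := fun a b h => by
  have h1 := congrArg (fun g : H => g • m.pt 0 1 0) h
  simpa [pt_inj] using h1

/-- The group of upper unipotent elements. -/
def A (m : Model U T M) (faith : ∀ g : H, (∀ u : U, g • u = u) → g = 1) : Subgroup H where
  carrier := Set.range m.ua
  one_mem' := ⟨0, m.ua_zero faith⟩
  mul_mem' := fun {a b} ⟨x, hx⟩ ⟨y, hy⟩ => ⟨x + y, by rw [m.ua_add faith, hx, hy]⟩
  inv_mem' := fun {a} ⟨x, hx⟩ => ⟨-x, by rw [m.ua_neg faith, hx]⟩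

theorem mem_A {faith : ∀ g : H, (∀ u : U, g • u = u) → g = 1} {g : H} :
    g ∈ m.A faith ↔ ∃ l, m.ua l = g := Iff.rfl

theorem card_A (faith : ∀ g : H, (∀ u : U, g • u = u) → g = 1) : Nat.card ↥(m.A faith) = Nat.card m.F :=
  (Nat.card_congr (Equiv.ofBijective (fun l => (⟨m.ua l, l, rfl⟩ : ↥(m.A faith)))
    ⟨fun a b h => m.ua_injective (congrArg Subtype.val h), fun ⟨g, l, hl⟩ => ⟨l, Subtype.ext hl⟩⟩)).symm

/-- The first axis. -/
def R (m : Model U T M) : AddSubgroup U where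
  carrier := {u | (m.e u).2.1 = 0 ∧ (m.e u).2.2 = 0}
  zero_mem' := by simp
  add_mem' := fun {a b} ha hb => by simp [ha.1, ha.2, hb.1, hb.2]
  neg_mem' := fun {a} ha => by simp [ha.1, ha.2]

/-- The fixed space of the upper unipotent elements. -/
def CA (m : Model U T M) : AddSubgroup U where
  carrier := {u | (m.e u).2.1 = 0}
  zero_mem' := by simp
  add_mem' := fun {a b} ha hb => by
    show (m.e (a + b)).2.1 = 0
    rw [map_add, Prod.snd_add, Prod.fst_add, ha, hb, add_zero]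
  neg_mem' := fun {a} ha => by
    show (m.e (-a)).2.1 = 0
    rw [map_neg, Prod.snd_neg, Prod.fst_neg, ha, neg_zero]

@[simp] theorem pt_mem_R {x y : m.F} {c : m.C} : m.pt x y c ∈ m.R ↔ y = 0 ∧ c = 0 := by
  show (m.e _).2.1 = 0 ∧ (m.e _).2.2 = 0 ↔ _
  rw [e_pt]

@[simp] theorem pt_mem_CA {x y : m.F} {c : m.C} : m.pt x y c ∈ m.CA ↔ y = 0 := by
  show (m.e _).2.1 = 0 ↔ _
  rw [e_pt]

theorem mem_R {u : U} : u ∈ m.R ↔ ∃ x, m.pt x 0 0 = u := by
  refine ⟨fun h => ?_, ?_⟩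
  · obtain ⟨x, y, c, rfl⟩ := m.exists_pt u
    obtain ⟨rfl, rfl⟩ := m.pt_mem_R.1 h
    exact ⟨x, rfl⟩
  · rintro ⟨x, rfl⟩
    simp

theorem R_le_CA : m.R ≤ m.CA := fun _ h => h.1

theorem R_ne_bot : m.R ≠ ⊥ := fun h => by
  have h1 : m.pt 1 0 0 ∈ (⊥ : AddSubgroup U) := h ▸ m.pt_mem_R.2 ⟨rfl, rfl⟩
  rw [AddSubgroup.mem_bot, ← m.pt_zero, pt_inj] at h1
  exact one_ne_zero h1.1

theorem CA_ne_top : m.CA ≠ ⊤ := fun h => by
  have h1 : m.pt 0 1 0 ∈ m.CA := h ▸ AddSubgroup.mem_top _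
  exact one_ne_zero (m.pt_mem_CA.1 h1)

theorem fixS_A (faith : ∀ g : H, (∀ u : U, g • u = u) → g = 1) : fixS U (m.A faith) = m.CA := by
  ext u
  obtain ⟨x, y, c, rfl⟩ := m.exists_pt u
  rw [pt_mem_CA, mem_fixS]
  refine ⟨fun h => ?_, ?_⟩
  · have := h _ ⟨1, rfl⟩
    rw [ua_pt, pt_inj] at this
    simpa using this.1
  · rintro rfl _ ⟨l, rfl⟩
    simp

theorem card_CA : Nat.card U = Nat.card m.F * Nat.card ↥m.CA := by
  rw [← Nat.card_congr (Equiv.ofBijective (fun a : m.F × m.C => (⟨m.pt a.1 0 a.2, by simp⟩ : ↥m.CA))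
    ⟨fun a b h => by
      have := congrArg Subtype.val h
      rw [pt_inj] at this
      exact Prod.ext this.1 this.2.2, fun ⟨u, hu⟩ => by
      obtain ⟨x, y, c, rfl⟩ := m.exists_pt u
      exact ⟨(x, c), Subtype.ext (by show m.pt x 0 c = m.pt x y c; rw [m.pt_mem_CA.1 hu])⟩⟩), Nat.card_congr m.e.toEquiv]
  simp only [Nat.card_prod]

/-- A subgroup stable under the upper unipotent elements is inside `CA` or contains `R`. -/
theorem R_le_or_le_CA (W : AddSubgroup U) (hW : ∀ l, ∀ u ∈ W, m.ua l • u ∈ W) : m.R ≤ W ∨ W ≤ m.CA := by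
  by_cases h : W ≤ m.CA
  · exact Or.inr h
  left
  obtain ⟨u, hu, hun⟩ := SetLike.not_le_iff_exists.1 h
  obtain ⟨x, y, c, rfl⟩ := m.exists_pt u
  have hy : y ≠ 0 := fun hy => hun (m.pt_mem_CA.2 hy)
  intro r hr
  obtain ⟨x', rfl⟩ := m.mem_R.1 hr
  have h2 := W.sub_mem (hW (x' / y) _ hu) hu
  rwa [ua_pt, pt_sub, add_sub_cancel_left, div_mul_cancel₀ _ hy, sub_self, sub_self] at h2

/-- The element `(x, y, c) ↦ (y, -x, c)`. -/
def w (m : Model U T M) : H := m.ua 1 * m.la (-1) * m.ua 1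

@[simp] theorem w_pt (x y : m.F) (c : m.C) : m.w • m.pt x y c = m.pt y (-x) c := by
  rw [w, mul_smul, mul_smul, ua_pt, la_pt, ua_pt, pt_inj]
  refine ⟨by ring, by ring, rfl⟩

@[simp] theorem w_inv_pt (x y : m.F) (c : m.C) : m.w⁻¹ • m.pt x y c = m.pt (-y) x c := by
  rw [inv_smul_eq_iff, w_pt, neg_neg]

/-- Transport by an element. -/
def conj (m : Model U T M) (g : H) (hua : ∀ l, g * m.ua l * g⁻¹ ∈ T) (hla : ∃ l, g * m.la l * g⁻¹ ∉ M) :
    Model U T M where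
  F := m.F
  C := m.C
  e := (DistribMulAction.toAddEquiv U g⁻¹).trans m.e
  ua l := g * m.ua l * g⁻¹
  la l := g * m.la l * g⁻¹
  tor k := g * m.tor k * g⁻¹
  ua_e l u := by
    show m.e (g⁻¹ • (g * m.ua l * g⁻¹) • u) = _
    rw [mul_smul, mul_smul, inv_smul_smul]
    exact m.ua_e l _
  la_e l u := by
    show m.e (g⁻¹ • (g * m.la l * g⁻¹) • u) = _
    rw [mul_smul, mul_smul, inv_smul_smul]
    exact m.la_e l _
  tor_e k u := by
    show m.e (g⁻¹ • (g * m.tor k * g⁻¹) • u) = _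
    rw [mul_smul, mul_smul, inv_smul_smul]
    exact m.tor_e k _
  ua_mem := hua
  la_notMem := hla

theorem conj_pt (g : H) (hua : ∀ l, g * m.ua l * g⁻¹ ∈ T) (hla : ∃ l, g * m.la l * g⁻¹ ∉ M) (x y : m.F)
    (c : m.C) : (m.conj g hua hla).pt x y c = g • m.pt x y c := by
  refine (m.conj g hua hla).e.injective ((e_pt _ _ _ _).trans ?_)
  show _ = m.e (g⁻¹ • g • m.pt x y c)
  rw [inv_smul_smul, e_pt]
  rfl

end Model

section
variable [Finite H] [Finite U] {p : ℕ} [hp : Fact p.Prime] {T : Sylow p H} {M T₁ : Subgroup H}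

open CfsgLib.CFun.OffenderPair (IsMinOff exists_isMinOff_le fixS_map)
open CfsgLib.QuadPair (upper lower)

theorem diag_val {F : Type*} [Field F] (k : Fˣ) :
    (CfsgLib.CFun.OffenderPair.diagU k : Matrix (Fin 2) (Fin 2) F) = !![(k : F), 0; 0, ((k⁻¹ : Fˣ) : F)] := rfl

/-- Coordinates exist. -/
theorem FF.exists_model (ff : FF U p T M T₁) : Nonempty (Model U (T : Subgroup H) M) := by
  classical
  obtain ⟨D, hDT, hDc, hDne, hDoff⟩ := ff.exists_off
  obtain ⟨A₀, hA₀D, hA₀⟩ := exists_isMinOff_le (T.2.to_le hDT) hDc hDne hDoff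
  obtain ⟨A, L, T₀, μ, hA, hμ, hAL, hLM, hT₀T, hd⟩ := ff.exists_offData {A | IsMinOff U p A}
    (fun A hA g => IsMinOff.conj hA g) (fun A hA => IsMinOff.pgroup hA) (fun A hA => IsMinOff.ne_bot hA)
    (fun A hA => IsMinOff.comm hA) (fun A hA => IsMinOff.off hA) (fun A hA => IsMinOff.strict hA)
    ⟨A₀, hA₀, hA₀D.trans hDT⟩
  replace hA : IsMinOff U p A := hA
  obtain ⟨F, iF, iFin, hcardF, -, ρ₀, ψ₀, hψs₀, hψ0₀, hψ₀⟩ := hd.natural
  set A' : Subgroup ↥L := A.subgroupOf L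
  obtain ⟨x, hx⟩ := hd.exists_notMem
  obtain ⟨-, hW, -, -⟩ := hd.surj_card hx
  obtain ⟨w, hw, hwz⟩ : ∃ w ∈ fixS U A', w ∉ fixS U (⊤ : Subgroup ↥L) := by
    by_contra! h
    have h1 : Nat.card ↥A' = 1 := by
      refine le_antisymm ?_ Nat.card_pos
      refine Nat.le_of_mul_le_mul_right (c := Nat.card ↥(fixS U (⊤ : Subgroup ↥L))) ?_ Nat.card_pos
      rw [one_mul, ← hW]
      exact AddSubgroup.card_le_of_le h
    refine hA.ne_bot (Subgroup.eq_bot_of_card_eq _ ?_)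
    rw [← h1]
    exact Nat.card_congr (Subgroup.subgroupOfEquivOfLe hAL).toEquiv.symm
  have hu0 : ψ₀ w ≠ 0 := fun h => hwz ((hψ0₀ w).1 h)
  obtain ⟨Q, hQ⟩ : ∃ Q : SL(2, F), (Q : Matrix (Fin 2) (Fin 2) F).mulVec ![1, 0] = ψ₀ w := by
    by_cases h0 : ψ₀ w 0 = 0
    · have h1 : ψ₀ w 1 ≠ 0 := fun h1 => hu0 (funext fun i => by fin_cases i <;> assumption)
      refine ⟨⟨!![ψ₀ w 0, -(ψ₀ w 1)⁻¹; ψ₀ w 1, 0], by simp [Matrix.det_fin_two_of, h1]⟩, ?_⟩
      ext i
      fin_cases i <;> simp [Matrix.mulVec, dotProduct, Fin.sum_univ_two]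
    · refine ⟨⟨!![ψ₀ w 0, 0; ψ₀ w 1, (ψ₀ w 0)⁻¹], by simp [Matrix.det_fin_two_of, h0]⟩, ?_⟩
      ext i
      fin_cases i <;> simp [Matrix.mulVec, dotProduct, Fin.sum_univ_two]
  have hQi : ∀ z : Fin 2 → F, ((Q⁻¹ : SL(2, F)) : Matrix (Fin 2) (Fin 2) F).mulVec
      ((Q : Matrix (Fin 2) (Fin 2) F).mulVec z) = z := fun z => by
    rw [Matrix.mulVec_mulVec, ← Matrix.SpecialLinearGroup.coe_mul, inv_mul_cancel,
      Matrix.SpecialLinearGroup.coe_one, Matrix.one_mulVec]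
  have hQr : ∀ z : Fin 2 → F, (Q : Matrix (Fin 2) (Fin 2) F).mulVec
      (((Q⁻¹ : SL(2, F)) : Matrix (Fin 2) (Fin 2) F).mulVec z) = z := fun z => by
    rw [Matrix.mulVec_mulVec, ← Matrix.SpecialLinearGroup.coe_mul, mul_inv_cancel,
      Matrix.SpecialLinearGroup.coe_one, Matrix.one_mulVec]
  let ψ : U →+ (Fin 2 → F) :=
    AddMonoidHom.mk' (fun u => ((Q⁻¹ : SL(2, F)) : Matrix (Fin 2) (Fin 2) F).mulVec (ψ₀ u))
      fun a b => by rw [map_add, Matrix.mulVec_add]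
  let ρ : ↥L ≃* SL(2, F) := ρ₀.trans (MulAut.conj Q⁻¹)
  have hψ : ∀ (h : ↥L) (u : U), ψ (h • u) = (ρ h : Matrix (Fin 2) (Fin 2) F).mulVec (ψ u) := fun h u => by
    show _ = ((Q⁻¹ * ρ₀ h * Q⁻¹⁻¹ : SL(2, F)) : Matrix (Fin 2) (Fin 2) F).mulVec _
    rw [inv_inv, Matrix.SpecialLinearGroup.coe_mul, Matrix.SpecialLinearGroup.coe_mul,
      ← Matrix.mulVec_mulVec, ← Matrix.mulVec_mulVec]
    show ((Q⁻¹ : SL(2, F)) : Matrix (Fin 2) (Fin 2) F).mulVec (ψ₀ (h • u)) = _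
    rw [hψ₀, show ψ u = ((Q⁻¹ : SL(2, F)) : Matrix (Fin 2) (Fin 2) F).mulVec (ψ₀ u) from rfl, hQr]
  have hψs : Function.Surjective ψ := fun z => by
    obtain ⟨u, hu⟩ := hψs₀ ((Q : Matrix (Fin 2) (Fin 2) F).mulVec z)
    exact ⟨u, by show Matrix.mulVec _ (ψ₀ u) = z; rw [hu, hQi]⟩
  have hψ0 : ∀ u, ψ u = 0 ↔ u ∈ fixS U (⊤ : Subgroup ↥L) := fun u => by
    rw [← hψ0₀ u]
    refine ⟨fun h => ?_, fun h => by show Matrix.mulVec _ (ψ₀ u) = 0; rw [h, Matrix.mulVec_zero]⟩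
    have h2 := hQr (ψ₀ u)
    rw [show ((Q⁻¹ : SL(2, F)) : Matrix (Fin 2) (Fin 2) F).mulVec (ψ₀ u) = 0 from h,
      Matrix.mulVec_zero] at h2
    exact h2.symm
  have hAup : ∀ a : ↥A', ∃ l : F, ρ a = upper l := by
    intro a
    have h1 : ψ w = ![1, 0] := by show Matrix.mulVec _ (ψ₀ w) = _; rw [← hQ, hQi]
    have h2 := hψ (a : ↥L) w
    rw [hw _ a.2, h1] at h2
    have h00 := congrFun h2 0
    have h10 := congrFun h2 1
    simp [Matrix.mulVec, dotProduct, Fin.sum_univ_two] at h00 h10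
    refine ⟨(ρ a : Matrix (Fin 2) (Fin 2) F) 0 1, CfsgLib.QuadPair.ext_two ?_ ?_ ?_ ?_⟩
    · simpa [CfsgLib.QuadPair.upper_val] using h00.symm
    · simp [CfsgLib.QuadPair.upper_val]
    · simpa [CfsgLib.QuadPair.upper_val] using h10.symm
    · have hdet := CfsgLib.QuadPair.det_eq (ρ a)
      rw [← h00, ← h10, mul_zero, sub_zero, one_mul] at hdet
      simpa [CfsgLib.QuadPair.upper_val] using hdet
  choose φ hφ using hAup
  have hupA : ∀ l : F, ρ.symm (upper l) ∈ A' := by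
    intro l
    have hbij : Function.Bijective φ := (Nat.bijective_iff_injective_and_card φ).2
      ⟨fun a b h => Subtype.ext (ρ.injective (by rw [hφ, hφ, h])),
        by rw [← hcardF, Nat.card_eq_fintype_card]⟩
    obtain ⟨a, ha⟩ := hbij.2 l
    rw [← ha, ← hφ, MulEquiv.symm_apply_apply]
    exact a.2
  -- the splitting
  set t : ↥L := ρ.symm (CfsgLib.CFun.OffenderPair.diagU (-1 : Fˣ)) with ht
  have htψ : ∀ u, ψ (t • u) = -ψ u := fun u => by
    rw [hψ, ht, MulEquiv.apply_symm_apply]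
    funext i
    fin_cases i <;> simp [diag_val, Matrix.mulVec, dotProduct, Fin.sum_univ_two]
  have htc : ∀ h : ↥L, h * t = t * h := fun h => ρ.injective (by
    rw [map_mul, map_mul, ht, MulEquiv.apply_symm_apply]
    refine CfsgLib.QuadPair.ext_two ?_ ?_ ?_ ?_ <;>
      simp [diag_val, Matrix.SpecialLinearGroup.coe_mul, Matrix.mul_apply, Fin.sum_univ_two])
  have hsum : ∀ u : U, u + t • u ∈ fixS U (⊤ : Subgroup ↥L) := fun u => by
    rw [← hψ0, map_add, htψ, add_neg_cancel]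
  obtain ⟨k, hk⟩ : ∃ k : ℕ, ∀ u : U, k • (u + u) = u := by
    obtain ⟨j, hj⟩ := hp.out.odd_of_ne_two ff.odd
    refine ⟨j + 1, fun u => ?_⟩
    rw [← two_nsmul, ← mul_nsmul', show (j + 1) * 2 = p + 1 by omega, add_nsmul, ff.expp, zero_add, one_nsmul]
  let z : U → ↥(fixS U (⊤ : Subgroup ↥L)) := fun u => ⟨k • (u + t • u), AddSubgroup.nsmul_mem _ (hsum u) k⟩
  have hz : ∀ (h : ↥L) (u : U), z (h • u) = z u := fun h u => Subtype.ext (by
    show k • (h • u + t • h • u) = k • (u + t • u)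
    congr 1
    rw [← mul_smul t h, ← htc, mul_smul, ← smul_add]
    exact hsum u h (Subgroup.mem_top _))
  have hzfix : ∀ u ∈ fixS U (⊤ : Subgroup ↥L), (z u : U) = u := fun u hu => by
    show k • (u + t • u) = u
    rw [hu t (Subgroup.mem_top _), hk]
  let Φ : U →+ F × F × ↥(fixS U (⊤ : Subgroup ↥L)) :=
    AddMonoidHom.mk' (fun u => (ψ u 0, ψ u 1, z u)) fun a b => by
      refine Prod.ext ?_ (Prod.ext ?_ (Subtype.ext ?_))
      · show ψ (a + b) 0 = ψ a 0 + ψ b 0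
        rw [map_add]; rfl
      · show ψ (a + b) 1 = ψ a 1 + ψ b 1
        rw [map_add]; rfl
      · show k • (a + b + t • (a + b)) = k • (a + t • a) + k • (b + t • b)
        rw [← nsmul_add, smul_add t, add_add_add_comm]
  have hΦi : Function.Injective Φ := (injective_iff_map_eq_zero _).2 fun u hu => by
    have h0 : ψ u = 0 := funext fun i => by
      fin_cases i
      · exact congrArg Prod.fst hu
      · exact congrArg (fun a => a.2.1) hu
    have h2 : (z u : U) = 0 := congrArg (fun a => ((a.2.2 : ↥(fixS U (⊤ : Subgroup ↥L))) : U)) hu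
    rw [← hzfix u ((hψ0 u).1 h0), h2]
  have hΦs : Function.Surjective Φ := by
    rintro ⟨a, b, c⟩
    obtain ⟨u, hu⟩ := hψs ![a, b]
    refine ⟨u - (z u : U) + (c : U), ?_⟩
    have h1 : ψ (u - (z u : U) + (c : U)) = ![a, b] := by
      rw [map_add, map_sub, (hψ0 _).2 (z u).2, (hψ0 _).2 c.2, sub_zero, add_zero, hu]
    refine Prod.ext ?_ (Prod.ext ?_ (Subtype.ext ?_))
    · show ψ _ 0 = a
      rw [h1]; rfl
    · show ψ _ 1 = b
      rw [h1]; rfl
    · show k • (u - (z u : U) + (c : U) + t • (u - (z u : U) + (c : U))) = (c : U)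
      rw [smul_add t, smul_sub t, (z u).2 t (Subgroup.mem_top _), c.2 t (Subgroup.mem_top _),
        show u - (z u : U) + (c : U) + (t • u - (z u : U) + (c : U)) =
          (u + t • u) - ((z u : U) + (z u : U)) + ((c : U) + (c : U)) by abel,
        nsmul_add, nsmul_sub, hk, hk, show k • (u + t • u) = (z u : U) from rfl, sub_self, zero_add]
  have hμi : ∀ (h : ↥L) (u : U), μ • (μ⁻¹ * (h : H) * μ) • u = h • μ • u := fun h u => by
    rw [mul_smul, mul_smul, smul_inv_smul]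
    rfl
  have hact : ∀ (h : ↥L) (u : U), Φ (μ • (μ⁻¹ * (h : H) * μ) • u) =
      (((ρ h : Matrix (Fin 2) (Fin 2) F).mulVec (ψ (μ • u))) 0,
        ((ρ h : Matrix (Fin 2) (Fin 2) F).mulVec (ψ (μ • u))) 1, z (μ • u)) := fun h u => by
    show (ψ _ 0, ψ _ 1, z _) = _
    rw [hμi, hψ, hz]
  refine ⟨{
    F := F
    C := ↥(fixS U (⊤ : Subgroup ↥L))
    e := (DistribMulAction.toAddEquiv U μ).trans (AddEquiv.ofBijective Φ ⟨hΦi, hΦs⟩)
    ua := fun l => μ⁻¹ * ((ρ.symm (upper l) : ↥L) : H) * μ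
    la := fun l => μ⁻¹ * ((ρ.symm (lower l) : ↥L) : H) * μ
    tor := fun c => μ⁻¹ * ((ρ.symm (CfsgLib.CFun.OffenderPair.diagU c) : ↥L) : H) * μ
    ua_e := fun l u => ?_
    la_e := fun l u => ?_
    tor_e := fun c u => ?_
    ua_mem := fun l => hT₀T _ (hd.aT (hupA l))
    la_notMem := ?_ }⟩
  · show Φ (μ • _) = ((ψ (μ • u) 0 + l * ψ (μ • u) 1, ψ (μ • u) 1, z (μ • u)) : F × F × _)
    rw [hact, MulEquiv.apply_symm_apply]
    simp [CfsgLib.QuadPair.upper_val, Matrix.mulVec, dotProduct, Fin.sum_univ_two]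
  · show Φ (μ • _) = ((ψ (μ • u) 0, ψ (μ • u) 1 + l * ψ (μ • u) 0, z (μ • u)) : F × F × _)
    rw [hact, MulEquiv.apply_symm_apply]
    simp [CfsgLib.QuadPair.lower_val, Matrix.mulVec, dotProduct, Fin.sum_univ_two, add_comm]
  · show Φ (μ • _) = (((c : F) * ψ (μ • u) 0, ((c⁻¹ : Fˣ) : F) * ψ (μ • u) 1, z (μ • u)) : F × F × _)
    rw [hact, MulEquiv.apply_symm_apply]
    simp [diag_val, Matrix.mulVec, dotProduct, Fin.sum_univ_two]
  · by_contra! h
    refine hLM ?_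
    let K : Subgroup SL(2, F) := (M.subgroupOf L).map ρ.toMonoidHom
    have hK : K = ⊤ := CfsgLib.QuadPair.eq_top_of_elementary K
      (fun l => ⟨ρ.symm (upper l), hd.aM (hupA l), ρ.apply_symm_apply _⟩)
      (fun l => ⟨ρ.symm (lower l), by
        show ((ρ.symm (lower l) : ↥L) : H) ∈ M
        simpa [mul_assoc] using M.mul_mem (M.mul_mem hμ (h l)) (M.inv_mem hμ),
        ρ.apply_symm_apply _⟩)
    intro g hg
    obtain ⟨g', hg', he⟩ := (hK.symm ▸ Subgroup.mem_top (ρ ⟨g, hg⟩) : ρ ⟨g, hg⟩ ∈ K)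
    have := ρ.injective he
    rw [this] at hg'
    exact hg'

end

end CfsgLib.FocalThree
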