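import Cfsg.Agent.Lib.CFun.FocalThree.Reduce
import Cfsg.Agent.Lib.CFun.FocalThree.Finish

/-!
# A minimal failure is in the pushing-up situation

A non-central chief factor inside the normal closure of the centre gives a module with offenders, so the
acting group is `SL₂`.
-/

set_option autoImplicit false
set_option linter.style.haveILetI false
set_option linter.unusedSectionVars false

open Subgroup
open scoped MatrixGroups
open CfsgLib.CFun
open CfsgLib.PushUp (MA cj)
open CfsgLib.Char.NatSL (fixS mem_fixS)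

namespace CfsgLib.FocalThree

universe u

variable {G : Type u} [Group G] [Finite G] {p : ℕ} [Fact p.Prime]

/-- An element of order prime to `p` centralizing every chief factor inside an abelian normal `p`-subgroup
centralizes it. -/
theorem centralizes_of_chief {V : Subgroup G} [hV : V.Normal] (hVp : IsPGroup p V)
    (hVc : ∀ a ∈ V, ∀ b ∈ V, a * b = b * a)
    (hch : ∀ U W : Subgroup G, Cfsg.IsChiefFactor U W → U ≤ V → ∀ g : G, ∀ u ∈ U, g * u * g⁻¹ * u⁻¹ ∈ W)
    {g : G} (hg : (orderOf g).Coprime p) : ∀ v ∈ V, g * v * g⁻¹ = v := by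
  classical
  by_contra! hne
  obtain ⟨v₀, hv₀, hv₀'⟩ := hne
  obtain ⟨N, ⟨hNn, hNV, hNg⟩, hmax⟩ := (Set.toFinite {N : Subgroup G | N.Normal ∧ N ≤ V ∧
    ∀ x ∈ N, g * x * g⁻¹ = x}).exists_maximal ⟨⊥, inferInstance, bot_le, fun x hx => by
      rw [mem_bot.1 hx]; group⟩
  haveI := hNn
  obtain ⟨U, hNU, hUV, hchief⟩ := exists_chief_over (lt_of_le_of_ne hNV fun e => hv₀' (hNg v₀ (e ▸ hv₀)))
  refine hNU.not_ge (hmax ⟨hchief.2.1, hUV, fun x hx => ?_⟩ hNU.le)
  obtain ⟨c, hc⟩ : ∃ c, c = g * x * g⁻¹ * x⁻¹ := ⟨_, rfl⟩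
  have hcN : c ∈ N := hc ▸ hch U N hchief hUV g x hx
  have hgc : g * c * g⁻¹ = c := hNg c hcN
  have hcx : Commute c x := hVc c (hNV hcN) x (hUV hx)
  have hgx : g * x * g⁻¹ = c * x := by rw [hc]; group
  have hk : ∀ k : ℕ, g ^ k * x * (g ^ k)⁻¹ = c ^ k * x := by
    intro k
    induction k with
    | zero => simp
    | succ k ih =>
      rw [pow_succ' g, show g * g ^ k * x * (g * g ^ k)⁻¹ = g * (g ^ k * x * (g ^ k)⁻¹) * g⁻¹ by group, ih,
        show g * (c ^ k * x) * g⁻¹ = (g * c * g⁻¹) ^ k * (g * x * g⁻¹) by rw [conj_pow]; group,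
        hgc, hgx, ← mul_assoc, ← pow_succ]
  have h1 : c ^ orderOf g = 1 := by
    have := hk (orderOf g)
    rw [pow_orderOf_eq_one, one_mul, inv_one, mul_one] at this
    exact (right_eq_mul.1 this)
  obtain ⟨j, hj⟩ := hVp ⟨c, hNV hcN⟩
  have hj' : c ^ p ^ j = 1 := congrArg Subtype.val hj
  have hc1 : c = 1 := orderOf_eq_one_iff.1 (Nat.eq_one_of_dvd_coprimes (Nat.Coprime.pow_right j hg)
    (orderOf_dvd_of_pow_eq_one h1) (orderOf_dvd_of_pow_eq_one hj'))
  rw [hgx, hc1, one_mul]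

/-- A group is generated by a Sylow `p`-subgroup and the elements of order prime to `p`. -/
theorem sup_coprime_eq_top (S : Sylow p G) :
    (S : Subgroup G) ⊔ closure {g : G | (orderOf g).Coprime p} = ⊤ := by
  classical
  haveI : (closure {g : G | (orderOf g).Coprime p}).Normal := ⟨fun x hx g => by
    have hle : closure {g : G | (orderOf g).Coprime p} ≤
        (closure {g : G | (orderOf g).Coprime p}).comap (MulAut.conj g).toMonoidHom := by
      rw [closure_le]
      intro y hy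
      refine subset_closure ?_
      show (orderOf ((MulAut.conj g) y)).Coprime p
      rw [MulEquiv.orderOf_eq]
      exact hy
    exact hle hx⟩
  set K := closure {g : G | (orderOf g).Coprime p}
  have hpQ : IsPGroup p (G ⧸ K) := fun q => by
    obtain ⟨g, rfl⟩ := QuotientGroup.mk'_surjective K q
    refine ⟨(orderOf g).factorization p, ?_⟩
    rw [← map_pow, QuotientGroup.mk'_apply, QuotientGroup.eq_one_iff]
    refine subset_closure ?_
    show (orderOf (g ^ p ^ (orderOf g).factorization p)).Coprime p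
    rw [orderOf_pow_of_dvd (pow_ne_zero _ (Fact.out : p.Prime).ne_zero) (Nat.ordProj_dvd _ _)]
    exact (Nat.coprime_ordCompl (Fact.out : p.Prime) (orderOf_pos g).ne').symm
  obtain ⟨j, hj⟩ := hpQ.exists_card_eq
  refine index_eq_one.1 (Nat.eq_one_of_dvd_coprimes (k := ((S : Subgroup G) ⊔ K).index)
    ((Nat.Coprime.pow_left j ((Fact.out : p.Prime).coprime_iff_not_dvd.2 S.not_dvd_index)) :
      (p ^ j).Coprime (S : Subgroup G).index) ?_ (index_dvd_of_le le_sup_left))
  rw [← hj, ← index_eq_card]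
  exact index_dvd_of_le le_sup_right

/-- A minimal failure is in the pushing-up situation. -/
theorem sit_of_minFail (hp : p ≠ 2) (h : MinFail (G := G) p (zkFam.{u} p)) (S : Sylow p G) :
    CfsgLib.PushUp.Sit p (S : Subgroup G) := by
  classical
  haveI hQn := CfsgLib.Coprime.pCore_normal' (G := G) p
  set S₀ : Subgroup G := (S : Subgroup G) with hS₀
  set Q := Cfsg.pCore p G with hQdef
  set M := bigM (zkFam.{u} p) S with hMdef
  have hQS : Q ≤ S₀ := h.pCore_le_sylow S
  have hSM : S₀ ≤ M := h.le_M S le_rfl (h.sylow_ne_top S)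
  have hMne : M ≠ ⊤ := h.M_ne_top S
  have hconstr := h.constrained
  set Z := S₀ ⊓ centralizer (S₀ : Set G) with hZ
  have hZC : Z ≤ centralizer (Q : Set G) := inf_le_right.trans (centralizer_le hQS)
  set V := normalClosure (Z : Set G) with hV
  haveI hVn : V.Normal := normalClosure_normal
  have hVC : V ≤ centralizer (Q : Set G) := normalClosure_le_normal hZC
  have hVQ : V ≤ Q := hVC.trans hconstr
  have hVc : ∀ a ∈ V, ∀ b ∈ V, a * b = b * a := fun a ha b hb =>
    mem_centralizer_iff.1 (hVC hb) a (hVQ ha)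
  have hVp : IsPGroup p V := (CfsgLib.Coprime.pCore_isPGroup (G := G) p).to_le hVQ
  -- a non-central chief factor
  obtain ⟨U, W, hchief, hUV, hnc⟩ : ∃ U W : Subgroup G, Cfsg.IsChiefFactor U W ∧ U ≤ V ∧
      ∃ g : G, ∃ u ∈ U, g * u * g⁻¹ * u⁻¹ ∉ W := by
    by_contra! hall
    refine center_not_normal h S (normal_of_centralized' ((sup_comm _ _).trans (sup_coprime_eq_top S)) ?_ inf_le_right)
    rw [le_centralizer_iff, closure_le]
    intro g hg
    refine mem_centralizer_iff.2 fun z hz => ?_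
    have := centralizes_of_chief hVp hVc (fun U W hc hU g u hu => hall U W hc hU g u hu) hg z
      (subset_normalClosure hz)
    calc z * g = g * z * g⁻¹ * g := by rw [this]
      _ = g * z := by group
  obtain ⟨hWU, hUn, hWn, hmin⟩ := hchief
  haveI := hUn
  haveI := hWn
  have hUQ : U ≤ Q := hUV.trans hVQ
  have hUc : ∀ a ∈ U, ∀ b ∈ U, a * b = b * a := fun a ha b hb => hVc a (hUV ha) b (hUV hb)
  letI : CommGroup ↥U :=
    { (inferInstance : Group ↥U) with mul_comm := fun a b => Subtype.ext (hUc _ a.2 _ b.2) }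
  set N := W.subgroupOf U with hN
  -- the action
  let act : G → MulAut (↥U ⧸ N) := fun g => QuotientGroup.congr N N (MulAut.conjNormal g) (by
    ext x
    show x ∈ N.map (MulAut.conjNormal g).toMonoidHom ↔ x ∈ N
    rw [mem_map_equiv, hN, mem_subgroupOf, mem_subgroupOf, MulAut.conjNormal_symm_apply]
    constructor
    · intro hx
      simpa [mul_assoc] using hWn.conj_mem _ hx g
    · intro hx
      simpa [mul_assoc] using hWn.conj_mem _ hx g⁻¹)
  have hact : ∀ (g : G) (x : ↥U), act g (QuotientGroup.mk x) = QuotientGroup.mk (MulAut.conjNormal g x) :=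
    fun g x => rfl
  let ρ : G →* MulAut (↥U ⧸ N) := MonoidHom.mk' act fun g g' => MulEquiv.ext fun q => by
    induction q using QuotientGroup.induction_on with
    | H x =>
      rw [MulAut.mul_apply, hact, hact, hact, map_mul]
      rfl
  set π : G →* ↥ρ.range := ρ.rangeRestrict with hπdef
  have hπ : Function.Surjective π := ρ.rangeRestrict_surjective
  haveI : Finite (MulAut (↥U ⧸ N)) :=
    Finite.of_injective (fun α : MulAut (↥U ⧸ N) => (α : _ → _)) fun _ _ h => MulEquiv.ext (congrFun h)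
  letI : DistribMulAction ↥ρ.range (Additive (↥U ⧸ N)) :=
    { smul := fun h a => Additive.ofMul ((h : MulAut (↥U ⧸ N)) (Additive.toMul a))
      one_smul := fun a => rfl
      mul_smul := fun g h a => rfl
      smul_zero := fun g => congrArg Additive.ofMul (map_one (g : MulAut (↥U ⧸ N)))
      smul_add := fun g a b => congrArg Additive.ofMul
        (map_mul (g : MulAut (↥U ⧸ N)) (Additive.toMul a) (Additive.toMul b)) }
  let cls : ↥U → Additive (↥U ⧸ N) := fun x => Additive.ofMul (QuotientGroup.mk x)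
  have hcls : ∀ a, ∃ x, cls x = a := fun a => by
    obtain ⟨x, hx⟩ := QuotientGroup.mk_surjective (Additive.toMul a)
    exact ⟨x, congrArg Additive.ofMul hx⟩
  have hfixπ : ∀ (g : G) (x : ↥U), π g • cls x = cls x ↔ g * (x : G) * g⁻¹ * (x : G)⁻¹ ∈ W := by
    intro g x
    show Additive.ofMul (act g (QuotientGroup.mk x)) = Additive.ofMul (QuotientGroup.mk x) ↔ _
    rw [hact, Additive.ofMul.injective.eq_iff, eq_comm, QuotientGroup.eq, hN, mem_subgroupOf,
      Subgroup.coe_mul, InvMemClass.coe_inv, MulAut.conjNormal_apply]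
    constructor
    · intro hx
      simpa [mul_assoc] using hWn.conj_mem _ hx (x : G)
    · intro hx
      simpa [mul_assoc] using hWn.conj_mem _ hx (x : G)⁻¹
  have hcls0 : ∀ x : ↥U, cls x = 0 ↔ (x : G) ∈ W := fun x => by
    show Additive.ofMul (QuotientGroup.mk x) = Additive.ofMul 1 ↔ _
    rw [Additive.ofMul.injective.eq_iff, QuotientGroup.eq_one_iff, hN, mem_subgroupOf]
  have hexpp : ∀ a : Additive (↥U ⧸ N), p • a = 0 := fun a => by
    obtain ⟨x, rfl⟩ := hcls a
    show Additive.ofMul ((QuotientGroup.mk x : ↥U ⧸ N) ^ p) = Additive.ofMul 1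
    rw [← QuotientGroup.mk_pow, Additive.ofMul.injective.eq_iff, QuotientGroup.eq_one_iff, hN, mem_subgroupOf]
    show (x : G) ^ p ∈ W
    exact pow_mem_of_chief (CfsgLib.Coprime.pCore_isPGroup (G := G) p) ⟨hWU, hUn, hWn, hmin⟩ hUQ x.2
  have hirred : ∀ X : AddSubgroup (Additive (↥U ⧸ N)), (∀ g : ↥ρ.range, ∀ x ∈ X, g • x ∈ X) →
      X = ⊥ ∨ X = ⊤ := by
    intro X hX
    let Y : Subgroup G :=
      { carrier := {y | ∃ hy : y ∈ U, cls ⟨y, hy⟩ ∈ X}
        one_mem' := ⟨U.one_mem, X.zero_mem⟩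
        mul_mem' := fun {a b} ⟨ha, hxa⟩ ⟨hb, hxb⟩ => ⟨U.mul_mem ha hb, X.add_mem hxa hxb⟩
        inv_mem' := fun {a} ⟨ha, hxa⟩ => ⟨U.inv_mem ha, X.neg_mem hxa⟩ }
    have hYn : Y.Normal := ⟨fun y ⟨hy, hxy⟩ g => ⟨hUn.conj_mem y hy g, by
      have := hX (π g) _ hxy
      have e : cls ⟨g * y * g⁻¹, hUn.conj_mem y hy g⟩ = π g • cls ⟨y, hy⟩ := by
        show _ = Additive.ofMul (act g (QuotientGroup.mk _))
        rw [hact]
        exact congrArg (fun z => Additive.ofMul (QuotientGroup.mk z)) (Subtype.ext (MulAut.conjNormal_apply g (⟨y, hy⟩ : ↥U)).symm)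
      rw [e]
      exact this⟩⟩
    have hWY : W ≤ Y := fun w hw => ⟨hWU.le hw, by rw [(hcls0 _).2 hw]; exact X.zero_mem⟩
    rcases hmin Y hYn hWY (fun y hy => hy.1) with h1 | h1
    · left
      rw [eq_bot_iff]
      intro a ha
      obtain ⟨x, rfl⟩ := hcls a
      rw [AddSubgroup.mem_bot, hcls0, ← h1]
      exact ⟨x.2, ha⟩
    · right
      rw [eq_top_iff]
      intro a _
      obtain ⟨x, rfl⟩ := hcls a
      obtain ⟨hx, hxX⟩ := (h1.symm ▸ x.2 : (x : G) ∈ Y)
      exact hxX
  have faith : ∀ g : ↥ρ.range, (∀ a : Additive (↥U ⧸ N), g • a = a) → g = 1 := fun g hg =>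
    Subtype.ext (MulEquiv.ext fun q => congrArg Additive.toMul (hg (Additive.ofMul q)))
  -- the kernel
  set C := π.ker with hC
  have hQC : Q ≤ C := fun q hq => faith _ fun a => by
    obtain ⟨x, rfl⟩ := hcls a
    rw [hfixπ, mem_centralizer_iff.1 (hVC (hUV x.2)) q hq]
    simp
  have hCne : C ≠ ⊤ := by
    obtain ⟨g, u, hu, hgu⟩ := hnc
    intro e
    refine hgu ((hfixπ g ⟨u, hu⟩).1 ?_)
    rw [show π g = 1 from (e.symm ▸ mem_top g : g ∈ C), one_smul]
  haveI hCn : C.Normal := MonoidHom.normal_ker π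
  set PH : Sylow p ↥ρ.range := S.mapSurjective hπ with hPH
  have hPHmap : (PH : Subgroup ↥ρ.range) = S₀.map π := rfl
  haveI : Finite (Additive (↥U ⧸ N)) := inferInstanceAs (Finite (↥U ⧸ N))
  have hU0 : Nontrivial (Additive (↥U ⧸ N)) := by
    obtain ⟨g, u, hu, hgu⟩ := hnc
    refine ⟨π g • cls ⟨u, hu⟩, cls ⟨u, hu⟩, fun e => hgu ((hfixπ g ⟨u, hu⟩).1 e)⟩
  have hcore : ∀ X : Subgroup ↥ρ.range, X.Normal → IsPGroup p X → X = ⊥ := by
    intro X hXn hX
    haveI := hXn
    obtain ⟨v, -, hv0, hv⟩ := exists_fix_mod hexpp hX ⊤ ⊥ (fun g _ x _ => AddSubgroup.mem_top _)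
      (fun g _ x hx => by simp [AddSubgroup.mem_bot.1 hx])
      (fun hle => by
        obtain ⟨a, b, hab⟩ := hU0
        exact hab ((AddSubgroup.mem_bot.1 (hle (AddSubgroup.mem_top a))).trans
          (AddSubgroup.mem_bot.1 (hle (AddSubgroup.mem_top b))).symm))
    rcases hirred (fixS (Additive (↥U ⧸ N)) X) (fun g a ha x hx => by
      have := ha (g⁻¹ * x * g) (by simpa using hXn.conj_mem x hx g⁻¹)
      rw [mul_smul, mul_smul, inv_smul_eq_iff] at this
      exact this) with h1 | h1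
    · exact absurd (h1 ▸ (fun x hx => sub_eq_zero.1 (AddSubgroup.mem_bot.1 (hv x hx)) :
        v ∈ fixS (Additive (↥U ⧸ N)) X)) hv0
    · exact (Subgroup.eq_bot_iff_forall X).2 fun x hx => faith x fun a =>
        (h1.symm ▸ AddSubgroup.mem_top a : a ∈ fixS (Additive (↥U ⧸ N)) X) x hx
  have hCS : C ⊔ S₀ ≠ ⊤ := by
    intro e
    refine hCne ?_
    have hmap : (PH : Subgroup ↥ρ.range) = ⊤ := by
      rw [hPHmap, eq_top_iff, ← Subgroup.map_top_of_surjective π hπ, ← e, Subgroup.map_sup,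
        show C.map π = ⊥ from (Subgroup.map_eq_bot_iff _).2 le_rfl, bot_sup_eq]
    have h1 := hcore ⊤ inferInstance (by rw [← hmap]; exact PH.2)
    refine eq_top_iff.2 fun g _ => ?_
    exact mem_bot.1 (h1 ▸ mem_top (π g) : π g ∈ (⊥ : Subgroup ↥ρ.range))
  have hCM : C ≤ M := le_sup_left.trans (h.le_M S le_sup_right hCS)
  have hSC : S₀ ⊓ C = Q := by
    refine le_antisymm ?_ (le_inf hQS hQC)
    set R := S₀ ⊓ C with hR
    have hSN : S₀ ≤ normalizer (R : Set G) := le_trans (le_inf le_normalizer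
      (le_top.trans (normalizer_eq_top_iff.2 hCn).ge)) inf_normalizer_le_normalizer_inf
    by_cases hRn : normalizer (R : Set G) = ⊤
    · haveI : R.Normal := normalizer_eq_top_iff.1 hRn
      exact CfsgLib.Coprime.le_pCore (S.2.to_le inf_le_left)
    obtain ⟨P, hP⟩ : ∃ P : Sylow p C, (P : Subgroup C).map C.subtype = R :=
      ⟨((S.2.to_le inf_le_left).of_equiv (subgroupOfEquivOfLe (inf_le_right : R ≤ C)).symm).toSylow
        (CfsgLib.Fusion.not_dvd_relIndex_inf_of_normal S C), map_subgroupOf_eq_of_le inf_le_right⟩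
    have hfr := Sylow.normalizer_sup_eq_top P
    rw [hP] at hfr
    exact absurd (top_le_iff.1 (hfr.ge.trans (sup_le (h.le_M S hSN hRn) hCM))) hMne
  -- the estimate for one abelian subgroup of largest order
  have hest : ∀ A, MA S₀ A → (∀ a ∈ A.map π, ∀ b ∈ A.map π, a * b = b * a) ∧ A.map π ≤ (PH : Subgroup ↥ρ.range) ∧
      Nat.card ↥U ≤ Nat.card ↥(A.map π) * Nat.card ↥(U ⊓ centralizer (A : Set G)) := by
    intro A hA
    haveI := hA.2.1
    refine ⟨?_, hPHmap ▸ map_mono hA.1, ?_⟩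
    · rintro _ ⟨a, ha, rfl⟩ _ ⟨b, hb, rfl⟩
      rw [← map_mul, ← map_mul, mem_centralizer_iff.1 (le_centralizer A hb) a ha]
    set E := U ⊓ centralizer (A : Set G) with hE
    have hUA : A ⊓ Q ⊓ U ≤ E := le_inf inf_le_right
      ((inf_le_left.trans inf_le_left).trans (le_centralizer A))
    have hAQU : A ⊓ Q ≤ centralizer (U : Set G) :=
      inf_le_right.trans (le_centralizer_iff.1 (hUV.trans hVC))
    have hab : IsMulCommutative ↥(A ⊓ Q ⊔ U) := CfsgLib.CDLat.isMulCommutative_sup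
      (le_centralizer_iff_isMulCommutative.1
        ((inf_le_left.trans (le_centralizer A)).trans (centralizer_le inf_le_left)))
      (le_centralizer_iff_isMulCommutative.1 fun x hx => mem_centralizer_iff.2 fun y hy => hUc y hy x hx) hAQU
    have hB := hA.2.2 _ (sup_le (inf_le_left.trans hA.1) (hUQ.trans hQS)) hab
    have h1 := CfsgLib.PushUp.card_sup_of_le_centralizer hAQU
    have hcA : Nat.card ↥(A.map π) * Nat.card ↥(A ⊓ C) = Nat.card ↥A := by
      rw [← relIndex_ker, ← relIndex_bot_left A, ← relIndex_bot_left (A ⊓ C), ← inf_relIndex_left A π.ker,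
        mul_comm]
      exact relIndex_mul_relIndex ⊥ (A ⊓ C) A bot_le inf_le_left
    have hAC : A ⊓ C = A ⊓ Q := by
      rw [← hSC, ← inf_assoc, inf_eq_left.2 hA.1]
    rw [hAC] at hcA
    have h2 : Nat.card ↥(A ⊓ Q ⊓ U) ≤ Nat.card ↥E := Nat.card_mono (Set.toFinite _) hUA
    refine (Nat.mul_le_mul_left_iff (Nat.card_pos (α := ↥(A ⊓ Q)))).1 ?_
    calc Nat.card ↥(A ⊓ Q) * Nat.card ↥U = Nat.card ↥(A ⊓ Q ⊔ U) * Nat.card ↥(A ⊓ Q ⊓ U) := h1.symm
      _ ≤ Nat.card ↥A * Nat.card ↥E := Nat.mul_le_mul hB h2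
      _ = _ := by rw [← hcA]; ring
  -- classes
  have hcard : ∀ (F : Subgroup G), F ≤ U → Nat.card ↥F ≤ Nat.card ↥N *
      Nat.card ↥((AddSubgroup.closure {a | ∃ x : ↥U, (x : G) ∈ F ∧ cls x = a})) := by
    intro F hF
    set I := AddSubgroup.closure {a | ∃ x : ↥U, (x : G) ∈ F ∧ cls x = a}
    let f : ↥F → ↥U ⧸ N := fun x => QuotientGroup.mk ⟨(x : G), hF x.2⟩
    let g : ↥F → ↥N × ↥I := fun x =>
      (⟨(Quotient.out (f x))⁻¹ * ⟨(x : G), hF x.2⟩, QuotientGroup.eq.1 (QuotientGroup.out_eq' (f x))⟩,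
        ⟨cls ⟨(x : G), hF x.2⟩, AddSubgroup.subset_closure ⟨⟨(x : G), hF x.2⟩, x.2, rfl⟩⟩)
    have hg : Function.Injective g := by
      intro x y hxy
      have h1 : f x = f y := congrArg (fun z : ↥N × ↥I => Additive.toMul ((z.2 : ↥I) : Additive (↥U ⧸ N))) hxy
      have h2 : (Quotient.out (f x))⁻¹ * (⟨(x : G), hF x.2⟩ : ↥U) =
          (Quotient.out (f y))⁻¹ * ⟨(y : G), hF y.2⟩ :=
        congrArg (fun z : ↥N × ↥I => ((z.1 : ↥N) : ↥U)) hxy
      rw [h1] at h2
      exact Subtype.ext (congrArg (fun z : ↥U => (z : G)) (mul_left_cancel h2))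
    rw [← Nat.card_prod]
    exact Nat.card_le_card_of_injective g hg
  have hUcard : Nat.card ↥U = Nat.card (Additive (↥U ⧸ N)) * Nat.card ↥N := by
    rw [Nat.card_congr Additive.toMul]
    exact Subgroup.card_eq_card_quotient_mul_card_subgroup N
  have hoffer : ∀ A, MA S₀ A → Nat.card (Additive (↥U ⧸ N)) ≤
      Nat.card ↥(A.map π) * Nat.card ↥(fixS (Additive (↥U ⧸ N)) (A.map π)) := by
    intro A hA
    refine Nat.le_of_mul_le_mul_right (c := Nat.card ↥N) ?_ Nat.card_pos
    rw [← hUcard]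
    refine (hest A hA).2.2.trans ((Nat.mul_le_mul_left _ (hcard _ inf_le_left)).trans ?_)
    rw [mul_comm (Nat.card ↥N), mul_assoc]
    refine Nat.mul_le_mul_left _ (Nat.mul_le_mul_right _ (AddSubgroup.card_le_of_le ?_))
    rw [AddSubgroup.closure_le]
    rintro _ ⟨x, hx, rfl⟩ _ ⟨a, ha, rfl⟩
    rw [hfixπ, mem_centralizer_iff.1 (mem_inf.1 hx).2 a ha]
    simp
  obtain ⟨A₀, hA₀, hA₀Q⟩ := exists_ma_not_le h S
  -- the hypotheses
  set T₁ := (jT S₀).map π with hT₁
  have ffb : FFBase (Additive (↥U ⧸ N)) p PH (M.map π) :=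
    { odd := hp
      expp := hexpp
      faith := faith
      irred := hirred
      moved := by
        obtain ⟨g, u, hu, hgu⟩ := hnc
        exact ⟨π g, cls ⟨u, hu⟩, fun e => hgu ((hfixπ g ⟨u, hu⟩).1 e)⟩
      tM := hPHmap ▸ map_mono hSM
      mne := fun e => hMne (by
        have := congrArg (Subgroup.comap π) e
        rwa [Subgroup.comap_map_eq, sup_eq_left.2 hCM, Subgroup.comap_top] at this)
      leM := fun K hK hKt => by
        rw [← Subgroup.map_comap_eq_self_of_surjective hπ K]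
        refine map_mono (h.le_M S (map_le_iff_le_comap.1 (hPHmap ▸ hK)) fun e => hKt ?_)
        rw [← Subgroup.map_comap_eq_self_of_surjective hπ K, e, Subgroup.map_top_of_surjective _ hπ]
      core := hcore
      exists_off := ⟨A₀.map π, (hest A₀ hA₀).2.1, (hest A₀ hA₀).1, fun e => hA₀Q (by
        have h1 : A₀ ≤ C := (Subgroup.map_eq_bot_iff A₀).1 e
        exact (le_inf hA₀.1 h1).trans hSC.le), hoffer A₀ hA₀⟩ }
  -- a vector fixed by the image of `A` comes from a vector fixed by `A`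
  have hlift : ∀ A, MA S₀ A → ∀ x : ↥U, cls x ∈ fixS (Additive (↥U ⧸ N)) (A.map π) →
      (x : G) ∈ centralizer (A : Set G) := by
    intro A hA x hx
    obtain ⟨hDc, hDT, hle⟩ := hest A hA
    let F : Subgroup G :=
      { carrier := {y | ∃ hy : y ∈ U, cls ⟨y, hy⟩ ∈ fixS (Additive (↥U ⧸ N)) (A.map π)}
        one_mem' := ⟨U.one_mem, (fixS (Additive (↥U ⧸ N)) (A.map π)).zero_mem⟩
        mul_mem' := fun {a b} ⟨ha, hxa⟩ ⟨hb, hxb⟩ => ⟨U.mul_mem ha hb,
          (fixS (Additive (↥U ⧸ N)) (A.map π)).add_mem hxa hxb⟩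
        inv_mem' := fun {a} ⟨ha, hxa⟩ => ⟨U.inv_mem ha, (fixS (Additive (↥U ⧸ N)) (A.map π)).neg_mem hxa⟩ }
    set E := U ⊓ centralizer (A : Set G) with hE
    have hEF : E ≤ F := by
      intro y hy
      refine ⟨hy.1, ?_⟩
      rintro _ ⟨a, ha, rfl⟩
      rw [hfixπ, mem_centralizer_iff.1 hy.2 a ha]
      simp
    have hFcard : Nat.card ↥N * Nat.card ↥(fixS (Additive (↥U ⧸ N)) (A.map π)) ≤ Nat.card ↥F := by
      choose s hs using hcls
      let g : ↥N × ↥(fixS (Additive (↥U ⧸ N)) (A.map π)) → ↥F := fun z =>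
        ⟨(s z.2 : G) * ((z.1 : ↥U) : G), U.mul_mem (s z.2).2 (z.1 : ↥U).2, by
          have : cls ⟨(s z.2 : G) * ((z.1 : ↥U) : G), U.mul_mem (s z.2).2 (z.1 : ↥U).2⟩ =
              cls (s z.2) + cls (z.1 : ↥U) := rfl
          rw [this, hs, (hcls0 _).2 (mem_subgroupOf.1 z.1.2), add_zero]
          exact z.2.2⟩
      have hg : Function.Injective g := by
        rintro ⟨n, a⟩ ⟨n', a'⟩ hz
        have h1 : (s a : G) * ((n : ↥U) : G) = (s a' : G) * ((n' : ↥U) : G) := congrArg Subtype.val hz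
        have h2 : cls (s a * (n : ↥U)) = cls (s a' * (n' : ↥U)) := congrArg cls (Subtype.ext h1)
        have h3 : cls (s a) + cls (n : ↥U) = cls (s a') + cls (n' : ↥U) := h2
        rw [hs, hs, (hcls0 _).2 (mem_subgroupOf.1 n.2), (hcls0 _).2 (mem_subgroupOf.1 n'.2), add_zero,
          add_zero] at h3
        obtain rfl : a = a' := Subtype.ext h3
        exact Prod.ext (Subtype.ext (Subtype.ext (mul_left_cancel h1))) rfl
      rw [← Nat.card_prod]
      exact Nat.card_le_card_of_injective g hg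
    have hno := ffb.no_over ((PH.2.to_le hDT)) hDc
    have heq : E = F := eq_of_le_of_card_ge hEF (by
      refine (Nat.mul_le_mul_left_iff (Nat.card_pos (α := ↥(A.map π)))).1 (le_trans ?_ hle)
      have hFU : Nat.card ↥F ≤ Nat.card ↥N * Nat.card ↥(fixS (Additive (↥U ⧸ N)) (A.map π)) := by
        refine (hcard F fun y hy => hy.1).trans (Nat.mul_le_mul_left _ (AddSubgroup.card_le_of_le ?_))
        rw [AddSubgroup.closure_le]
        rintro _ ⟨y, ⟨hy', hy⟩, rfl⟩
        exact hy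
      calc Nat.card ↥(A.map π) * Nat.card ↥F
          ≤ Nat.card ↥(A.map π) * (Nat.card ↥N * Nat.card ↥(fixS (Additive (↥U ⧸ N)) (A.map π))) :=
            Nat.mul_le_mul_left _ hFU
        _ = Nat.card ↥N * (Nat.card ↥(A.map π) * Nat.card ↥(fixS (Additive (↥U ⧸ N)) (A.map π))) := by ring
        _ ≤ Nat.card ↥N * Nat.card (Additive (↥U ⧸ N)) := Nat.mul_le_mul_left _ hno
        _ = _ := by rw [hUcard, mul_comm])
    exact (heq.symm.le (⟨x.2, hx⟩ : (x : G) ∈ F)).2
  have ff : FF (Additive (↥U ⧸ N)) p PH (M.map π) T₁ :=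
    { ffb with
      t1T := hPHmap ▸ map_mono inf_le_left
      t1n := hPHmap ▸ (map_mono (le_normalizer_jT S₀)).trans (le_normalizer_map π)
      closure := fun K hK hle => by
        have := closure_jT h S (K.comap π) (hK.comap π) (map_le_iff_le_comap.1 hle)
        rw [← Subgroup.map_comap_eq_self_of_surjective hπ K, this, Subgroup.map_top_of_surjective _ hπ]
      hfix := fun w hw => by
        obtain ⟨x, rfl⟩ := hcls w
        have hall : ∀ A, MA S₀ A → (x : G) ∈ A := fun A hA => hA.centralizer_le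
          ⟨hQS (hUQ x.2), hlift A hA x (hw _ (hest A hA).2.1 (hest A hA).1 (hoffer A hA))⟩
        have hxW : (x : G) ∈ Cfsg.centerThompsonAOf S₀ := by
          refine mem_inf.2 ⟨CfsgLib.PushUp.le_J hA₀ (hall A₀ hA₀), ?_⟩
          have : Cfsg.thompsonSubgroupAOf S₀ ≤ centralizer ({(x : G)} : Set G) :=
            CfsgLib.PushUp.J_le fun A hA a ha => by
              haveI := hA.2.1
              exact mem_centralizer_singleton_iff.2
                ((mem_centralizer_iff.1 (le_centralizer A (hall A hA)) a ha))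
          exact mem_centralizer_iff.2 fun y hy => mem_centralizer_singleton_iff.1 (this hy)
        rintro _ ⟨a, ha, rfl⟩
        rw [hfixπ, ← mem_centralizer_iff.1 (mem_inf.1 ha).2 _ hxW]
        simp }
  obtain ⟨F, iF, iFin, ⟨e⟩, n, hn⟩ := ff.sl_two
  let q : G →* Matrix.ProjectiveSpecialLinearGroup (Fin 2) F :=
    (QuotientGroup.mk' (center (Matrix.SpecialLinearGroup (Fin 2) F))).comp (e.toMonoidHom.comp π)
  have hq : Function.Surjective q :=
    (QuotientGroup.mk'_surjective _).comp (e.surjective.comp hπ)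
  refine ⟨⟨S, rfl⟩, hconstr, ⟨M, ⟨⟨hMne, fun K hK => ?_⟩, hSM⟩, fun K hK => ?_⟩,
    q.ker, MonoidHom.normal_ker q, F, iF, iFin, n, hn,
    ⟨QuotientGroup.quotientKerEquivOfSurjective q hq⟩⟩
  · by_contra hKt
    exact hK.not_ge (h.le_M S (hSM.trans hK.le) hKt)
  · rcases (h.le_M S hK.2 hK.1.1).eq_or_lt with e1 | e1
    · exact e1
    · exact absurd (hK.1.2 _ e1) hMne

end CfsgLib.FocalThree
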