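import Cfsg.Agent.Lib.CFun.FocalThree.Model

/-!
# The `p`-group of transvections over an invariant subspace between the axis and the fixed space is pure
-/

set_option autoImplicit false
set_option linter.unusedSectionVars false
set_option linter.style.haveILetI false

open CfsgLib.Char.NatSL (fixS mem_fixS fixS_mono)

namespace CfsgLib.FocalThree

universe u v

variable {H : Type u} [Group H] [Finite H] {U : Type v} [AddCommGroup U] [Finite U] [DistribMulAction H U]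
  {p : ℕ} [hp : Fact p.Prime] {T : Sylow p H} {M T₁ : Subgroup H}

/-- The elements fixing `Y` and moving everything into `Y`. -/
def fixMod (Y : AddSubgroup U) : Subgroup H where
  carrier := {g | (∀ u ∈ Y, g • u = u) ∧ ∀ u : U, g • u - u ∈ Y}
  one_mem' := ⟨fun u _ => one_smul H u, fun u => by simp⟩
  mul_mem' := fun {a b} ha hb => ⟨fun u hu => by rw [mul_smul, hb.1 u hu, ha.1 u hu], fun u => by
    rw [mul_smul, show a • b • u - u = (a • (b • u) - b • u) + (b • u - u) by abel]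
    exact Y.add_mem (ha.2 _) (hb.2 u)⟩
  inv_mem' := fun {a} ha => ⟨fun u hu => inv_smul_eq_iff.2 (ha.1 u hu).symm, fun u => by
    have h := Y.neg_mem (ha.2 (a⁻¹ • u))
    rwa [smul_inv_smul, neg_sub] at h⟩

theorem mem_fixMod {Y : AddSubgroup U} {g : H} :
    g ∈ fixMod Y ↔ (∀ u ∈ Y, g • u = u) ∧ ∀ u : U, g • u - u ∈ Y := Iff.rfl

theorem fixMod_sub_mul {Y : AddSubgroup U} {a b : H} (ha : a ∈ fixMod Y) (hb : b ∈ fixMod Y) (u : U) :
    (a * b) • u - u = (a • u - u) + (b • u - u) := by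
  rw [mul_smul]
  have h := ha.1 _ (hb.2 u)
  rw [smul_sub] at h
  linear_combination (norm := abel) h

theorem fixMod_comm (faith : ∀ g : H, (∀ u : U, g • u = u) → g = 1) {Y : AddSubgroup U} {a b : H}
    (ha : a ∈ fixMod Y) (hb : b ∈ fixMod Y) : a * b = b * a := by
  refine mul_inv_eq_one.1 (faith _ fun u => ?_)
  have h1 := fixMod_sub_mul ha hb ((b * a)⁻¹ • u)
  have h2 := fixMod_sub_mul hb ha ((b * a)⁻¹ • u)
  rw [add_comm, ← h1, sub_left_inj, smul_inv_smul] at h2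
  rw [mul_smul, ← h2]

theorem fixMod_pgroup (ff : FF U p T M T₁) (Y : AddSubgroup U) : IsPGroup p (fixMod (H := H) Y) := by
  rintro ⟨a, ha⟩
  refine ⟨1, Subtype.ext (ff.faith _ fun u => ?_)⟩
  have hk : ∀ k : ℕ, a ^ k • u - u = k • (a • u - u) := by
    intro k
    induction k with
    | zero => simp
    | succ k ih => rw [pow_succ, fixMod_sub_mul ((fixMod Y).pow_mem ha k) ha, ih, succ_nsmul]
  show a ^ (p ^ 1) • u = u
  rw [← sub_eq_zero, pow_one, hk, ff.expp]

theorem fixMod_conj {Y : AddSubgroup U} {g a : H} (hg : g ∈ stab Y) (ha : a ∈ fixMod Y) :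
    g * a * g⁻¹ ∈ fixMod Y := by
  refine ⟨fun u hu => ?_, fun u => ?_⟩
  · rw [mul_smul, mul_smul, ha.1 _ ((stab Y).inv_mem hg u hu), smul_inv_smul]
  · rw [mul_smul, mul_smul, show g • a • g⁻¹ • u - u = g • (a • g⁻¹ • u - g⁻¹ • u) by
      rw [smul_sub, smul_inv_smul]]
    exact hg _ (ha.2 _)

/-- A `p`-subgroup normalized by `T` lies in `T`. -/
theorem le_T_of_normalized {P : Subgroup H} (hP : IsPGroup p P)
    (h : (T : Subgroup H) ≤ Subgroup.normalizer (P : Set H)) : P ≤ (T : Subgroup H) := by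
  have h1 := IsPGroup.to_sup_of_normal_right' T.2 hP h
  rw [← T.3 h1 le_sup_left]
  exact le_sup_right

theorem FF.two_nsmul_eq_zero (ff : FF U p T M T₁) {u : U} (h : u + u = 0) : u = 0 := by
  obtain ⟨j, hj⟩ := hp.out.odd_of_ne_two ff.odd
  have h2 := ff.expp u
  rwa [hj, add_nsmul, one_nsmul, mul_nsmul, two_nsmul, h, smul_zero, zero_add] at h2

namespace Model

variable (m : Model U (T : Subgroup H) M)

theorem two_ne_zero (ff : FF U p T M T₁) (m : Model U (T : Subgroup H) M) : (2 : m.F) ≠ 0 := fun h => by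
  have h1 : m.pt 1 0 0 + m.pt 1 0 0 = 0 := by
    rw [pt_add, one_add_one_eq_two, h, add_zero, add_zero, pt_zero]
  have h2 := ff.two_nsmul_eq_zero h1
  rw [← m.pt_zero, pt_inj] at h2
  exact one_ne_zero h2.1

theorem two_C (ff : FF U p T M T₁) (m : Model U (T : Subgroup H) M) {c : m.C} (h : c + c = 0) : c = 0 := by
  have h2 := ff.two_nsmul_eq_zero (u := m.pt 0 0 c) (by rw [pt_add, add_zero, h, pt_zero])
  rw [← m.pt_zero, pt_inj] at h2
  exact h2.2.2

/-- Everything is generated by `T` and the lower unipotent elements. -/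
theorem eq_top (ff : FF U p T M T₁) {K : Subgroup H} (hT : (T : Subgroup H) ≤ K) (hla : ∀ l, m.la l ∈ K) :
    K = ⊤ := by
  by_contra h
  obtain ⟨l, hl⟩ := m.la_notMem
  exact hl (ff.leM K hT h (hla l))

/-- A vector fixed by `T` lies in the fixed space and is zero if its first coordinate is. -/
theorem fix_T (ff : FF U p T M T₁) {x y : m.F} {c : m.C} (h : m.pt x y c ∈ fixS U (T : Subgroup H)) :
    y = 0 ∧ (x = 0 → c = 0) := by
  have hy : y = 0 := by
    have := h _ (m.ua_mem 1)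
    rw [ua_pt, pt_inj] at this
    simpa using this.1
  refine ⟨hy, fun hx => ?_⟩
  subst hx hy
  have hK := m.eq_top ff (K := MulAction.stabilizer H (m.pt 0 0 c)) (fun t ht => h t ht)
    (fun l => by rw [MulAction.mem_stabilizer_iff, la_pt, mul_zero, add_zero])
  have h2 := ff.fix_top (w := m.pt 0 0 c) fun g =>
    MulAction.mem_stabilizer_iff.1 (hK.symm ▸ Subgroup.mem_top g)
  rw [← m.pt_zero, pt_inj] at h2
  exact h2.2.2

/-- The second axis is not spanned by what a `p`-subgroup of `M` moves. -/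
theorem test_moves (ff : FF U p T M T₁) {P : Subgroup H} (hP : IsPGroup p P) (hPM : P ≤ M)
    (h : ∀ y : m.F, m.pt 0 y 0 ∈ moves U P) : False := by
  obtain ⟨l, hl⟩ := m.la_notMem
  refine hl (ff.mem_M_of_moves hP hPM fun u => ?_)
  obtain ⟨x, y, c, rfl⟩ := m.exists_pt u
  rw [la_pt, pt_sub, sub_self, sub_self, add_sub_cancel_left]
  exact h _

/-- Not every vector fixed by a `p`-subgroup of `M` has first coordinate zero. -/
theorem test_fix (ff : FF U p T M T₁) {P : Subgroup H} (hP : IsPGroup p P) (hPM : P ≤ M)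
    (h : ∀ x y c, m.pt x y c ∈ fixS U P → x = 0) : False := by
  obtain ⟨l, hl⟩ := m.la_notMem
  refine hl (ff.mem_M_of_fix hP hPM fun u hu => ?_)
  obtain ⟨x, y, c, rfl⟩ := m.exists_pt u
  rw [la_pt, h x y c hu, mul_zero, add_zero]

/-- A subspace invariant under `T` between the axis and the fixed space. -/
structure YData (m : Model U (T : Subgroup H) M) (Y : AddSubgroup U) : Prop where
  inv : (T : Subgroup H) ≤ stab Y
  ge : m.R ≤ Y
  le : Y ≤ m.CA

theorem exists_ydata (ff : FF U p T M T₁) : ∃ Y, m.YData Y := by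
  obtain ⟨X, hXmem, hXmax⟩ := (Set.toFinite {X : AddSubgroup U | (T : Subgroup H) ≤ stab X ∧ ¬ m.R ≤ X}).exists_maximal
    ⟨⊥, fun g _ x hx => by simp [AddSubgroup.mem_bot.1 hx], fun h => m.R_ne_bot (le_bot_iff.1 h)⟩
  obtain ⟨hX, hRX⟩ := hXmem
  obtain ⟨v, -, hvX, hv⟩ := exists_fix_mod ff.expp T.2 ⊤ X (fun g _ x _ => AddSubgroup.mem_top _) hX
    (fun h => hRX (le_top.trans h))
  let Y : AddSubgroup U :=
    { carrier := {w | ∀ g ∈ (T : Subgroup H), g • w - w ∈ X}
      zero_mem' := fun g _ => by simp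
      add_mem' := fun {a b} ha hb g hg => by
        rw [smul_add, add_sub_add_comm]; exact X.add_mem (ha g hg) (hb g hg)
      neg_mem' := fun {a} ha g hg => by
        rw [smul_neg, show -(g • a) - -a = -(g • a - a) by abel]; exact X.neg_mem (ha g hg) }
  have hXY : X ≤ Y := fun w hw g hg => X.sub_mem (hX hg w hw) hw
  have hYT : (T : Subgroup H) ≤ stab Y := fun g hg w hw => by
    have := Y.add_mem (hXY (hw g hg)) hw
    rwa [sub_add_cancel] at this
  have hRY : m.R ≤ Y := by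
    by_contra h
    exact hvX (hXmax ⟨hYT, h⟩ hXY hv)
  refine ⟨X ⊔ m.R, fun g hg w hw => ?_, le_sup_right, sup_le ?_ m.R_le_CA⟩
  · obtain ⟨a, ha, r, hr, rfl⟩ := AddSubgroup.mem_sup.1 hw
    rw [smul_add, show g • a + g • r = (g • a + (g • r - r)) + r by abel]
    exact AddSubgroup.mem_sup.2 ⟨_, X.add_mem (hX hg a ha) (hRY hr g hg), r, hr, rfl⟩
  · exact (m.R_le_or_le_CA X fun l u hu => hX (m.ua_mem l) u hu).resolve_left hRX

variable {Y : AddSubgroup U}

namespace YData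

variable {m}

theorem mem_iff (hY : m.YData Y) {x y : m.F} {c : m.C} : m.pt x y c ∈ Y ↔ y = 0 ∧ m.pt 0 0 c ∈ Y := by
  have hR : m.pt x 0 0 ∈ Y := hY.ge (by simp)
  refine ⟨fun h => ?_, fun ⟨hy, h⟩ => ?_⟩
  · obtain rfl := m.pt_mem_CA.1 (hY.le h)
    have h2 := Y.sub_mem h hR
    rw [pt_sub, sub_self, sub_self, sub_zero] at h2
    exact ⟨rfl, h2⟩
  · subst hy
    have h2 := Y.add_mem hR h
    rwa [pt_add, add_zero, add_zero, zero_add] at h2

theorem stab_le (hY : m.YData Y) (ff : FF U p T M T₁) : stab Y ≤ M :=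
  ff.le_M_of_stab hY.inv (fun h => m.R_ne_bot (le_bot_iff.1 (h ▸ hY.ge)))
    (fun h => m.CA_ne_top (top_le_iff.1 (h ▸ hY.le)))

theorem tor_mem (hY : m.YData Y) (k : m.Fˣ) : m.tor k ∈ stab Y := fun u hu => by
  obtain ⟨x, y, c, rfl⟩ := m.exists_pt u
  obtain ⟨rfl, hc⟩ := hY.mem_iff.1 hu
  rw [tor_pt, mul_zero]
  exact hY.mem_iff.2 ⟨rfl, hc⟩

theorem fixMod_le (hY : m.YData Y) (ff : FF U p T M T₁) : fixMod (H := H) Y ≤ (T : Subgroup H) := by
  refine le_T_of_normalized (fixMod_pgroup ff Y) fun t ht => Subgroup.mem_normalizer_iff.2 fun a => ?_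
  refine ⟨fun ha => fixMod_conj (hY.inv ht) ha, fun ha => ?_⟩
  have := fixMod_conj ((stab Y).inv_mem (hY.inv ht)) ha
  simpa [mul_assoc] using this

theorem ua_fixMod (hY : m.YData Y) (l : m.F) : m.ua l ∈ fixMod Y := by
  refine ⟨fun u hu => ?_, fun u => ?_⟩
  · obtain ⟨x, y, c, rfl⟩ := m.exists_pt u
    obtain ⟨rfl, -⟩ := hY.mem_iff.1 hu
    simp
  · obtain ⟨x, y, c, rfl⟩ := m.exists_pt u
    rw [ua_pt, pt_sub, add_sub_cancel_left, sub_self, sub_self]
    exact hY.ge (by simp)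

theorem exists_shape (hY : m.YData Y) {g : H} (hg : g ∈ fixMod Y) :
    ∃ (γ : m.F →+ m.F) (φ : m.C →+ m.F) (α : m.F →+ m.C) (δ : m.C →+ m.C),
      ∀ x y c, g • m.pt x y c = m.pt (x + γ y + φ c) y (c + (α y + δ c)) := by
  let D : U →+ m.F × m.F × m.C := AddMonoidHom.mk' (fun u => m.e (g • u - u)) fun a b => by
    rw [← map_add, smul_add, add_sub_add_comm]
  let i₂ : m.F →+ U := AddMonoidHom.mk' (fun y => m.pt 0 y 0) fun a b => by rw [pt_add, add_zero, add_zero]
  let i₃ : m.C →+ U := AddMonoidHom.mk' (fun c => m.pt 0 0 c) fun a b => by rw [pt_add, add_zero]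
  refine ⟨(AddMonoidHom.fst _ _).comp (D.comp i₂), (AddMonoidHom.fst _ _).comp (D.comp i₃),
    ((AddMonoidHom.snd _ _).comp (AddMonoidHom.snd _ _)).comp (D.comp i₂),
    ((AddMonoidHom.snd _ _).comp (AddMonoidHom.snd _ _)).comp (D.comp i₃), fun x y c => ?_⟩
  have h0 : ∀ u, (D u).2.1 = 0 := fun u => hY.le (hg.2 u)
  have hx : D (m.pt x 0 0) = 0 := by
    show m.e (g • _ - _) = 0
    rw [hg.1 _ (hY.ge (by simp)), sub_self, map_zero]
  have hD : D (m.pt x y c) = D (m.pt 0 y 0) + D (m.pt 0 0 c) := by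
    rw [← map_add, ← zero_add (D (m.pt 0 y 0 + m.pt 0 0 c)), ← hx, ← map_add]
    simp [pt_add]
  refine m.e.injective ?_
  have h1 : m.e (g • m.pt x y c) = (x, y, c) + D (m.pt x y c) := by
    show _ = _ + m.e (g • _ - _)
    rw [map_sub, e_pt]
    abel
  rw [h1, hD, e_pt]
  show _ = (x + (D (m.pt 0 y 0)).1 + (D (m.pt 0 0 c)).1, y, c + ((D (m.pt 0 y 0)).2.2 + (D (m.pt 0 0 c)).2.2))
  refine Prod.ext (by simp [add_assoc]) (Prod.ext ?_ (by simp))
  show y + ((D _).2.1 + (D _).2.1) = y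
  rw [h0, h0, add_zero, add_zero]

/-- A transvection group element with neither `γ` nor `δ` part is trivial. -/
theorem odd_eq_one (hY : m.YData Y) (ff : FF U p T M T₁) {g : H} (hg : g ∈ fixMod Y) (φ : m.C → m.F)
    (α : m.F → m.C) (hgs : ∀ x y c, g • m.pt x y c = m.pt (x + φ c) y (c + α y)) : g = 1 := by
  classical
  let P₀ : Subgroup H :=
    { carrier := {a | a ∈ fixMod Y ∧ (∀ y, (m.e (a • m.pt 0 y 0 - m.pt 0 y 0)).1 = 0) ∧
        ∀ c, (m.e (a • m.pt 0 0 c - m.pt 0 0 c)).2.2 = 0}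
      one_mem' := ⟨(fixMod Y).one_mem, fun y => by simp, fun c => by simp⟩
      mul_mem' := fun {a b} ha hb => ⟨(fixMod Y).mul_mem ha.1 hb.1, fun y => by
          rw [fixMod_sub_mul ha.1 hb.1, map_add, Prod.fst_add, ha.2.1, hb.2.1, add_zero], fun c => by
          rw [fixMod_sub_mul ha.1 hb.1, map_add, Prod.snd_add, Prod.snd_add, ha.2.2, hb.2.2, add_zero]⟩
      inv_mem' := fun {a} ha => ⟨(fixMod Y).inv_mem ha.1, fun y => by
          have h := fixMod_sub_mul ha.1 ((fixMod Y).inv_mem ha.1) (m.pt 0 y 0)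
          rw [mul_inv_cancel, one_smul, sub_self] at h
          have h2 := congrArg (fun u => (m.e u).1) h
          simp only [map_add, map_zero, Prod.fst_add, Prod.fst_zero, ha.2.1, zero_add] at h2
          exact h2.symm, fun c => by
          have h := fixMod_sub_mul ha.1 ((fixMod Y).inv_mem ha.1) (m.pt 0 0 c)
          rw [mul_inv_cancel, one_smul, sub_self] at h
          have h2 := congrArg (fun u => (m.e u).2.2) h
          simp only [map_add, map_zero, Prod.snd_add, Prod.snd_zero, ha.2.2, zero_add] at h2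
          exact h2.symm⟩ }
  have hshape : ∀ a ∈ P₀, ∃ (φ : m.C →+ m.F) (α : m.F →+ m.C),
      ∀ x y c, a • m.pt x y c = m.pt (x + φ c) y (c + α y) := by
    intro a ha
    obtain ⟨γ, φ, α, δ, h⟩ := hY.exists_shape ha.1
    have hγ : ∀ y, γ y = 0 := fun y => by simpa [h, pt_sub] using ha.2.1 y
    have hδ : ∀ c, δ c = 0 := fun c => by simpa [h, pt_sub] using ha.2.2 c
    exact ⟨φ, α, fun x y c => by rw [h, hγ, hδ, add_zero, add_zero]⟩
  have hgP : g ∈ P₀ := ⟨hg, fun y => by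
    have h := hgs 0 y 0
    have h0 : φ 0 = 0 := by
      have := hgs 0 0 0
      rw [pt_zero, smul_zero, ← m.pt_zero, pt_inj] at this
      simpa using this.1.symm
    simp [h, pt_sub, h0], fun c => by
    have h := hgs 0 0 c
    have h0 : α 0 = 0 := by
      have := hgs 0 0 0
      rw [pt_zero, smul_zero, ← m.pt_zero, pt_inj] at this
      simpa using this.2.2.symm
    simp [h, pt_sub, h0]⟩
  set Q := P₀.map (MulAut.conj m.w).toMonoidHom
  have hQp : IsPGroup p Q :=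
    ((fixMod_pgroup ff Y).to_le (fun a ha => ha.1 : P₀ ≤ fixMod Y)).map _
  have hQpt : ∀ a ∈ P₀, ∀ (φ : m.C → m.F) (α : m.F → m.C),
      (∀ x y c, a • m.pt x y c = m.pt (x + φ c) y (c + α y)) →
      ∀ x y c, (m.w * a * m.w⁻¹) • m.pt x y c = m.pt x (y - φ c) (c + α x) := fun a _ φ α h x y c => by
    rw [mul_smul, mul_smul, w_inv_pt, h, w_pt, neg_add, neg_neg, ← sub_eq_add_neg]
  have hQstab : Q ≤ stab Y := by
    rintro _ ⟨a, ha, rfl⟩ u hu
    obtain ⟨φ', α', h⟩ := hshape a ha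
    obtain ⟨x, y, c, rfl⟩ := m.exists_pt u
    obtain ⟨rfl, hc⟩ := hY.mem_iff.1 hu
    show (m.w * a * m.w⁻¹) • _ ∈ Y
    rw [hQpt a ha φ' α' h]
    have hφc : φ' c = 0 := by
      have := ha.1.1 _ hc
      rw [h, pt_inj] at this
      simpa using this.1
    have hα : m.pt 0 0 (α' x) ∈ Y := by
      have := ha.1.2 (m.pt 0 x 0)
      rwa [h, pt_sub, map_zero, add_zero, sub_self, zero_add, sub_self, sub_zero] at this
    refine hY.mem_iff.2 ⟨by rw [hφc, sub_zero], ?_⟩
    have := Y.add_mem hc hα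
    rwa [pt_add, add_zero] at this
  have hQM : Q ≤ M := hQstab.trans (hY.stab_le ff)
  have htor : ∀ a ∈ P₀, ∀ (φ : m.C → m.F) (α : m.F → m.C),
      (∀ x y c, a • m.pt x y c = m.pt (x + φ c) y (c + α y)) → ∀ k : m.Fˣ,
      m.tor k * a * (m.tor k)⁻¹ ∈ P₀ ∧ ∀ x y c, (m.tor k * a * (m.tor k)⁻¹) • m.pt x y c =
        m.pt (x + k * φ c) y (c + α (k * y)) := by
    intro a ha φ α h k
    have hinv : ∀ x y c, (m.tor k)⁻¹ • m.pt x y c = m.pt (((k⁻¹ : m.Fˣ) : m.F) * x) (k * y) c := fun x y c => by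
      rw [inv_smul_eq_iff, tor_pt]
      simp
    have hs : ∀ x y c, (m.tor k * a * (m.tor k)⁻¹) • m.pt x y c = m.pt (x + k * φ c) y (c + α (k * y)) :=
      fun x y c => by
        rw [mul_smul, mul_smul, hinv, h, tor_pt]
        simp [mul_add]
    have h00 : φ 0 = 0 ∧ α 0 = 0 := by
      have := h 0 0 0
      rw [pt_zero, smul_zero, ← m.pt_zero, pt_inj] at this
      simpa [eq_comm] using this
    refine ⟨⟨fixMod_conj (hY.tor_mem k) ha.1, fun y => ?_, fun c => ?_⟩, hs⟩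
    · simp [hs, pt_sub, h00.1]
    · simp [hs, pt_sub, h00.2]
  -- the first coordinate part
  have hφ0 : ∀ c, φ c = 0 := by
    intro c₀
    by_contra hc₀
    refine m.test_moves ff hQp hQM fun y => ?_
    by_cases hy : y = 0
    · rw [hy, pt_zero]; exact zero_mem _
    obtain ⟨ha, hs⟩ := htor g hgP φ α hgs (Units.mk0 (-y / φ c₀) (div_ne_zero (neg_ne_zero.2 hy) hc₀))
    have h2 := sub_mem_moves (P := Q) ⟨_, ha, rfl⟩ (m.pt 0 0 c₀)
    have hα0 : α 0 = 0 := by
      have := hgs 0 0 0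
      rw [pt_zero, smul_zero, ← m.pt_zero, pt_inj] at this
      simpa [eq_comm] using this.2.2
    rw [show (MulAut.conj m.w).toMonoidHom _ = m.w * _ * m.w⁻¹ from rfl,
      hQpt _ ha _ _ hs, pt_sub] at h2
    simpa [hα0, hc₀, div_mul_cancel₀] using h2
  -- the third coordinate part
  have hα0 : ∀ y, α y = 0 := by
    intro y₀
    by_contra hy₀
    refine m.test_fix ff hQp hQM fun x y c hfix => ?_
    by_contra hx
    have hy0 : y₀ ≠ 0 := fun h => hy₀ (by
      have := hgs 0 0 0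
      rw [pt_zero, smul_zero, ← m.pt_zero, pt_inj] at this
      simpa [h, eq_comm] using this.2.2)
    obtain ⟨ha, hs⟩ := htor g hgP φ α hgs (Units.mk0 (y₀ / x) (div_ne_zero hy0 hx))
    have h2 := hfix _ ⟨_, ha, rfl⟩
    rw [show (MulAut.conj m.w).toMonoidHom _ = m.w * _ * m.w⁻¹ from rfl, hQpt _ ha _ _ hs, pt_inj] at h2
    simp [div_mul_cancel₀ _ hx] at h2
    exact hy₀ h2.2
  exact ff.faith g fun u => by
    obtain ⟨x, y, c, rfl⟩ := m.exists_pt u
    rw [hgs, hφ0, hα0, add_zero, add_zero]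

/-- The transvection group is a group of maps `(x, y, c) ↦ (x + l y, y, c + δ c)`. -/
theorem pure (hY : m.YData Y) (ff : FF U p T M T₁) {g : H} (hg : g ∈ fixMod Y) :
    ∃ (l : m.F) (δ : m.C →+ m.C), ∀ x y c, g • m.pt x y c = m.pt (x + l * y) y (c + δ c) := by
  classical
  -- no cross terms
  have hcross : ∀ a ∈ fixMod (H := H) Y, ∃ (γ : m.F →+ m.F) (δ : m.C →+ m.C),
      ∀ x y c, a • m.pt x y c = m.pt (x + γ y) y (c + δ c) := by
    intro a ha
    obtain ⟨γ, φ, α, δ, h⟩ := hY.exists_shape ha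
    have ht : ∀ x y c, (m.tor (-1) * a * (m.tor (-1))⁻¹) • m.pt x y c =
        m.pt (x + γ y - φ c) y (c + (-α y + δ c)) := fun x y c => by
      have hinv : (m.tor (-1))⁻¹ • m.pt x y c = m.pt (-x) (-y) c := by
        rw [inv_smul_eq_iff, tor_pt]; simp
      rw [mul_smul, mul_smul, hinv, h, tor_pt, pt_inj]
      refine ⟨?_, by simp, by simp⟩
      simp
      ring
    have hb : m.tor (-1) * a * (m.tor (-1))⁻¹ ∈ fixMod Y := fixMod_conj (hY.tor_mem _) ha
    set b := m.tor (-1) * a * (m.tor (-1))⁻¹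
    have hbi : ∀ x y c, b⁻¹ • m.pt x y c - m.pt x y c = -(b • m.pt x y c - m.pt x y c) := fun x y c => by
      have h := fixMod_sub_mul hb ((fixMod Y).inv_mem hb) (m.pt x y c)
      rw [mul_inv_cancel, one_smul, sub_self] at h
      exact eq_neg_of_add_eq_zero_right h.symm
    have hh : ∀ x y c, (a * b⁻¹) • m.pt x y c = m.pt (x + (φ c + φ c)) y (c + (α y + α y)) := fun x y c => by
      refine sub_left_injective (b := m.pt x y c) ?_
      simp only
      rw [fixMod_sub_mul ha ((fixMod Y).inv_mem hb), hbi, h, ht, pt_sub, pt_sub, pt_sub, pt_neg, pt_add, pt_inj]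
      refine ⟨by ring, by ring, by abel⟩
    have h1 := hY.odd_eq_one ff ((fixMod Y).mul_mem ha ((fixMod Y).inv_mem hb)) _ _ hh
    refine ⟨γ, δ, fun x y c => ?_⟩
    have h2 := hh 0 y c
    rw [h1, one_smul, pt_inj] at h2
    have hφ : φ c = 0 := by
      have h3 : (2 : m.F) * φ c = 0 := by linear_combination -h2.1
      exact (mul_eq_zero.1 h3).resolve_left (m.two_ne_zero ff)
    have hα : α y = 0 := m.two_C ff (by simpa [eq_comm] using h2.2.2)
    rw [h, hφ, hα, add_zero, zero_add]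
  -- a vector fixed by `T`
  obtain ⟨z, hzY, hz0, hz⟩ := exists_fix_mod ff.expp T.2 Y ⊥ hY.inv
    (fun g _ x hx => by simp [AddSubgroup.mem_bot.1 hx]) (fun h => m.R_ne_bot (le_bot_iff.1 (hY.ge.trans h)))
  replace hz : z ∈ fixS U (T : Subgroup H) := fun a ha => sub_eq_zero.1 (AddSubgroup.mem_bot.1 (hz a ha))
  replace hz0 : z ≠ 0 := fun h => hz0 (AddSubgroup.mem_bot.2 h)
  obtain ⟨r, y₁, c₀, rfl⟩ := m.exists_pt z
  obtain ⟨rfl, hrc⟩ := m.fix_T ff hz
  have hr : r ≠ 0 := fun h => hz0 (by rw [h, hrc h, pt_zero])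
  have hc₀ : m.pt 0 0 c₀ ∈ Y := (hY.mem_iff.1 hzY).2
  -- singular elements
  let S : Set H := {a | a ∈ fixMod Y ∧ ∃ y : m.F, y ≠ 0 ∧ (m.e (a • m.pt 0 y 0 - m.pt 0 y 0)).1 = 0}
  have hS : Subgroup.closure S ≤ fixMod Y := (Subgroup.closure_le _).2 fun a ha => ha.1
  have hwpt : ∀ (a : H) (γ : m.F →+ m.F) (δ : m.C →+ m.C),
      (∀ x y c, a • m.pt x y c = m.pt (x + γ y) y (c + δ c)) →
      ∀ x y c, (m.w * a * m.w⁻¹) • m.pt x y c = m.pt x (y - γ x) (c + δ c) := fun a γ δ h x y c => by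
    rw [mul_smul, mul_smul, w_inv_pt, h, w_pt, neg_add, neg_neg, ← sub_eq_add_neg]
  have htorpt : ∀ (a : H) (γ : m.F →+ m.F) (δ : m.C →+ m.C),
      (∀ x y c, a • m.pt x y c = m.pt (x + γ y) y (c + δ c)) →
      ∀ (k : m.Fˣ) x y c, (m.tor k * a * (m.tor k)⁻¹) • m.pt x y c =
        m.pt (x + k * γ (k * y)) y (c + δ c) := fun a γ δ h k x y c => by
    have hinv : (m.tor k)⁻¹ • m.pt x y c = m.pt (((k⁻¹ : m.Fˣ) : m.F) * x) (k * y) c := by
      rw [inv_smul_eq_iff, tor_pt]; simp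
    rw [mul_smul, mul_smul, hinv, h, tor_pt]
    simp [mul_add]
  have hSM : ∀ a ∈ S, m.w * a * m.w⁻¹ ∈ M := by
    rintro a ⟨ha, y₀, hy₀, ha0⟩
    obtain ⟨γ, δ, h⟩ := hcross a ha
    have hγ0 : γ y₀ = 0 := by simpa [h, pt_sub] using ha0
    set k : m.Fˣ := Units.mk0 (y₀ / r) (div_ne_zero hy₀ hr)
    set a' := m.tor k * a * (m.tor k)⁻¹ with ha'
    have h' := htorpt a γ δ h k
    have hδ : δ c₀ = 0 := by
      have := ha.1 _ hc₀
      rw [h, pt_inj] at this
      simpa using this.2.2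
    have h1 : m.w * a' * m.w⁻¹ ∈ M := ff.mem_M_of_smul hz hz0 (by
      rw [mul_smul, mul_smul, w_inv_pt, h', w_pt, pt_inj]
      simp [k, div_mul_cancel₀ _ hr, hγ0, hδ])
    have hwtor : ∀ k : m.Fˣ, m.w * m.tor k * m.w⁻¹ = m.tor k⁻¹ := fun k => m.ext_pt ff.faith fun x y c => by
      rw [mul_smul, mul_smul, w_inv_pt, tor_pt, w_pt, tor_pt, pt_inj]
      simp
    have h2 : m.w * a * m.w⁻¹ = (m.w * m.tor k * m.w⁻¹)⁻¹ * (m.w * a' * m.w⁻¹) * (m.w * m.tor k * m.w⁻¹) := by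
      rw [ha']; group
    rw [h2, hwtor]
    exact M.mul_mem (M.mul_mem (M.inv_mem (hY.stab_le ff (hY.tor_mem _))) h1) (hY.stab_le ff (hY.tor_mem _))
  set Q := (Subgroup.closure S).map (MulAut.conj m.w).toMonoidHom
  have hQp : IsPGroup p Q := ((fixMod_pgroup ff Y).to_le hS).map _
  have hQM : Q ≤ M := Subgroup.map_le_iff_le_comap.2 ((Subgroup.closure_le _).2 fun a ha => hSM a ha)
  have hsing : ∀ a ∈ fixMod (H := H) Y, ∀ (γ : m.F →+ m.F) (δ : m.C →+ m.C),
      (∀ x y c, a • m.pt x y c = m.pt (x + γ y) y (c + δ c)) → ∀ y₀, y₀ ≠ 0 → γ y₀ = 0 → ∀ y, γ y = 0 := by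
    intro a ha γ δ h y₀ hy₀ hγ0 y₁
    by_contra hy₁
    refine m.test_moves ff hQp hQM fun t => ?_
    by_cases ht : t = 0
    · rw [ht, pt_zero]; exact zero_mem _
    set k : m.Fˣ := Units.mk0 (-t / γ y₁) (div_ne_zero (neg_ne_zero.2 ht) hy₁) with hk
    have h' := htorpt a γ δ h k
    have hmem : m.tor k * a * (m.tor k)⁻¹ ∈ S := ⟨fixMod_conj (hY.tor_mem k) ha, ((k⁻¹ : m.Fˣ) : m.F) * y₀,
      mul_ne_zero (Units.ne_zero _) hy₀, by simp [h', pt_sub, hγ0]⟩
    have h2 := sub_mem_moves (P := Q) ⟨_, Subgroup.subset_closure hmem, rfl⟩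
      (m.pt (((k⁻¹ : m.Fˣ) : m.F) * y₁) 0 0)
    rw [show (MulAut.conj m.w).toMonoidHom _ = m.w * _ * m.w⁻¹ from rfl, mul_smul, mul_smul, w_inv_pt, h',
      w_pt, pt_sub, Units.mul_inv_cancel_left] at h2
    simpa [hk, neg_div, div_mul_cancel₀, hy₁] using h2
  -- subtracting an upper element
  obtain ⟨γ, δ, h⟩ := hcross g hg
  refine ⟨γ 1, δ, fun x y c => ?_⟩
  have hb : g * m.ua (-γ 1) ∈ fixMod Y := (fixMod Y).mul_mem hg (hY.ua_fixMod _)
  let γ' : m.F →+ m.F := γ - AddMonoidHom.mulLeft (γ 1)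
  have hb' : ∀ x y c, (g * m.ua (-γ 1)) • m.pt x y c = m.pt (x + γ' y) y (c + δ c) := fun x y c => by
    rw [mul_smul, ua_pt, h]
    congr 1
    show _ = x + (γ y - γ 1 * y)
    ring
  have := hsing _ hb γ' δ hb' 1 one_ne_zero (by simp [γ']) y
  have hγy : γ y = γ 1 * y := sub_eq_zero.1 this
  rw [h, hγy]

/-- A conjugate of the upper unipotent group among the transvections is that group or fixes both axes. -/
theorem dich (hY : m.YData Y) (ff : FF U p T M T₁) {k : H} (hk : ∀ l, k * m.ua l * k⁻¹ ∈ fixMod Y) :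
    (∀ l, ∃ l', k * m.ua l * k⁻¹ = m.ua l') ∨
      ((∀ l x y, (k * m.ua l * k⁻¹) • m.pt x y 0 = m.pt x y 0) ∧
        ∀ x, ∃ c, k • m.pt x 0 0 = m.pt 0 0 c) := by
  classical
  choose f δ hf using fun l => hY.pure ff (hk l)
  by_cases hall : ∀ l, f l = 0
  · refine Or.inr ⟨fun l x y => by rw [hf, hall, zero_mul, add_zero, map_zero, add_zero], fun x => ?_⟩
    obtain ⟨a, b, c, hv⟩ := m.exists_pt (k • m.pt 0 x 0)
    refine ⟨δ 1 c, ?_⟩
    have h1 : k • m.pt x 0 0 = (k * m.ua 1 * k⁻¹) • m.pt a b c - m.pt a b c := by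
      rw [← hv, mul_smul, mul_smul, inv_smul_smul, ua_pt, ← smul_sub, pt_sub]
      simp
    rw [h1, hf, hall, zero_mul, add_zero, pt_sub, sub_self, sub_self, add_sub_cancel_left]
  · left
    push_neg at hall
    obtain ⟨l₀, hl₀⟩ := hall
    -- the fixed space of the conjugate
    set K := m.CA.map (DistribMulAction.toAddMonoidHom U k) with hK
    have hKfix : ∀ u ∈ K, ∀ l, (k * m.ua l * k⁻¹) • u = u := by
      rintro _ ⟨u, hu, rfl⟩ l
      obtain ⟨x, y, c, rfl⟩ := m.exists_pt u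
      obtain rfl := m.pt_mem_CA.1 hu
      show (k * m.ua l * k⁻¹) • (k • m.pt x 0 c) = k • m.pt x 0 c
      rw [mul_smul, mul_smul, inv_smul_smul, ua_pt, mul_zero, add_zero]
    have hKCA : K = m.CA := by
      refine AddSubgroup.eq_of_le_of_card_ge (fun u hu => ?_) ?_
      · obtain ⟨x, y, c, rfl⟩ := m.exists_pt u
        have := hKfix _ hu l₀
        rw [hf, pt_inj] at this
        exact m.pt_mem_CA.2 ((mul_eq_zero.1 (by linear_combination this.1)).resolve_left hl₀)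
      · exact (Nat.card_congr (m.CA.equivMapOfInjective _ (MulAction.injective k)).toEquiv).le
    intro l
    refine ⟨f l, m.ext_pt ff.faith fun x y c => ?_⟩
    have hδc : δ l c = 0 := by
      have hmem : m.pt 0 0 c ∈ K := by rw [hKCA]; simp
      have := hKfix _ hmem l
      rw [hf, pt_inj] at this
      simpa using this.2.2
    rw [hf, ua_pt, hδc, add_zero]

end YData

end Model

end CfsgLib.FocalThree
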