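import Cfsg.Agent.Lib.CFun.FocalThree.Functors
import Cfsg.Agent.Lib.CFun.SectionInd
import Cfsg.Agent.Lib.PushUp.Center
import Cfsg.Agent.Lib.Fusion.System.ThompsonLevel
import Cfsg.Agent.Lib.Fusion.Transfer

/-!
# A minimal failure: an offender outside the core, and `C_S(Z(J(S)))` generates the group normally
-/

set_option autoImplicit false
set_option linter.style.haveILetI false
set_option linter.unusedSectionVars false

open Subgroup
open scoped commutatorElement
open CfsgLib.CFun
open CfsgLib.PushUp (MA cj)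

namespace CfsgLib.FocalThree

universe u

variable {G : Type u} [Group G] [Finite G] {p : ℕ} [Fact p.Prime]

theorem normal_of_centralized' {N S X : Subgroup G} (h : N ⊔ S = ⊤) (hN : X ≤ centralizer (N : Set G))
    (hS : X ≤ centralizer (S : Set G)) : X.Normal := by
  rw [← normalizer_eq_top_iff, ← top_le_iff, ← h]
  exact sup_le ((le_centralizer_iff.1 hN).trans (centralizer_le_normalizer _))
    ((le_centralizer_iff.1 hS).trans (centralizer_le_normalizer _))

theorem le_normalizer_centralizer {S X : Subgroup G} (h : S ≤ normalizer (X : Set G)) :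
    S ≤ normalizer ((centralizer (X : Set G) : Subgroup G) : Set G) := by
  intro g hg
  refine CfsgLib.PushUp.mem_normalizer_of_forall (fun x hx => mem_centralizer_iff.2 fun y hy => ?_)
    (fun x hx => mem_centralizer_iff.2 fun y hy => ?_)
  · have h1 := mem_centralizer_iff.1 hx _ ((mem_normalizer_iff''.1 (h hg) y).1 hy)
    calc y * (g * x * g⁻¹) = g * (g⁻¹ * y * g * x) * g⁻¹ := by group
      _ = g * (x * (g⁻¹ * y * g)) * g⁻¹ := by rw [h1]
      _ = _ := by group
  · have h1 := mem_centralizer_iff.1 hx _ ((mem_normalizer_iff.1 (h hg) y).1 hy)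
    calc y * (g⁻¹ * x * g) = g⁻¹ * (g * y * g⁻¹ * x) * g := by group
      _ = g⁻¹ * (x * (g * y * g⁻¹)) * g := by rw [h1]
      _ = _ := by group

theorem J_le_jT (S : Subgroup G) : Cfsg.thompsonSubgroupAOf S ≤ jT S :=
  le_inf CfsgLib.PushUp.J_le_self (le_centralizer_iff.1 inf_le_right)

theorem center_le_jT (S : Subgroup G) : S ⊓ centralizer (S : Set G) ≤ jT S :=
  le_inf inf_le_left (inf_le_right.trans (centralizer_le CfsgLib.PushUp.Jz_le_self))

theorem le_normalizer_jT (S : Subgroup G) : S ≤ normalizer (jT S : Set G) :=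
  le_trans (le_inf le_normalizer
    (le_normalizer_centralizer (le_normalizer.trans CfsgLib.PushUp.normalizer_le_Jz)))
    inf_normalizer_le_normalizer_inf

/-- The subgroup `M` of a minimal failure. -/
abbrev bigM (𝓦 : Set (∀ (Q : Type u) [Group Q], Subgroup Q)) (S : Sylow p G) : Subgroup G :=
  normalizer (((famSup (indFam G 𝓦) (S : Subgroup G) ⊤ ⊓ Cfsg.pCore p G : Subgroup G)) : Set G)

theorem induced_not_normal {𝓦 : Set (∀ (Q : Type u) [Group Q], Subgroup Q)}
    (h : MinFail (G := G) p 𝓦) (S : Sylow p G) {W : ∀ (Q : Type u) [Group Q], Subgroup Q} (hW : W ∈ 𝓦) :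
    ¬ (Cfsg.inducedFunctor W (S : Subgroup G)).Normal := fun hn => by
  refine h.not_le S (le_iSup₂_of_le (Cfsg.inducedFunctor (G := G) W) ⟨W, hW, rfl⟩ ?_)
  rw [normalizer_eq_top_iff.2 hn, top_inf_eq, ← _root_.commutator_def]

theorem center_not_normal (h : MinFail (G := G) p (zkFam.{u} p)) (S : Sylow p G) :
    ¬ ((S : Subgroup G) ⊓ centralizer ((S : Subgroup G) : Set G)).Normal :=
  induced_zFun (S : Subgroup G) ▸ induced_not_normal h S (W := zFun) (Or.inl rfl)

theorem fFun_isCharPFunctor : Cfsg.IsCharPFunctor.{u} p (fFun p) :=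
  ⟨fun Q _ _ _ hQ => by haveI := hQ; exact fFun_ne_bot p Q, fun _ _ _ _ _ _ φ => fFun_map p φ⟩

theorem jT_not_normal (h : MinFail (G := G) p (zkFam.{u} p)) (S : Sylow p G) :
    ¬ (jT (S : Subgroup G)).Normal := fun hn => by
  refine induced_not_normal h S (W := kFun p) (Or.inr rfl) ?_
  rw [induced_kFun, ← normalizer_eq_top_iff, ← top_le_iff, ← normalizer_eq_top_iff.2 hn]
  exact cfun_normalizer_le (isConjugacyFunctor_induced (G := G) fFun_isCharPFunctor)
    (S.2.to_le inf_le_left)

theorem exists_ma_not_le (h : MinFail (G := G) p (zkFam.{u} p)) (S : Sylow p G) :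
    ∃ A, MA (S : Subgroup G) A ∧ ¬ A ≤ Cfsg.pCore p G := by
  by_contra! hall
  haveI hQn := CfsgLib.Coprime.pCore_normal' (G := G) p
  set S₀ : Subgroup G := (S : Subgroup G) with hS₀
  set Q := Cfsg.pCore p G
  set J := Cfsg.thompsonSubgroupAOf S₀
  set W := Cfsg.centerThompsonAOf S₀ with hW
  have hQS : Q ≤ S₀ := h.pCore_le_sylow S
  have hJcj : ∀ g : G, cj g J ≤ J := fun g => by
    rw [cj, map_le_iff_le_comap]
    refine CfsgLib.PushUp.J_le fun A hA => ?_
    rw [← map_le_iff_le_comap]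
    exact CfsgLib.PushUp.le_J (CfsgLib.PushUp.ma_cj hA
      ((CfsgLib.PushUp.cj_mono (hall A hA)).trans ((CfsgLib.PushUp.cj_normal g Q).le.trans hQS)))
  haveI hJn : J.Normal := ⟨fun x hx g => hJcj g (CfsgLib.PushUp.conj_mem_cj hx)⟩
  haveI hWn : W.Normal := by rw [hW, Cfsg.centerThompsonAOf]; infer_instance
  set C := centralizer (W : Set G) with hC
  have hM := h.M_ne_top S
  by_cases hCS : C ⊔ S₀ = ⊤
  · exact center_not_normal h S (normal_of_centralized' hCS
      (CfsgLib.PushUp.center_le_Jz.trans (le_centralizer_iff.1 le_rfl)) inf_le_right)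
  · obtain ⟨P, hP⟩ : ∃ P : Sylow p C, (P : Subgroup C).map C.subtype = S₀ ⊓ C := by
      refine ⟨((S.2.to_le inf_le_left).of_equiv (subgroupOfEquivOfLe (inf_le_right : S₀ ⊓ C ≤ C)).symm).toSylow
        (CfsgLib.Fusion.not_dvd_relIndex_inf_of_normal S C), map_subgroupOf_eq_of_le inf_le_right⟩
    have hfr := Sylow.normalizer_sup_eq_top P
    rw [hP] at hfr
    refine hM (top_le_iff.1 (hfr.ge.trans (sup_le ?_ (le_sup_left.trans (h.le_M S le_sup_right hCS)))))
    refine h.le_M S (le_normalizer_jT S₀) fun e => ?_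
    exact jT_not_normal h S (normalizer_eq_top_iff.1 e)

/-- The normal closure of `C_S(Z(J(S)))` is the whole group. -/
theorem closure_jT (h : MinFail (G := G) p (zkFam.{u} p)) (S : Sylow p G) (N : Subgroup G) (hN : N.Normal)
    (hle : jT (S : Subgroup G) ≤ N) : N = ⊤ := by
  classical
  suffices hcl : normalClosure (jT (S : Subgroup G) : Set G) = ⊤ from
    top_le_iff.1 (hcl ▸ normalClosure_le_normal hle)
  clear hN hle N
  by_contra hNtop
  set N := normalClosure (jT (S : Subgroup G) : Set G) with hNdef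
  have hN : N.Normal := normalClosure_normal
  have hle : jT (S : Subgroup G) ≤ N := le_normalClosure
  haveI := hN
  obtain ⟨A, hA, hAQ⟩ := exists_ma_not_le h S
  set S₀ : Subgroup G := (S : Subgroup G) with hS₀
  set R := S₀ ⊓ N with hR
  have hJR : Cfsg.thompsonSubgroupAOf S₀ ≤ R :=
    le_inf CfsgLib.PushUp.J_le_self ((J_le_jT S₀).trans hle)
  have hSN : S₀ ≤ normalizer (R : Set G) := le_trans (le_inf le_normalizer
    (le_top.trans (normalizer_eq_top_iff.2 hN).ge)) inf_normalizer_le_normalizer_inf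
  have hRnot : normalizer (R : Set G) ≠ ⊤ := fun e => hAQ (by
    haveI : R.Normal := normalizer_eq_top_iff.1 e
    exact ((CfsgLib.PushUp.le_J hA).trans hJR).trans (CfsgLib.Coprime.le_pCore (S.2.to_le inf_le_left)))
  have hRi : ¬ p ∣ R.relIndex N := CfsgLib.Fusion.not_dvd_relIndex_inf_of_normal S N
  by_cases hNS : N ⊔ S₀ = ⊤
  swap
  · obtain ⟨P, hP⟩ : ∃ P : Sylow p N, (P : Subgroup N).map N.subtype = R :=
      ⟨((S.2.to_le inf_le_left).of_equiv (subgroupOfEquivOfLe (inf_le_right : R ≤ N)).symm).toSylow hRi,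
        map_subgroupOf_eq_of_le inf_le_right⟩
    have hfr := Sylow.normalizer_sup_eq_top P
    rw [hP] at hfr
    exact h.M_ne_top S (top_le_iff.1 (hfr.ge.trans (sup_le (h.le_M S hSN hRnot)
      (le_sup_left.trans (h.le_M S le_sup_right hNS)))))
  set L := famSup (indFam G (zkFam.{u} p)) S₀ ⊤ with hL
  refine h.not_le S ?_
  have hRp : IsPGroup p R := S.2.to_le inf_le_left
  -- the Thompson subgroups agree
  have hJeq : Cfsg.thompsonSubgroupAOf R = Cfsg.thompsonSubgroupAOf S₀ :=
    (CfsgLib.Fusion.JLevel.thompsonA_eq_of_le (D := R) (D' := S₀) inf_le_left hJR).1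
  have hZeq : Cfsg.centerThompsonAOf R = Cfsg.centerThompsonAOf S₀ := by
    unfold Cfsg.centerThompsonAOf; rw [hJeq]
  have hjeq : jT R = jT S₀ := le_antisymm (le_inf (inf_le_left.trans inf_le_left) (hZeq ▸ inf_le_right))
    (le_inf (le_inf inf_le_left hle) (hZeq ▸ inf_le_right))
  have hderR : R ⊓ ⁅N, N⁆ ≤ L := by
    rw [famControl_any (indFam_isConjugacyFunctor h.char) (h.sub N hNtop) inf_le_right hRp hRi]
    refine iSup₂_le fun W' hW' => ?_
    obtain ⟨W, hW, rfl⟩ := hW'
    refine le_trans (inf_le_inf inf_le_left (commutator_mono inf_le_right inf_le_right)) ?_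
    rcases hW with rfl | rfl <;> beta_reduce
    · rw [induced_zFun]
      refine h.inf_commutator_le S ?_ fun e => ?_
      · exact hSN.trans (le_trans (le_inf le_rfl (le_normalizer_centralizer le_rfl))
          inf_normalizer_le_normalizer_inf)
      · haveI hZn := normalizer_eq_top_iff.1 e
        have hjR : jT S₀ ≤ R := le_inf inf_le_left hle
        have h1 : N ≤ centralizer ((R ⊓ centralizer (R : Set G) : Subgroup G) : Set G) :=
          normalClosure_le_normal (hjR.trans (le_centralizer_iff.1 inf_le_right))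
        have hZR : S₀ ⊓ centralizer (S₀ : Set G) ≤ R ⊓ centralizer (R : Set G) :=
          le_inf ((center_le_jT S₀).trans hjR) (inf_le_right.trans (centralizer_le inf_le_left))
        exact center_not_normal h S (normal_of_centralized' hNS
          (hZR.trans (le_centralizer_iff.1 h1)) inf_le_right)
    · have hS : S₀ ≤ normalizer ((Cfsg.inducedFunctor (kFun p) S₀ : Subgroup G) : Set G) :=
        le_normalizer.trans (h.sylow_normalizer_le S (W' := Cfsg.inducedFunctor (G := G) (kFun p))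
          ⟨kFun p, Or.inr rfl, rfl⟩)
      rw [induced_kFun, hjeq, ← induced_kFun]
      exact h.inf_commutator_le S hS fun e => induced_not_normal h S (W := kFun p) (Or.inr rfl)
        (normalizer_eq_top_iff.1 e)
  have hder : ⁅S₀, S₀⁆ ≤ L :=
    (le_inf (commutator_le_self S₀) le_rfl).trans (h.inf_commutator_le S le_rfl (h.sylow_ne_top S))
  -- the elements of order prime to `p` together with the derived subgroup
  obtain ⟨k, hk⟩ := hRp.exists_card_eq
  set K := closure {x : G | ∃ a ∈ N, a ^ p ^ k = x} ⊔ ⁅N, N⁆ with hK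
  haveI hKn : K.Normal := by
    haveI : (closure {x : G | ∃ a ∈ N, a ^ p ^ k = x}).Normal := by
      refine ⟨fun x hx g => ?_⟩
      have hle' : closure {x : G | ∃ a ∈ N, a ^ p ^ k = x} ≤
          (closure {x : G | ∃ a ∈ N, a ^ p ^ k = x}).comap (MulAut.conj g).toMonoidHom := by
        rw [closure_le]
        rintro _ ⟨a, ha, rfl⟩
        refine subset_closure ⟨g * a * g⁻¹, hN.conj_mem a ha g, ?_⟩
        simp [conj_pow, MulAut.conj_apply]
      exact hle' hx
    exact Subgroup.sup_normal _ _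
  have hKN : K ≤ N := sup_le ((closure_le _).2 (by rintro _ ⟨a, ha, rfl⟩; exact pow_mem ha _))
    (commutator_le_self N)
  have hKR : ∀ x ∈ K, x ∈ R → x ∈ ⁅N, N⁆ := by
    intro x hx hxR
    have hxN : x ∈ N := hKN hx
    let φ : N →* Abelianization N := Abelianization.of
    let pw : Abelianization N →* Abelianization N := powMonoidHom (p ^ k)
    have hKle : K ≤ (pw.range.comap φ).map N.subtype := by
      refine sup_le ((closure_le _).2 ?_) ?_
      · rintro _ ⟨a, ha, rfl⟩
        exact ⟨⟨a, ha⟩ ^ p ^ k, ⟨φ ⟨a, ha⟩, (map_pow φ _ _).symm⟩, rfl⟩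
      · rw [← N.map_subtype_commutator]
        refine map_mono fun c hc => ?_
        have hc' : φ c = 1 := Abelianization.commutator_subset_ker _ hc
        exact ⟨1, by rw [map_one, hc']⟩
    obtain ⟨⟨y, hy⟩, ⟨b, hb⟩, rfl⟩ := hKle hx
    have hpk : φ ⟨y, hy⟩ ^ p ^ k = 1 := by
      have hcard : y ^ p ^ k = 1 := by
        have := pow_card_eq_one' (x := (⟨y, hxR⟩ : R))
        rw [hk] at this
        exact congrArg Subtype.val this
      rw [← map_pow, show (⟨y, hy⟩ : N) ^ p ^ k = 1 from Subtype.ext hcard, map_one]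
    have hone : φ ⟨y, hy⟩ = 1 := by
      have hbp : b ^ p ^ k = φ ⟨y, hy⟩ := hb
      have hcard : Nat.card N = p ^ k * R.relIndex N := by
        rw [← hk, ← relIndex_bot_left R, ← relIndex_bot_left N]
        exact (relIndex_mul_relIndex ⊥ R N bot_le inf_le_right).symm
      have hb1 : b ^ Nat.card N = 1 := orderOf_dvd_iff_pow_eq_one.1
        ((orderOf_dvd_natCard b).trans (card_quotient_dvd_card (commutator N)))
      rw [hcard, pow_mul, hbp] at hb1
      refine orderOf_eq_one_iff.1 (Nat.eq_one_of_dvd_coprimes ?_ (orderOf_dvd_of_pow_eq_one hpk)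
        (orderOf_dvd_of_pow_eq_one hb1))
      exact Nat.Coprime.pow_left k ((Fact.out : p.Prime).coprime_iff_not_dvd.2 hRi)
    rw [← MonoidHom.mem_ker, Abelianization.ker_of] at hone
    rw [← N.map_subtype_commutator]
    exact mem_map_of_mem N.subtype hone
  have hKS : K ⊔ S₀ = ⊤ := by
    have hpG : ∀ g : G, ∃ i : ℕ, g ^ p ^ i ∈ K := by
      intro g
      obtain ⟨i, hi⟩ : ∃ i, g ^ p ^ i ∈ N := by
        have hg : g ∈ N ⊔ S₀ := hNS ▸ mem_top g
        rw [← SetLike.mem_coe, normal_mul] at hg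
        obtain ⟨n, hn, s, hs, rfl⟩ := hg
        obtain ⟨i, hi⟩ := S.2 ⟨s, hs⟩
        refine ⟨i, ?_⟩
        rw [← QuotientGroup.eq_one_iff, QuotientGroup.mk_pow, QuotientGroup.mk_mul,
          (QuotientGroup.eq_one_iff n).2 hn, one_mul, ← QuotientGroup.mk_pow,
          show s ^ p ^ i = 1 from congrArg Subtype.val hi]
        rfl
      refine ⟨i + k, mem_sup_left (subset_closure ⟨g ^ p ^ i, hi, ?_⟩)⟩
      rw [← pow_mul, pow_add]
    have hpQ : IsPGroup p (G ⧸ K) := fun q => by
      obtain ⟨g, rfl⟩ := QuotientGroup.mk'_surjective K q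
      obtain ⟨i, hi⟩ := hpG g
      exact ⟨i, by rw [← map_pow]; exact (QuotientGroup.eq_one_iff _).2 hi⟩
    obtain ⟨j, hj⟩ := hpQ.exists_card_eq
    refine index_eq_one.1 (Nat.eq_one_of_dvd_coprimes (k := (K ⊔ S₀).index)
      ((Nat.Coprime.pow_left j ((Fact.out : p.Prime).coprime_iff_not_dvd.2 S.not_dvd_index)) :
        (p ^ j).Coprime S₀.index) ?_ (index_dvd_of_le le_sup_right))
    rw [← hj, ← index_eq_card]
    exact index_dvd_of_le le_sup_left
  -- the focal subgroup
  set X := (R ⊓ ⁅N, N⁆) ⊔ ⁅S₀, S₀⁆ with hX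
  have hcop : Nat.Coprime (Nat.card (S₀ ⧸ S₀.focalSubgroupOf)) S₀.index := by
    obtain ⟨j, hj⟩ := (S.2.to_quotient S₀.focalSubgroupOf).exists_card_eq
    rw [hj]
    exact Nat.Coprime.pow_left j ((Fact.out : p.Prime).coprime_iff_not_dvd.2 S.not_dvd_index)
  rw [inf_comm, CfsgLib.Fusion.commutator_inf_eq_focal hcop, Subgroup.focalSubgroup_def]
  refine le_trans ((closure_le _).2 ?_) (sup_le hderR hder : X ≤ L)
  rintro _ ⟨hxu, x, hx, u, rfl⟩
  have hg' : u ∈ S₀ ⊔ K := by rw [sup_comm, hKS]; exact mem_top u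
  rw [← SetLike.mem_coe, mul_normal] at hg'
  obtain ⟨s, hs, r, hr, rfl⟩ := hg'
  obtain ⟨z, hz⟩ : ∃ z, z = x * r * x⁻¹ * r⁻¹ := ⟨_, rfl⟩
  have he : ⁅x, s * r⁆ = ⁅x, s⁆ * (s * z * s⁻¹) := by
    rw [hz, commutatorElement_def, commutatorElement_def]; group
  have hxs : ⁅x, s⁆ ∈ ⁅S₀, S₀⁆ := commutator_mem_commutator hx hs
  rw [he] at hxu ⊢
  have hzS : z ∈ S₀ := by
    have h1 : s * z * s⁻¹ ∈ S₀ := by
      have h2 := mul_mem (inv_mem (commutator_le_self S₀ hxs)) hxu
      rwa [inv_mul_cancel_left] at h2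
    simpa [mul_assoc] using mul_mem (mul_mem (inv_mem hs) h1) hs
  have hzK : z ∈ K := hz ▸ mul_mem (hKn.conj_mem r hr x) (inv_mem hr)
  refine mul_mem (mem_sup_right hxs) (mem_sup_left ?_)
  have hzR : z ∈ R := mem_inf.2 ⟨hzS, hKN hzK⟩
  exact mem_inf.2 ⟨(mem_normalizer_iff.1 (hSN hs) z).1 hzR,
    Subgroup.Normal.conj_mem inferInstance z (hKR z hzK hzR) s⟩

end CfsgLib.FocalThree
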