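import Cfsg.Agent.Lib.CFun.OffenderPair.Pair

/-!
# Offenders under a unique maximal overgroup of a Sylow subgroup: first consequences

`H` acts faithfully and irreducibly on an elementary abelian `p`-group `U`, `p` odd, `H` has no non-trivial
normal `p`-subgroup, every proper overgroup of a Sylow subgroup `T` lies in `M`, the normal closure of
`T₁ ≤ T` is everything and the vectors fixed by the offenders in `T` are fixed by `T₁`.
-/

set_option autoImplicit false
set_option linter.unusedSectionVars false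
set_option linter.style.haveILetI false

open CfsgLib.Char.NatSL (OffData fixS mem_fixS fixS_mono fixS_conj card_tr quadratic_of_strict
  exists_iterate_sub_zero)
open CfsgLib.Fusion (conjBy)

namespace CfsgLib.FocalThree

universe u v

variable {H : Type u} [Group H] {U : Type v} [AddCommGroup U] [DistribMulAction H U]

/-- The subgroup generated by the `g v - v`, `g ∈ P`. -/
def moves (U : Type v) [AddCommGroup U] [DistribMulAction H U] (P : Subgroup H) : AddSubgroup U :=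
  AddSubgroup.closure {z | ∃ g ∈ P, ∃ v : U, g • v - v = z}

theorem sub_mem_moves {P : Subgroup H} {g : H} (hg : g ∈ P) (v : U) : g • v - v ∈ moves U P :=
  AddSubgroup.subset_closure ⟨g, hg, v, rfl⟩

theorem moves_smul (P : Subgroup H) {g : H} (hg : g ∈ P) {v : U} (hv : v ∈ moves U P) :
    g • v ∈ moves U P := by
  have := (moves U P).add_mem (sub_mem_moves hg v) hv
  rwa [sub_add_cancel] at this

/-- The stabilizer of an additive subgroup. -/
def stab [Finite H] (X : AddSubgroup U) : Subgroup H where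
  carrier := {g | ∀ x ∈ X, g • x ∈ X}
  one_mem' := fun x hx => by simpa using hx
  mul_mem' := fun {a b} ha hb x hx => by rw [mul_smul]; exact ha _ (hb x hx)
  inv_mem' := fun {g} hg => by
    have key : ∀ k : ℕ, ∀ x ∈ X, g ^ k • x ∈ X := fun k => by
      induction k with
      | zero => exact fun x hx => by simpa using hx
      | succ k ih => exact fun x hx => by rw [pow_succ', mul_smul]; exact hg _ (ih x hx)
    rw [show g⁻¹ = g ^ (orderOf g - 1) from inv_eq_of_mul_eq_one_right (by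
      rw [← pow_succ', Nat.sub_add_cancel (orderOf_pos g), pow_orderOf_eq_one])]
    exact key _

theorem mem_stab [Finite H] {X : AddSubgroup U} {g : H} : g ∈ stab X ↔ ∀ x ∈ X, g • x ∈ X := Iff.rfl

theorem smul_mem_iff [Finite H] {X : AddSubgroup U} {g : H} (hg : g ∈ stab X) {x : U} :
    g • x ∈ X ↔ x ∈ X := by
  refine ⟨fun h => ?_, fun h => hg x h⟩
  have := ((stab X).inv_mem hg) _ h
  rwa [inv_smul_smul] at this

variable [Finite H] [Finite U] {p : ℕ} [hp : Fact p.Prime]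

/-- A `p`-group fixes a vector of an invariant subgroup modulo a smaller one. -/
theorem exists_fix_mod (hexp : ∀ u : U, p • u = 0) {P : Subgroup H} (hP : IsPGroup p P) (X Y : AddSubgroup U)
    (hX : P ≤ stab X) (hY : P ≤ stab Y) (hYX : ¬ X ≤ Y) :
    ∃ v ∈ X, v ∉ Y ∧ ∀ g ∈ P, g • v - v ∈ Y := by
  classical
  set N := Y.addSubgroupOf X with hN
  let f : ↥P → ↥X →+ ↥X := fun g =>
    AddMonoidHom.mk' (fun x => ⟨(g : H) • (x : U), hX g.2 _ x.2⟩) fun a b =>
      Subtype.ext (by simp [smul_add])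
  have hf : ∀ g : ↥P, N ≤ N.comap (f g) := fun g x hx => hY g.2 _ hx
  letI : MulAction ↥P (↥X ⧸ N) :=
    { smul := fun g q => QuotientAddGroup.map N N (f g) (hf g) q
      one_smul := fun q => by
        induction q using QuotientAddGroup.induction_on with
        | H x => exact congrArg QuotientAddGroup.mk (Subtype.ext (one_smul H (x : U)))
      mul_smul := fun a b q => by
        induction q using QuotientAddGroup.induction_on with
        | H x => exact congrArg QuotientAddGroup.mk (Subtype.ext (mul_smul (a : H) (b : H) (x : U))) }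
  obtain ⟨x, hxX, hxY⟩ := SetLike.not_le_iff_exists.1 hYX
  set q : ↥X ⧸ N := QuotientAddGroup.mk ⟨x, hxX⟩
  have hq : q ≠ 0 := fun h => hxY ((QuotientAddGroup.eq_zero_iff (N := N) (⟨x, hxX⟩ : ↥X)).1 h)
  have hord : addOrderOf q = p := addOrderOf_eq_prime (by
    show p • QuotientAddGroup.mk _ = (0 : ↥X ⧸ N)
    rw [← QuotientAddGroup.mk_nsmul, show p • (⟨x, hxX⟩ : ↥X) = 0 from Subtype.ext (hexp x)]
    rfl) hq
  obtain ⟨b, hb, hb0⟩ := hP.exists_fixed_point_of_prime_dvd_card_of_fixed_point (α := ↥X ⧸ N)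
    (hord ▸ addOrderOf_dvd_natCard q) (a := (0 : ↥X ⧸ N)) (fun g => map_zero (QuotientAddGroup.map N N (f g) (hf g)))
  induction b using QuotientAddGroup.induction_on with
  | H v =>
    refine ⟨v, v.2, fun h => hb0 ((QuotientAddGroup.eq_zero_iff (N := N) v).2 h).symm, fun g hg => ?_⟩
    have h := hb ⟨g, hg⟩
    change QuotientAddGroup.mk (f ⟨g, hg⟩ v) = (QuotientAddGroup.mk v : ↥X ⧸ N) at h
    rw [QuotientAddGroup.eq] at h
    have h' : -(g • (v : U)) + (v : U) ∈ Y := h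
    have := Y.neg_mem h'
    rwa [neg_add_rev, neg_neg, add_comm, ← sub_eq_add_neg] at this

/-- The vectors moved by a `p`-group do not generate. -/
theorem moves_ne_top (hexp : ∀ u : U, p • u = 0) {P : Subgroup H} (hP : IsPGroup p P) (hU : Nontrivial U) :
    moves U P ≠ ⊤ := by
  intro h
  obtain ⟨X, hXmem, hXmax⟩ := (Set.toFinite {X : AddSubgroup U | X ≠ ⊤ ∧ P ≤ stab X}).exists_maximal
    ⟨⊥, bot_ne_top, fun g _ x hx => by simp [AddSubgroup.mem_bot.1 hx]⟩
  obtain ⟨hXne, hXP⟩ := hXmem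
  obtain ⟨v, -, hvX, hv⟩ := exists_fix_mod hexp hP ⊤ X (fun g _ x _ => AddSubgroup.mem_top _) hXP
    (fun hle => hXne (top_le_iff.1 hle))
  let Y : AddSubgroup U :=
    { carrier := {w | ∀ g ∈ P, g • w - w ∈ X}
      zero_mem' := fun g _ => by simp
      add_mem' := fun {a b} ha hb g hg => by
        rw [smul_add, add_sub_add_comm]; exact X.add_mem (ha g hg) (hb g hg)
      neg_mem' := fun {a} ha g hg => by
        rw [smul_neg, show -(g • a) - -a = -(g • a - a) by abel]; exact X.neg_mem (ha g hg) }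
  have hXY : X ≤ Y := fun w hw g hg => X.sub_mem (hXP hg w hw) hw
  have hYP : P ≤ stab Y := fun g hg w hw => by
    have := Y.add_mem (hXY (hw g hg)) hw
    rwa [sub_add_cancel] at this
  have hY : Y = ⊤ := by
    by_contra hne
    exact hvX (hXmax ⟨hne, hYP⟩ hXY hv)
  refine hXne (top_le_iff.1 (h ▸ (AddSubgroup.closure_le X).2 ?_))
  rintro _ ⟨g, hg, w, rfl⟩
  exact (hY.symm ▸ AddSubgroup.mem_top w : w ∈ Y) g hg

/-- The hypotheses on the action and the Sylow subgroup. -/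
structure FFBase (U : Type v) [AddCommGroup U] [DistribMulAction H U] (p : ℕ) [Fact p.Prime] (T : Sylow p H)
    (M : Subgroup H) : Prop where
  odd : p ≠ 2
  expp : ∀ u : U, p • u = 0
  faith : ∀ g : H, (∀ u : U, g • u = u) → g = 1
  irred : ∀ X : AddSubgroup U, (∀ g : H, ∀ x ∈ X, g • x ∈ X) → X = ⊥ ∨ X = ⊤
  moved : ∃ g : H, ∃ u : U, g • u ≠ u
  tM : (T : Subgroup H) ≤ M
  mne : M ≠ ⊤
  leM : ∀ K : Subgroup H, (T : Subgroup H) ≤ K → K ≠ ⊤ → K ≤ M
  core : ∀ X : Subgroup H, X.Normal → IsPGroup p X → X = ⊥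
  exists_off : ∃ D : Subgroup H, D ≤ (T : Subgroup H) ∧ (∀ a ∈ D, ∀ b ∈ D, a * b = b * a) ∧ D ≠ ⊥ ∧
    Nat.card U ≤ Nat.card ↥D * Nat.card ↥(fixS U D)

/-- The hypotheses with the subgroup `T₁`. -/
structure FF (U : Type v) [AddCommGroup U] [DistribMulAction H U] (p : ℕ) [Fact p.Prime] (T : Sylow p H)
    (M T₁ : Subgroup H) : Prop extends FFBase U p T M where
  t1T : T₁ ≤ (T : Subgroup H)
  t1n : (T : Subgroup H) ≤ Subgroup.normalizer (T₁ : Set H)
  closure : ∀ N : Subgroup H, N.Normal → T₁ ≤ N → N = ⊤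
  hfix : ∀ w : U, (∀ D : Subgroup H, D ≤ (T : Subgroup H) → (∀ a ∈ D, ∀ b ∈ D, a * b = b * a) →
    Nat.card U ≤ Nat.card ↥D * Nat.card ↥(fixS U D) → w ∈ fixS U D) → w ∈ fixS U T₁

namespace FFBase

variable {T : Sylow p H} {M : Subgroup H}

theorem nontrivial (ff : FFBase U p T M) : Nontrivial U := by
  obtain ⟨g, u, h⟩ := ff.moved
  exact ⟨g • u, u, h⟩

theorem fix_top (ff : FFBase U p T M) {w : U} (h : ∀ g : H, g • w = w) : w = 0 := by
  rcases ff.irred (fixS U (⊤ : Subgroup H)) (fun g x hx => by rwa [hx g (Subgroup.mem_top _)]) with he | he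
  · exact AddSubgroup.mem_bot.1 (he ▸ (fun g _ => h g : w ∈ fixS U (⊤ : Subgroup H)))
  · obtain ⟨g, u, hgu⟩ := ff.moved
    exact absurd ((he.symm ▸ AddSubgroup.mem_top u : u ∈ fixS U (⊤ : Subgroup H)) g (Subgroup.mem_top g)) hgu

theorem le_M_of_stab (ff : FFBase U p T M) {X : AddSubgroup U} (hX : (T : Subgroup H) ≤ stab X) (hbot : X ≠ ⊥)
    (htop : X ≠ ⊤) : stab X ≤ M := by
  refine ff.leM _ hX fun h => ?_
  rcases ff.irred X (fun g => (h.symm ▸ Subgroup.mem_top g : g ∈ stab X)) with he | he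
  · exact hbot he
  · exact htop he

/-- The stabilizer of a vector fixed by `T`. -/
theorem mem_M_of_smul (ff : FFBase U p T M) {w : U} (hw : w ∈ fixS U (T : Subgroup H)) (hw0 : w ≠ 0) {g : H}
    (hg : g • w = w) : g ∈ M := by
  refine ff.leM (MulAction.stabilizer H w) (fun t ht => hw t ht) (fun h => ?_) hg
  exact hw0 (ff.fix_top fun g => MulAction.mem_stabilizer_iff.1 (h.symm ▸ Subgroup.mem_top g))

theorem exists_fix_T (ff : FFBase U p T M) : ∃ w ∈ fixS U (T : Subgroup H), w ≠ 0 := by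
  haveI := ff.nontrivial
  obtain ⟨w, -, hw, hfix⟩ := exists_fix_mod ff.expp T.2 (⊤ : AddSubgroup U) ⊥
    (fun g _ x _ => AddSubgroup.mem_top _) (fun g _ x hx => by simp [AddSubgroup.mem_bot.1 hx])
    (fun h => bot_ne_top (le_bot_iff.1 h).symm)
  exact ⟨w, fun g hg => sub_eq_zero.1 (AddSubgroup.mem_bot.1 (hfix g hg)), by simpa using hw⟩

theorem exists_conj_T (ff : FFBase U p T M) {P : Subgroup H} (hP : IsPGroup p P) (hPM : P ≤ M) :
    ∃ m ∈ M, ∀ g ∈ P, m * g * m⁻¹ ∈ (T : Subgroup H) := by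
  have hi : ¬ p ∣ (T : Subgroup H).relIndex M := fun h =>
    T.not_dvd_index (Subgroup.relIndex_mul_index ff.tM ▸ h.mul_right _)
  obtain ⟨m, hm, hle⟩ := CfsgLib.Fusion.exists_conj_le_of_not_dvd_relIndex T.2 ff.tM hi hP hPM
  exact ⟨m, hm, CfsgLib.Fusion.conjBy_le_iff.1 hle⟩

theorem T_ne_bot (ff : FFBase U p T M) : (T : Subgroup H) ≠ ⊥ := by
  obtain ⟨D, hDT, -, hD, -⟩ := ff.exists_off
  exact fun h => hD (le_bot_iff.1 (h ▸ hDT))

/-- An element moving every vector into the span moved by a `p`-subgroup of `M` is in `M`. -/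
theorem mem_M_of_moves (ff : FFBase U p T M) {P : Subgroup H} (hP : IsPGroup p P) (hPM : P ≤ M) {g : H}
    (hg : ∀ u : U, g • u - u ∈ moves U P) : g ∈ M := by
  obtain ⟨m, hm, hmP⟩ := ff.exists_conj_T hP hPM
  set W := moves U (T : Subgroup H) with hW
  have hstab : stab W ≤ M := by
    refine ff.le_M_of_stab (fun t ht x hx => moves_smul _ ht hx) (fun h => ff.T_ne_bot ?_)
      (moves_ne_top ff.expp T.2 ff.nontrivial)
    refine (Subgroup.eq_bot_iff_forall _).2 fun t ht => ff.faith t fun u => sub_eq_zero.1 ?_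
    exact AddSubgroup.mem_bot.1 (h ▸ sub_mem_moves ht u)
  have hmoves : ∀ z ∈ moves U P, m • z ∈ W := by
    intro z hz
    have hle : moves U P ≤ W.comap (DistribMulAction.toAddMonoidHom U m) := by
      refine (AddSubgroup.closure_le _).2 ?_
      rintro _ ⟨a, ha, u, rfl⟩
      show m • (a • u - u) ∈ W
      rw [smul_sub, show m • a • u = (m * a * m⁻¹) • m • u by rw [mul_smul, mul_smul, inv_smul_smul]]
      exact sub_mem_moves (hmP a ha) _
    exact hle hz
  have h1 : m * g * m⁻¹ ∈ M := hstab fun w hw => by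
    have := W.add_mem (hmoves _ (hg (m⁻¹ • w))) hw
    rw [smul_sub, smul_inv_smul, sub_add_cancel] at this
    rwa [mul_smul, mul_smul]
  simpa [mul_assoc] using M.mul_mem (M.mul_mem (M.inv_mem hm) h1) hm

/-- An element fixing every vector fixed by a `p`-subgroup of `M` is in `M`. -/
theorem mem_M_of_fix (ff : FFBase U p T M) {P : Subgroup H} (hP : IsPGroup p P) (hPM : P ≤ M) {g : H}
    (hg : ∀ u ∈ fixS U P, g • u = u) : g ∈ M := by
  obtain ⟨m, hm, hmP⟩ := ff.exists_conj_T hP hPM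
  obtain ⟨w, hw, hw0⟩ := ff.exists_fix_T
  have hw' : m⁻¹ • w ∈ fixS U P := fun a ha => by
    have := hw _ (hmP a ha)
    rw [mul_smul, mul_smul] at this
    exact (smul_eq_iff_eq_inv_smul m).1 this
  have h1 : m * g * m⁻¹ ∈ M := ff.mem_M_of_smul hw hw0 (by
    rw [mul_smul, mul_smul, hg _ hw', smul_inv_smul])
  simpa [mul_assoc] using M.mul_mem (M.mul_mem (M.inv_mem hm) h1) hm

/-- A family of minimal offenders gives the local data of a natural module. -/
theorem exists_offData (ff : FFBase U p T M) (S : Set (Subgroup H)) (hS : ∀ A ∈ S, ∀ g : H, conjBy g A ∈ S)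
    (hSp : ∀ A ∈ S, IsPGroup p A) (hSne : ∀ A ∈ S, A ≠ ⊥) (hScomm : ∀ A ∈ S, ∀ a ∈ A, ∀ b ∈ A, a * b = b * a)
    (hSoff : ∀ A ∈ S, Nat.card U ≤ Nat.card ↥A * Nat.card ↥(fixS U A))
    (hSstrict : ∀ A ∈ S, ∀ X : Subgroup H, X ≤ A → X ≠ ⊥ → X ≠ A →
      Nat.card ↥X * Nat.card ↥(fixS U X) < Nat.card ↥A * Nat.card ↥(fixS U A))
    (hex : ∃ A ∈ S, A ≤ (T : Subgroup H)) :
    ∃ (A L : Subgroup H) (T₀ : Sylow p ↥L) (m : H), A ∈ S ∧ m ∈ M ∧ A ≤ L ∧ ¬ L ≤ M ∧
      (∀ t ∈ (T₀ : Subgroup ↥L), m⁻¹ * (t : H) * m ∈ (T : Subgroup H)) ∧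
      OffData U p T₀ (M.subgroupOf L) (A.subgroupOf L) := by
  classical
  obtain ⟨A, L, T₀, m, hA, hm, hAL, hAM, hLM, hAT₀, hT₀M, hT₀T, hover, hgen⟩ :=
    CfsgLib.CFun.OffenderPair.exists_local T M ff.tM ff.mne ff.leM ff.core S hS hSp hSne hex
  refine ⟨A, L, T₀, m, hA, hm, hAL, hLM, hT₀T, ?_⟩
  set A' : Subgroup ↥L := A.subgroupOf L with hA'
  set M₀ : Subgroup ↥L := M.subgroupOf L with hM₀
  have hA'map : A'.map L.subtype = A := by
    rw [hA', Subgroup.subgroupOf_map_subtype, inf_eq_left.2 hAL]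
  have hcardA : Nat.card ↥A' = Nat.card ↥A := Nat.card_congr (Subgroup.subgroupOfEquivOfLe hAL).toEquiv
  have hfixA : fixS U A' = fixS U A := by rw [← CfsgLib.CFun.OffenderPair.fixS_map A', hA'map]
  have hvp : ∃ k : ℕ, ∀ u : U, p ^ k • u = 0 := ⟨1, by simpa using ff.expp⟩
  have hpow : ∀ a ∈ A, a ^ p = 1 := by
    intro a ha
    refine ff.faith _ fun u => ?_
    have hq : ∀ b ∈ A, ∀ w : U, b • w - w ∈ fixS U A := fun b hb w =>
      quadratic_of_strict (hScomm A hA) (fun c hc => by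
        obtain ⟨j, hj⟩ := hSp A hA ⟨c, hc⟩
        exact exists_iterate_sub_zero hp.out hvp (j := j) (congrArg Subtype.val hj))
        (hSoff A hA) (hSstrict A hA) hb w
    have hk : ∀ k : ℕ, a ^ k • u - u = k • (a • u - u) := by
      intro k
      induction k with
      | zero => simp
      | succ k ih =>
        have h2 := hq a ha u (a ^ k) (A.pow_mem ha k)
        rw [smul_sub, ← mul_smul, ← pow_succ] at h2
        rw [succ_nsmul, ← ih]
        linear_combination (norm := abel) h2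
    rw [← sub_eq_zero, hk, ff.expp]
  have hM₀ne : M₀ ≠ ⊤ := fun h => hLM fun x hx => by
    have h1 : (⟨x, hx⟩ : ↥L) ∈ M₀ := by rw [h]; exact Subgroup.mem_top _
    exact h1
  have hA'M : A' ≤ M₀ := fun a ha => hAM ha
  have hgen' : ∀ x : ↥L, x ∉ M₀ → A' ⊔ A'.map (MulAut.conj x).toMonoidHom = ⊤ := fun x hx => by
    apply Subgroup.map_injective L.subtype_injective
    rw [Subgroup.map_sup, hA'map, ← MonoidHom.range_eq_map, Subgroup.range_subtype, Subgroup.map_map]
    conv_rhs => rw [← hgen x x.2 hx]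
    congr 1
    conv_rhs => rw [← hA'map, conjBy, Subgroup.map_map]
    rfl
  refine
    { faith := fun g hg => Subtype.ext (ff.faith g hg)
      vp := hvp
      acomm := fun a ha b hb => Subtype.ext (hScomm A hA _ ha _ hb)
      apow := fun a ha => Subtype.ext (hpow _ ha)
      aT := hAT₀
      coatom := ⟨hM₀ne, fun K hK => by
        by_contra hKt
        exact hK.not_ge (hover K (hA'M.trans hK.le) hKt)⟩
      tM := hT₀M
      uniq := fun K hK hTK => by
        rcases (hover K (hAT₀.trans hTK) hK.1).eq_or_lt with h | h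
        · exact h
        · exact absurd (hK.2 _ h) hM₀ne
      notNormal := fun hn => by
        obtain ⟨x, hx, hxM⟩ := SetLike.not_le_iff_exists.1 hLM
        refine hM₀ne (top_le_iff.1 ((hgen' ⟨x, hx⟩ hxM).ge.trans (le_trans ?_ hT₀M)))
        refine sup_le hAT₀ ?_
        rintro _ ⟨a, ha, rfl⟩
        exact hn.conj_mem a (hAT₀ ha) _
      off := by rw [hcardA, hfixA]; exact hSoff A hA
      strict := fun X hX hXne hXA => by
        have h1 : X.map L.subtype ≤ A := hA'map ▸ Subgroup.map_mono hX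
        have h2 : X.map L.subtype ≠ ⊥ := fun h =>
          hXne ((Subgroup.map_eq_bot_iff_of_injective _ L.subtype_injective).1 h)
        have h3 : X.map L.subtype ≠ A := fun h =>
          hXA (Subgroup.map_injective L.subtype_injective (h.trans hA'map.symm))
        have h4 := hSstrict A hA _ h1 h2 h3
        rw [hcardA, hfixA]
        rwa [CfsgLib.CFun.OffenderPair.fixS_map, Subgroup.card_map_of_injective L.subtype_injective] at h4
      moved := ?_
      gen := hgen' }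
  obtain ⟨w, hw, hw0⟩ := ff.exists_fix_T
  refine ⟨m • w, fun t ht => ?_, fun h => ?_⟩
  · show (t : H) • m • w = m • w
    have h2 := hw _ (hT₀T t ht)
    rwa [mul_smul, mul_smul, inv_smul_eq_iff] at h2
  · refine hLM fun x hx => ?_
    have h2 : x • m • w = m • w := h ⟨x, hx⟩ (Subgroup.mem_top _)
    have h3 : m⁻¹ * x * m ∈ M := ff.mem_M_of_smul hw hw0 (by
      rw [mul_smul, mul_smul, h2, inv_smul_smul])
    simpa [mul_assoc] using M.mul_mem (M.mul_mem hm h3) (M.inv_mem hm)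

/-- No abelian `p`-subgroup is more than an offender. -/
theorem no_over (ff : FFBase U p T M) {D : Subgroup H} (hD : IsPGroup p D)
    (hcomm : ∀ a ∈ D, ∀ b ∈ D, a * b = b * a) :
    Nat.card ↥D * Nat.card ↥(fixS U D) ≤ Nat.card U := by
  classical
  by_contra hlt
  rw [not_le] at hlt
  set Q : Subgroup H → Prop := fun A => IsPGroup p A ∧ (∀ a ∈ A, ∀ b ∈ A, a * b = b * a) ∧
    Nat.card U < Nat.card ↥A * Nat.card ↥(fixS U A)
  set S : Set (Subgroup H) := {A | Q A ∧ ∀ X : Subgroup H, X ≤ A → Q X → A ≤ X}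
  obtain ⟨A₀, hA₀, hA₀m⟩ := (Set.toFinite {A : Subgroup H | A ≤ D ∧ Q A}).exists_minimal
    ⟨D, le_rfl, hD, hcomm, hlt⟩
  have hA₀S : A₀ ∈ S := ⟨hA₀.2, fun X hX hQ => hA₀m ⟨hX.trans hA₀.1, hQ⟩ hX⟩
  have hcard : ∀ (g : H) (X : Subgroup H), Nat.card ↥(conjBy g X) = Nat.card ↥X := fun g X =>
    CfsgLib.Fusion.card_conjBy g X
  have hfix : ∀ (g : H) (X : Subgroup H),
      Nat.card ↥(fixS U (conjBy g X)) = Nat.card ↥(fixS U X) := fun g X => by
    rw [conjBy, fixS_conj, card_tr]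
  have hQc : ∀ (g : H) (X : Subgroup H), Q X → Q (conjBy g X) := fun g X hX => by
    refine ⟨CfsgLib.Fusion.isPGroup_conjBy g hX.1, ?_, by rw [hcard, hfix]; exact hX.2.2⟩
    rintro _ ⟨a, ha, rfl⟩ _ ⟨b, hb, rfl⟩
    rw [← map_mul, ← map_mul, hX.2.1 a ha b hb]
  have hS : ∀ A ∈ S, ∀ g : H, conjBy g A ∈ S := fun A hA g => by
    refine ⟨hQc g A hA.1, fun X hX hQ => ?_⟩
    have h1 : conjBy g⁻¹ X ≤ A := by
      rw [← CfsgLib.Fusion.conjBy_inv_conjBy g A]
      exact CfsgLib.Fusion.conjBy_mono hX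
    rw [← CfsgLib.Fusion.conjBy_conjBy_inv g X]
    exact CfsgLib.Fusion.conjBy_mono (hA.2 _ h1 (hQc _ _ hQ))
  have hSne : ∀ A ∈ S, A ≠ ⊥ := by
    rintro A hA rfl
    have h1 := hA.1.2.2
    rw [Subgroup.card_bot, one_mul] at h1
    exact h1.not_ge (AddSubgroup.card_le_card_addGroup _)
  have hex : ∃ A ∈ S, A ≤ (T : Subgroup H) := by
    obtain ⟨P, hP⟩ := hA₀S.1.1.exists_le_sylow
    obtain ⟨g, rfl⟩ := MulAction.exists_smul_eq H T P
    refine ⟨conjBy g⁻¹ A₀, hS _ hA₀S _, ?_⟩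
    rw [CfsgLib.Fusion.conjBy_le_iff]
    intro a ha
    obtain ⟨t, ht, hta⟩ := hP ha
    rw [← hta]
    have ht' : t ∈ (T : Subgroup H) := ht
    simpa [mul_assoc] using ht'
  obtain ⟨A, L, T₀, m, hA, -, hAL, hLM, -, hd⟩ := ff.exists_offData S hS (fun A hA => hA.1.1) hSne
    (fun A hA => hA.1.2.1) (fun A hA => hA.1.2.2.le) (fun A hA X hX hXne hXA => by
      refine lt_of_le_of_lt ?_ hA.1.2.2
      by_contra h
      exact hXA (le_antisymm hX (hA.2 X hX ⟨hA.1.1.to_le hX,
        fun a ha b hb => hA.1.2.1 a (hX ha) b (hX hb), not_le.1 h⟩))) hex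
  obtain ⟨x, hx⟩ := hd.exists_notMem
  obtain ⟨htop, hW, -, -⟩ := hd.surj_card hx
  have h2 := CfsgLib.Char.NatSL.card_sup_mul_card_inf (fixS U (A.subgroupOf L))
    (CfsgLib.Char.NatSL.tr x (fixS U (A.subgroupOf L)))
  rw [htop, hd.inf_eq hx, AddSubgroup.card_top, card_tr] at h2
  have hcardA : Nat.card ↥(A.subgroupOf L) = Nat.card ↥A :=
    Nat.card_congr (Subgroup.subgroupOfEquivOfLe hAL).toEquiv
  have hfixA : fixS U (A.subgroupOf L) = fixS U A := by
    rw [← CfsgLib.CFun.OffenderPair.fixS_map (A.subgroupOf L), Subgroup.subgroupOf_map_subtype,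
      inf_eq_left.2 hAL]
  nth_rewrite 2 [hW] at h2
  rw [← mul_assoc] at h2
  have h3 := Nat.eq_of_mul_eq_mul_right Nat.card_pos h2
  rw [hcardA, hfixA, mul_comm] at h3
  exact absurd (h3 ▸ hA.1.2.2) (lt_irrefl _)

end FFBase

end CfsgLib.FocalThree
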