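import Cfsg.Agent.Lib.CFun.FocalThree.Functors
import Cfsg.Agent.Lib.CFun.SectionInd
import Cfsg.Agent.Lib.CFun.SectionRed
import Cfsg.Agent.Lib.CFun.MinFail
import Cfsg.Agent.Lib.FourFree.Basics
import Cfsg.Agent.S1984
import Mathlib.GroupTheory.Focal

/-!
# The focal subgroup at the prime three and at odd primes, given that there is no minimal failure
-/

set_option autoImplicit false
set_option linter.style.haveILetI false

open Subgroup
open scoped Pointwise commutatorElement
open CfsgLib.CFun (Ctrl MinFail exists_minFail ctrl_iff indFam famSup cfun_normalizer_le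
  isConjugacyFunctor_induced controlsTransferIn_iff_ctrl)

namespace CfsgLib.FocalThree

universe u

variable {G : Type u} [Group G] [Finite G]

/-- If `C` is normalized by `N` and contains the Sylow subgroup `P`, then inside `P` the derived
subgroup of `N` lies in those of `C` and of the normalizer of `P`. -/
theorem inf_commutator_le {p : ℕ} [Fact p.Prime] (P : Sylow p G) {C N : Subgroup G}
    (hPC : (P : Subgroup G) ≤ C) (hCN : C ≤ N) (hnorm : ∀ g ∈ N, ∀ x ∈ C, g * x * g⁻¹ ∈ C) :
    (P : Subgroup G) ⊓ ⁅N, N⁆ ≤ ((P : Subgroup G) ⊓ ⁅C, C⁆) ⊔ ((P : Subgroup G) ⊓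
      ⁅normalizer ((P : Subgroup G) : Set G), normalizer ((P : Subgroup G) : Set G)⁆) := by
  rintro x ⟨hxP, hxN⟩
  have hPN : (P : Subgroup G) ≤ N := hPC.trans hCN
  let S : Sylow p N := P.subtype hPN
  have hSc : ∀ y : N, y ∈ (S : Subgroup N) ↔ (y : G) ∈ (P : Subgroup G) := fun y => Iff.rfl
  have hxNN : x ∈ (commutator N).map N.subtype := by rwa [N.map_subtype_commutator]
  obtain ⟨y, hy, rfl⟩ := hxNN
  have hyf : y ∈ (S : Subgroup N).focalSubgroup := by
    rw [← commutator_inf_eq_focalSubgroup]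
    exact mem_inf.2 ⟨hy, (hSc y).2 hxP⟩
  suffices h : (S : Subgroup N).focalSubgroup ≤ (((P : Subgroup G) ⊓ ⁅C, C⁆) ⊔ ((P : Subgroup G) ⊓
      ⁅normalizer ((P : Subgroup G) : Set G),
        normalizer ((P : Subgroup G) : Set G)⁆)).comap N.subtype from h hyf
  rw [focalSubgroup_def, closure_le]
  rintro _ ⟨hg, a, ha, u, rfl⟩
  rw [SetLike.mem_coe, mem_comap, Subgroup.subtype_apply]
  replace hg : ((⁅a, u⁆ : N) : G) ∈ (P : Subgroup G) := (hSc _).1 hg
  replace ha : (a : G) ∈ (P : Subgroup G) := (hSc a).1 ha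
  have hi : ¬ p ∣ (P : Subgroup G).relIndex C := fun hd =>
    P.not_dvd_index (hd.trans (relIndex_dvd_index_of_le hPC))
  obtain ⟨c, hc, hn⟩ := CfsgLib.FourFree.frattini_rel P.2 hPC hi hnorm u.2
  set n := c * (u : G) with hndef
  set b := n * (a : G) * n⁻¹ with hbdef
  have hbP : b ∈ (P : Subgroup G) := (mem_normalizer_iff.1 hn _).1 ha
  have e : ((⁅a, u⁆ : N) : G) = ⁅(a : G), n⁆ * ⁅b, c⁻¹⁆ := by
    rw [hbdef, hndef]
    simp only [commutatorElement_def, Subgroup.coe_mul, Subgroup.coe_inv]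
    group
  have h1 : ⁅(a : G), n⁆ ∈ (P : Subgroup G) := by
    rw [show ⁅(a : G), n⁆ = a * b⁻¹ by rw [hbdef, commutatorElement_def]; group]
    exact mul_mem ha (inv_mem hbP)
  have h2 : ⁅b, c⁻¹⁆ ∈ (P : Subgroup G) := by
    rw [show ⁅b, c⁻¹⁆ = ⁅(a : G), n⁆⁻¹ * ((⁅a, u⁆ : N) : G) by rw [e]; group]
    exact mul_mem (inv_mem h1) hg
  rw [e]
  exact mul_mem (mem_sup_right (mem_inf.2 ⟨h1, commutator_mem_commutator (le_normalizer ha) hn⟩))
    (mem_sup_left (mem_inf.2 ⟨h2, commutator_mem_commutator (hPC hbP) (inv_mem hc)⟩))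

/-- The focal subgroup at the prime three. -/
theorem focal_eq
    (hmin : ∀ (G : Type u) [Group G] [Finite G], MinFail (G := G) 3 (zkFam.{u} 3) → False)
    (P : Sylow 3 G) :
    (P : Subgroup G) ⊓ commutator G =
      ((P : Subgroup G) ⊓ ⁅centralizer (((P : Subgroup G) ⊓ centralizer ((P : Subgroup G) : Set G) :
          Subgroup G) : Set G), centralizer (((P : Subgroup G) ⊓
          centralizer ((P : Subgroup G) : Set G) : Subgroup G) : Set G)⁆) ⊔
        ((P : Subgroup G) ⊓ ⁅normalizer ((Cfsg.inducedFunctor (kFun 3) (P : Subgroup G) : Subgroup G) :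
          Set G), normalizer ((Cfsg.inducedFunctor (kFun 3) (P : Subgroup G) : Subgroup G) : Set G)⁆) := by
  haveI : Fact (Nat.Prime 3) := ⟨Nat.prime_three⟩
  have hK : Cfsg.IsConjugacyFunctor 3 (Cfsg.inducedFunctor (G := G) (kFun 3)) :=
    isConjugacyFunctor_induced kFun_isCharPFunctor
  have hctrl : Ctrl 3 (zkFam.{u} 3) G := by
    by_contra h
    obtain ⟨K', R', hR', hm⟩ := exists_minFail zkFam_char ⟨zFun, Or.inl rfl⟩ h
    exact hmin _ hm
  refine le_antisymm ?_ (sup_le ?_ ?_)
  · rw [(ctrl_iff zkFam_char P).1 hctrl]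
    refine iSup₂_le ?_
    rintro W ⟨W', hW', rfl⟩
    simp only [top_inf_eq]
    rcases hW' with rfl | rfl
    · rw [induced_zFun]
      set Z := (P : Subgroup G) ⊓ centralizer ((P : Subgroup G) : Set G) with hZ
      refine (inf_commutator_le P (C := centralizer (Z : Set G)) ?_ (centralizer_le_normalizer _) ?_).trans ?_
      · intro x hx
        exact mem_centralizer_iff.2 fun z hz => (mem_centralizer_iff.1 (mem_inf.1 hz).2 x hx).symm
      · intro g hg x hx
        refine mem_centralizer_iff.2 fun z hz => ?_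
        have hz' : g⁻¹ * z * g ∈ Z := (mem_normalizer_iff''.1 hg z).1 hz
        have := mem_centralizer_iff.1 hx _ hz'
        calc z * (g * x * g⁻¹) = g * ((g⁻¹ * z * g) * x) * g⁻¹ := by group
          _ = g * (x * (g⁻¹ * z * g)) * g⁻¹ := by rw [this]
          _ = g * x * g⁻¹ * z := by group
      · exact sup_le_sup le_rfl (inf_le_inf le_rfl
          (commutator_mono (cfun_normalizer_le hK P.2) (cfun_normalizer_le hK P.2)))
    · exact le_sup_right
  all_goals
    refine inf_le_inf le_rfl ?_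
    rw [commutator_def]
    exact commutator_mono le_top le_top

/-- One characteristic subgroup beside the centre carries the transfer at the prime three. -/
theorem exists_char_K
    (hmin : ∀ (G : Type u) [Group G] [Finite G], MinFail (G := G) 3 (zkFam.{u} 3) → False)
    {S : Type u} [Group S] [Finite S] [Nontrivial S] (hS : IsPGroup 3 S) :
    ∃ K : Subgroup S, K ≠ ⊥ ∧ K.Characteristic ∧ ∀ (G : Type u) [Group G] [Finite G] (τ : S →* G), Function.Injective τ → (∃ P : Sylow 3 G, (P : Subgroup G) = τ.range) → ∀ g : G, g ∈ τ.range ⊓ commutator G ↔ ∃ a ∈ τ.range ⊓ ⁅Subgroup.centralizer ((τ.range ⊓ Subgroup.centralizer (τ.range : Set G) : Subgroup G) : Set G), Subgroup.centralizer ((τ.range ⊓ Subgroup.centralizer (τ.range : Set G) : Subgroup G) : Set G)⁆, ∃ b ∈ τ.range ⊓ ⁅Subgroup.normalizer ((K.map τ : Subgroup G) : Set G), Subgroup.normalizer ((K.map τ : Subgroup G) : Set G)⁆, g = a * b := by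
  haveI : Fact (Nat.Prime 3) := ⟨Nat.prime_three⟩
  have hk := kFun_isCharPFunctor.{u} (p := 3)
  refine ⟨kFun 3 S, hk.1 S hS inferInstance, characteristic_iff_map_eq.2 fun φ => hk.2 S S hS φ, ?_⟩
  intro G _ _ τ hτ hP
  obtain ⟨P, hP⟩ := hP
  have hKm : (kFun 3 S).map τ = Cfsg.inducedFunctor (kFun 3) τ.range := by
    show _ = (kFun 3 ↥τ.range).map τ.range.subtype
    rw [← hk.2 S τ.range hS (MonoidHom.ofInjective hτ), Subgroup.map_map]
    rfl
  intro g
  rw [hKm, ← hP, focal_eq hmin P]
  set A := (P : Subgroup G) ⊓ ⁅centralizer (((P : Subgroup G) ⊓ centralizer ((P : Subgroup G) : Set G) :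
          Subgroup G) : Set G), centralizer (((P : Subgroup G) ⊓
          centralizer ((P : Subgroup G) : Set G) : Subgroup G) : Set G)⁆ with hA
  set B := (P : Subgroup G) ⊓ ⁅normalizer ((Cfsg.inducedFunctor (kFun 3) (P : Subgroup G) :
      Subgroup G) : Set G), normalizer ((Cfsg.inducedFunctor (kFun 3) (P : Subgroup G) : Subgroup G) :
          Set G)⁆ with hB
  have hBA : B ≤ normalizer (A : Set G) := by
    set C := centralizer (((P : Subgroup G) ⊓ centralizer ((P : Subgroup G) : Set G) : Subgroup G) :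
      Set G) with hC
    have hPC : (P : Subgroup G) ≤ C := fun x hx =>
      mem_centralizer_iff.2 fun z hz => (mem_centralizer_iff.1 (mem_inf.1 hz).2 x hx).symm
    intro b hb
    have hbP : b ∈ (P : Subgroup G) := (mem_inf.1 hb).1
    refine mem_normalizer_iff.2 fun x => ⟨fun hx => ?_, fun hx => ?_⟩
    · refine mem_inf.2 ⟨mul_mem (mul_mem hbP (mem_inf.1 hx).1) (inv_mem hbP), ?_⟩
      exact (mem_normalizer_iff.1
        (le_normalizer_commutator_self C (hPC hbP)) x).1 (mem_inf.1 hx).2
    · refine mem_inf.2 ⟨?_, (mem_normalizer_iff.1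
        (le_normalizer_commutator_self C (hPC hbP)) x).2 (mem_inf.1 hx).2⟩
      have := mul_mem (mul_mem (inv_mem hbP) (mem_inf.1 hx).1) hbP
      simpa [mul_assoc] using this
  have key : (↑(A ⊔ B) : Set G) = (A : Set G) * B := coe_mul_of_right_le_normalizer_left A B hBA
  rw [← SetLike.mem_coe, key, Set.mem_mul]
  simp only [SetLike.mem_coe, eq_comm]
where
  le_normalizer_commutator_self {G : Type u} [Group G] (C : Subgroup G) :
      C ≤ normalizer ((⁅C, C⁆ : Subgroup G) : Set G) := by
    rw [← C.map_subtype_commutator]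
    intro c hc
    haveI : (commutator C).Normal := inferInstance
    have h := le_normalizer_map (H := commutator C) C.subtype
      (mem_map_of_mem C.subtype (show (⟨c, hc⟩ : C) ∈ normalizer (commutator C : Set C) by
        rw [normalizer_eq_top]; exact mem_top _))
    exact h

/-- At an odd prime the focal subgroup is generated by the characteristic normalizers. -/
theorem focal_eq_iSup_char
    (hmin : ∀ (G : Type u) [Group G] [Finite G], MinFail (G := G) 3 (zkFam.{u} 3) → False)
    {G : Type u} [Group G] [Finite G] {p : ℕ} [Fact p.Prime] (hp : p ≠ 2) (S : Sylow p G)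
    (hS : (S : Subgroup G) ≠ ⊥) :
    (S : Subgroup G) ⊓ commutator G = ⨆ K : {K : Subgroup ↥(S : Subgroup G) // K ≠ ⊥ ∧ K.Characteristic}, (S : Subgroup G) ⊓ ⁅Subgroup.normalizer ((((K : Subgroup ↥(S : Subgroup G))).map (S : Subgroup G).subtype : Subgroup G) : Set G), Subgroup.normalizer ((((K : Subgroup ↥(S : Subgroup G))).map (S : Subgroup G).subtype : Subgroup G) : Set G)⁆ := by
  refine le_antisymm ?_ (iSup_le fun K => inf_le_inf le_rfl (by
    rw [commutator_def]; exact commutator_mono le_top le_top))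
  haveI : Nontrivial ↥(S : Subgroup G) := (nontrivial_iff_ne_bot _).2 hS
  have member : ∀ W : ∀ (Q : Type u) [Group Q], Subgroup Q, Cfsg.IsCharPFunctor.{u} p W →
      ∀ N : Subgroup G, N ≤ normalizer ((Cfsg.inducedFunctor W (S : Subgroup G) : Subgroup G) : Set G) →
      (S : Subgroup G) ⊓ ⁅N, N⁆ ≤ ⨆ K : {K : Subgroup ↥(S : Subgroup G) // K ≠ ⊥ ∧ K.Characteristic}, (S : Subgroup G) ⊓ ⁅Subgroup.normalizer ((((K : Subgroup ↥(S : Subgroup G))).map (S : Subgroup G).subtype : Subgroup G) : Set G), Subgroup.normalizer ((((K : Subgroup ↥(S : Subgroup G))).map (S : Subgroup G).subtype : Subgroup G) : Set G)⁆ := by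
    intro W hW N hN
    refine le_trans (inf_le_inf le_rfl (commutator_mono hN hN)) ?_
    exact le_iSup_of_le ⟨W ↥(S : Subgroup G), hW.1 _ S.2 inferInstance,
      characteristic_iff_map_eq.2 fun φ => hW.2 _ _ S.2 φ⟩ le_rfl
  rcases eq_or_ne p 3 with rfl | hp3
  · rw [focal_eq hmin S]
    refine sup_le (member zFun zFun_isCharPFunctor _ ?_) (member (kFun 3) kFun_isCharPFunctor _ le_rfl)
    rw [induced_zFun]
    exact centralizer_le_normalizer _
  · have hp5 : 5 ≤ p := by
      have := (Fact.out : p.Prime).two_le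
      by_contra hlt
      interval_cases p <;> first | exact hp rfl | exact hp3 rfl |
        exact absurd (Fact.out : Nat.Prime 4) (by norm_num)
    have hW : Cfsg.IsCharPFunctor.{u} p Cfsg.kInfLower := CfsgLib.CFun.kInfLower_isCharPFunctor
    have h := controlsTransferIn_iff_ctrl.1 (Cfsg.Agent.S1984.result (G := G) hp5)
    rw [(ctrl_iff (fun W' hW' => Set.mem_singleton_iff.1 hW' ▸ hW) S).1 h]
    refine iSup₂_le ?_
    rintro W ⟨W', hW', rfl⟩
    rw [Set.mem_singleton_iff] at hW'
    subst hW'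
    exact member _ hW _ inf_le_right

end CfsgLib.FocalThree
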